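import Cfsg.Agent.H995.CopLarge
import Cfsg.Agent.H510.OA.Chev
import Cfsg.Agent.S4613
import Cfsg.Prelude.Def_Classical
import Mathlib
import Cfsg.Agent.H260.Psl
import Cfsg.Agent.TwoFusion.SLTwoFacts
import Cfsg.Agent.ClassicalGeometry.PSL2Klein
import Cfsg.Agent.ClassicalGeometry.PSL2Solvable
import Cfsg.Agent.ClassicalGeometry.PSUAutBasic
import Cfsg.Agent.LieClassical.HermPerfect
import Cfsg.Agent.H307.HermCW
import Cfsg.Agent.SignalizersComponents.BalEndSz
import Cfsg.Agent.Walter.LastCase_mg_m3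
import Cfsg.Agent.S1162
import Cfsg.Agent.S1163
import Cfsg.Prelude.Def_Classification2
import Cfsg.Agent.H129.RealE7_m3
import Cfsg.Agent.H129.CycRow
import Cfsg.Agent.H129.DataF4
import Cfsg.Agent.H129.DataG2
import Cfsg.Agent.KFacts.Th.Main
import Cfsg.Agent.MonsterX.ThOneClass
import Cfsg.Agent.H16.NunFi24
import Cfsg.Agent.H603.SporElim
import Cfsg.Agent.H995.CopSmall
import Cfsg.Agent.H865.RhoEleven
import Cfsg.Agent.H845.CopLy
import Cfsg.Agent.HoltZ.CentHe
import Cfsg.Agent.HoltZ.Crit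
import Cfsg.Agent.KFacts.HS.Sheet2_m3
import Cfsg.Agent.KFacts.Ru.Core
import Cfsg.Agent.Held.HeldCardEq_m3
import Cfsg.Agent.RuRed.Final768_m3
import Cfsg.Agent.RuD.IdxPermG_m3
import Cfsg.Agent.OddHalf.D5.DblClean_m3
import Cfsg.Agent.BpRankZero.MRow
import Cfsg.Agent.Mrg.Omega.TwoF.RowHN_m3
import Cfsg.Agent.SmallSimple.ClassDvd
import Cfsg.Agent.KFacts.HN.Sheet
import Cfsg.Agent.SigZeroHN.Main
import Cfsg.Agent.KFacts.SuzLarge
import Cfsg.Agent.SporadicRecognition.SuzOrder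
import Cfsg.Agent.SuzThree.CentCard
import Cfsg.Agent.H995.CopM
import Cfsg.Agent.H995.CopB
import Cfsg.Agent.H845.CopTits
import Cfsg.Agent.H461.Cop.McL
import Cfsg.Agent.H461.Cop.ON
import Cfsg.Agent.H604.Cop.Conway
import Cfsg.Agent.FastGrp
import Cfsg.Agent.Prune
set_option linter.all false

section
prune_inst 0x7ffeb9f8ebb83ddedfff7e77fe99dffc19905fffe6dff94b7fe06bff0b9f030809c5fbad0de010fe1ed6e29410b87853fb7eeeffea6fd87ffffd1ff41ffbee4ff5f7b508519e88b40fbc0fff03f0778e7f3fffffffffffffffffffffffffffbeffffffffffff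

-- part: H530/Line_mg
section
prune_inst 0x40300458001000000000144000020010000002004000000000010600094000004000010a001412100088000000000811000000024000000e000400000100000080020000400000000006000000000000000000000000000000000000000000000000000
set_option linter.all false
open scoped Cfsg.Agent.FastGrp

-- part: H530/Pair
section
/-!
# Transitivity on objects attached to `p`-subgroups (helper530, for S4158)

`exists_pair` : let `x`, `y` have coprime class sizes, `p ∤ |x^G|`, and let `U o` be `p`-subgroups (`o : O`). For all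
`o`, `o'` there are a conjugate `z` of `x` and `c ∈ C(y)` such that `z` centralizes `U o` and `c z c⁻¹` centralizes
`U o'`. (Use: if `z` determines the geometric object `o` then `c` maps `o` to `o'`.)
-/

set_option autoImplicit false

namespace Cfsg.Agent.H530.Cop

open Subgroup

variable {G : Type*} [Group G]

theorem exists_pair [Finite G] {p : ℕ} (hp : p.Prime) {x y : G} (hc : (ci x).Coprime (ci y)) (hpx : ¬ p ∣ ci x)
    {O : Type*} (U : O → Subgroup G) (hU : ∀ o, IsPGroup p (U o)) (o o' : O) :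
    ∃ z c : G, c * y = y * c ∧ (∃ g : G, z = g * x * g⁻¹) ∧ (∀ u ∈ U o, u * z = z * u) ∧
      ∀ u ∈ U o', u * (c * z * c⁻¹) = c * z * c⁻¹ * u := by
  obtain ⟨g, hg⟩ := exists_conj_le hp hpx (hU o)
  obtain ⟨g', hg'⟩ := exists_conj_le hp hpx (hU o')
  obtain ⟨a, ha, ha'⟩ := exists_conj hc g
  obtain ⟨b, hb, hb'⟩ := exists_conj hc g'
  refine ⟨g * x * g⁻¹, b * a⁻¹, ?_, ⟨g, rfl⟩, hg, ?_⟩
  · have h1 : a⁻¹ * y = y * a⁻¹ := by
      calc a⁻¹ * y = a⁻¹ * (y * a) * a⁻¹ := by group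
        _ = a⁻¹ * (a * y) * a⁻¹ := by rw [ha]
        _ = _ := by group
    rw [mul_assoc, h1, ← mul_assoc, hb, mul_assoc]
  · have h2 : b * a⁻¹ * (g * x * g⁻¹) * (b * a⁻¹)⁻¹ = g' * x * g'⁻¹ := by
      rw [ha', hb']
      group
    rw [h2]
    exact hg'

section Lift

variable {K : Type*} [Group K]

/-- lifts of commuting elements -/
theorem exists_zeta {a b : K} (h : (a : K ⧸ center K) * (b : K ⧸ center K) = b * a) :
    ∃ ζ ∈ center K, a * b = ζ * (b * a) := by
  rw [← QuotientGroup.mk_mul, ← QuotientGroup.mk_mul, QuotientGroup.eq] at h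
  refine ⟨(b * a) * ((a * b)⁻¹ * (b * a))⁻¹ * (b * a)⁻¹, ?_, by group⟩
  exact (inferInstance : (center K).Normal).conj_mem _ (inv_mem h) _

/-- an element whose image commutes with the image of a `p`-element `u` commutes with `u` -/
theorem comm_of_comm {p : ℕ} (hZ : ∀ z ∈ center K, ∀ k : ℕ, z ^ p ^ k = 1 → z = 1) {u x : K} {k : ℕ}
    (hu : u ^ p ^ k = 1) (h : (u : K ⧸ center K) * (x : K ⧸ center K) = x * u) : u * x = x * u := by
  obtain ⟨ζ, hζ, he⟩ := exists_zeta h
  have hc : ∀ g, ζ * g = g * ζ := fun g => (mem_center_iff.1 hζ g).symm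
  have h1 : x⁻¹ * u * x = ζ * u := by
    calc x⁻¹ * u * x = x⁻¹ * (u * x) := by group
      _ = x⁻¹ * (ζ * (x * u)) := by rw [he]
      _ = x⁻¹ * (ζ * x) * u := by group
      _ = x⁻¹ * (x * ζ) * u := by rw [hc]
      _ = ζ * u := by group
  have h2 : (x⁻¹ * u * x) ^ p ^ k = 1 := by
    have h3 : (x⁻¹ * u * x) ^ p ^ k = x⁻¹ * u ^ p ^ k * x := by
      have := conj_pow (i := p ^ k) (a := x⁻¹) (b := u)
      rwa [inv_inv] at this
    rw [h3, hu]
    group
  have h3 : (ζ * u) ^ p ^ k = ζ ^ p ^ k * u ^ p ^ k := (show Commute ζ u from hc u).mul_pow _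
  rw [← h1, h2, hu, mul_one] at h3
  rw [he, hZ ζ hζ k h3.symm, one_mul]

end Lift

end Cfsg.Agent.H530.Cop
end

-- part: H530/LinTools
section
/-!
# Linear algebra for the classical groups (helper530, for S4158)

* `exists_smul_of_annih` : double annihilator of a vector; `exists_scalar` : a matrix with all vectors as
  eigenvectors is scalar; `exists_ne_of_card` : a common zero of two linear forms in three variables;
* `det_tv` : `det (1 + v ⊗ g) = 1` if `g v = 0`;
* `pow_of_cube` : in characteristic `p`, `(u - 1) ^ 3 = 0` implies `u ^ p ^ 2 = 1`.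
-/

set_option autoImplicit false
set_option linter.unusedSectionVars false

namespace Cfsg.Agent.H530.LinTools

open Matrix

variable {F : Type*} [Field F] {ι : Type*} [Fintype ι] [DecidableEq ι]

/-- double annihilator of a vector -/
theorem exists_smul_of_annih {v u : ι → F} (hv : v ≠ 0) (h : ∀ g : ι → F, g ⬝ᵥ v = 0 → g ⬝ᵥ u = 0) :
    ∃ c : F, u = c • v := by
  obtain ⟨i, hi⟩ := Function.ne_iff.1 hv
  have hi' : v i ≠ 0 := hi
  refine ⟨u i / v i, ?_⟩
  funext j
  have h1 := h (v i • Pi.single j 1 - v j • Pi.single i 1) (by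
    rw [sub_dotProduct, smul_dotProduct, smul_dotProduct, single_one_dotProduct, single_one_dotProduct,
      smul_eq_mul, smul_eq_mul]; ring)
  rw [sub_dotProduct, smul_dotProduct, smul_dotProduct, single_one_dotProduct, single_one_dotProduct,
    smul_eq_mul, smul_eq_mul, sub_eq_zero] at h1
  rw [Pi.smul_apply, smul_eq_mul]
  field_simp
  linear_combination h1

/-- a matrix with all vectors as eigenvectors is scalar -/
theorem exists_scalar {A : Matrix ι ι F} (h : ∀ v : ι → F, ∃ c : F, A *ᵥ v = c • v) :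
    ∃ c : F, A = scalar ι c := by
  rcases isEmpty_or_nonempty ι with he | ⟨⟨i⟩⟩
  · exact ⟨0, Subsingleton.elim _ _⟩
  choose a ha using h
  refine ⟨a (Pi.single i 1), ?_⟩
  have key : ∀ j, a (Pi.single j 1) = a (Pi.single i 1) := by
    intro j
    by_cases hij : j = i
    · rw [hij]
    have h1 := ha (Pi.single i 1 + Pi.single j 1)
    rw [mulVec_add, ha, ha] at h1
    have h2 := congrFun h1 i
    have h3 := congrFun h1 j
    simp only [Pi.add_apply, Pi.smul_apply, smul_eq_mul, Pi.single_eq_same, mul_one,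
      Pi.single_eq_of_ne hij, Pi.single_eq_of_ne (Ne.symm hij), mul_zero, add_zero, zero_add] at h2 h3
    rw [h2, h3]
  ext j k
  have h1 := congrFun (ha (Pi.single k 1)) j
  rw [mulVec_single_one, key k] at h1
  rw [show A j k = _ from h1, scalar_apply]
  by_cases hjk : j = k
  · subst hjk; simp
  · simp [hjk]

/-- a common zero of two linear forms -/
theorem exists_ne_of_card (h3 : 3 ≤ Fintype.card ι) (a b : ι → F) : ∃ f : ι → F, f ≠ 0 ∧ f ⬝ᵥ a = 0 ∧ f ⬝ᵥ b = 0 := by
  let φ : (ι → F) →ₗ[F] (Fin 2 → F) :=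
    { toFun := fun f => ![f ⬝ᵥ a, f ⬝ᵥ b]
      map_add' := by
        intro f g
        funext k
        fin_cases k
        · change (f + g) ⬝ᵥ a = f ⬝ᵥ a + g ⬝ᵥ a; rw [add_dotProduct]
        · change (f + g) ⬝ᵥ b = f ⬝ᵥ b + g ⬝ᵥ b; rw [add_dotProduct]
      map_smul' := by
        intro c f
        funext k
        fin_cases k
        · change (c • f) ⬝ᵥ a = c * (f ⬝ᵥ a); rw [smul_dotProduct, smul_eq_mul]
        · change (c • f) ⬝ᵥ b = c * (f ⬝ᵥ b); rw [smul_dotProduct, smul_eq_mul] }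
  have h1 : LinearMap.ker φ ≠ ⊥ := LinearMap.ker_ne_bot_of_finrank_lt (by simp; omega)
  obtain ⟨f, hf, hf0⟩ := Submodule.exists_mem_ne_zero_of_ne_bot h1
  have h2 : φ f = 0 := hf
  exact ⟨f, hf0, congrFun h2 0, congrFun h2 1⟩

theorem det_tv {v g : ι → F} (h : g ⬝ᵥ v = 0) : (1 + vecMulVec v g).det = 1 := by
  have h1 := det_one_add_replicateCol_mul_replicateRow (ι := Unit) v g
  rw [h, add_zero, ← vecMulVec_eq] at h1
  exact h1

/-- unipotent matrices of class at most 3 in characteristic `p` -/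
theorem pow_of_cube {p : ℕ} [Fact p.Prime] [CharP F p] {u : Matrix ι ι F} (h : (u - 1) ^ 3 = 0) : u ^ p ^ 2 = 1 := by
  rcases isEmpty_or_nonempty ι with he | hne
  · exact Subsingleton.elim _ _
  have hp : 2 ≤ p := (Fact.out : p.Prime).two_le
  have h1 : 3 ≤ p ^ 2 := by nlinarith
  have h2 : (u - 1) ^ p ^ 2 = 0 := by
    obtain ⟨k, hk⟩ := Nat.exists_eq_add_of_le h1
    rw [hk, pow_add, h, zero_mul]
  have h3 := sub_pow_char_pow_of_commute (p := p) (n := 2) (Commute.one_right u)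
  rw [h2, one_pow] at h3
  exact (sub_eq_zero.1 h3.symm)

end Cfsg.Agent.H530.LinTools
end

-- part: H530/Flag
section
/-!
# Radicals of flags `⟨v⟩ ≤ ker f` (helper530, for S4158)

`φ : K →* Matrix ι ι F` a representation. `U φ v f` is the subgroup of the `u ∈ K` with `(φ u - 1) V ≤ ker f`,
`(φ u - 1) ker f ≤ ⟨v⟩`, `(φ u - 1) v = 0`. If `φ` is injective and `F` has characteristic `p` it has exponent `p ^ 2`.
-/

set_option autoImplicit false
set_option linter.unusedSectionVars false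

namespace Cfsg.Agent.H530.Flag

open Matrix Subgroup Cfsg.Agent.H530.Cop Cfsg.Agent.H530.LinTools

variable {F : Type*} [Field F] {ι : Type*} [Fintype ι] [DecidableEq ι] {K : Type*} [Group K] (φ : K →* Matrix ι ι F)

theorem mul_mulVec (a b : K) (w : ι → F) : φ (a * b) *ᵥ w = φ a *ᵥ (φ b *ᵥ w) := by
  rw [map_mul, mulVec_mulVec]

theorem one_mulVec' (w : ι → F) : φ 1 *ᵥ w = w := by
  rw [map_one, one_mulVec]

theorem inv_mulVec (a : K) (w : ι → F) : φ a⁻¹ *ᵥ (φ a *ᵥ w) = w := by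
  rw [← mul_mulVec, inv_mul_cancel, one_mulVec']

theorem mulVec_inv (a : K) (w : ι → F) : φ a *ᵥ (φ a⁻¹ *ᵥ w) = w := by
  rw [← mul_mulVec, mul_inv_cancel, one_mulVec']

theorem scalar_mulVec (c : F) (w : ι → F) : scalar ι c *ᵥ w = c • w := by
  rw [scalar_apply]
  ext i
  rw [mulVec_diagonal]
  rfl

/-- equality of matrices from equality of the actions -/
theorem ext_mulVec {A B : Matrix ι ι F} (h : ∀ w, A *ᵥ w = B *ᵥ w) : A = B := by
  ext i j
  have := congrFun (h (Pi.single j 1)) i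
  rw [mulVec_single_one, mulVec_single_one] at this
  exact this

/-- The radical of the stabilizer of `⟨v⟩ ≤ ker f`. -/
def U (v f : ι → F) : Subgroup K where
  carrier := {u | (∀ w, f ⬝ᵥ (φ u *ᵥ w - w) = 0) ∧ (∀ w, f ⬝ᵥ w = 0 → ∃ c : F, φ u *ᵥ w - w = c • v) ∧ φ u *ᵥ v = v}
  one_mem' := by
    refine ⟨fun w => ?_, fun w _ => ⟨0, ?_⟩, ?_⟩ <;> simp
  mul_mem' := by
    rintro a b ⟨ha1, ha2, ha3⟩ ⟨hb1, hb2, hb3⟩
    refine ⟨fun w => ?_, fun w hw => ?_, ?_⟩
    · have h1 := ha1 (φ b *ᵥ w)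
      have h2 := hb1 w
      rw [mul_mulVec, show φ a *ᵥ (φ b *ᵥ w) - w = (φ a *ᵥ (φ b *ᵥ w) - φ b *ᵥ w) + (φ b *ᵥ w - w) by abel,
        dotProduct_add, h1, h2, add_zero]
    · obtain ⟨c, hc⟩ := hb2 w hw
      obtain ⟨d, hd⟩ := ha2 w hw
      refine ⟨c + d, ?_⟩
      have h1 : φ b *ᵥ w = c • v + w := by rw [← hc]; abel
      have h2 : φ a *ᵥ w = d • v + w := by rw [← hd]; abel
      rw [mul_mulVec, h1, mulVec_add, mulVec_smul, ha3, h2, add_smul]
      abel
    · rw [mul_mulVec, hb3, ha3]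
  inv_mem' := by
    rintro a ⟨ha1, ha2, ha3⟩
    have h3 : φ a⁻¹ *ᵥ v = v := by
      have := inv_mulVec φ a v
      rwa [ha3] at this
    refine ⟨fun w => ?_, fun w hw => ?_, h3⟩
    · have h1 := ha1 (φ a⁻¹ *ᵥ w)
      rw [mulVec_inv] at h1
      rw [← neg_sub, dotProduct_neg, h1, neg_zero]
    · obtain ⟨c, hc⟩ := ha2 w hw
      refine ⟨-c, ?_⟩
      have h1 : φ a *ᵥ w = c • v + w := by rw [← hc]; abel
      have h2 : w = c • v + φ a⁻¹ *ᵥ w := by
        have := inv_mulVec φ a w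
        rw [h1, mulVec_add, mulVec_smul, h3] at this
        exact this.symm
      rw [neg_smul]
      nth_rewrite 2 [h2]
      abel

variable {φ}

theorem pow_eq_one {p : ℕ} [Fact p.Prime] [CharP F p] (hφ : Function.Injective φ) {v f : ι → F} {u : K}
    (hu : u ∈ U φ v f) : u ^ p ^ 2 = 1 := by
  obtain ⟨h1, h2, h3⟩ := hu
  apply hφ
  rw [map_pow, map_one]
  refine pow_of_cube (ext_mulVec fun w => ?_)
  rw [pow_succ', pow_two, ← mulVec_mulVec, ← mulVec_mulVec, zero_mulVec]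
  have e1 : (φ u - 1) *ᵥ w = φ u *ᵥ w - w := by rw [sub_mulVec, one_mulVec]
  obtain ⟨c, hc⟩ := h2 _ (h1 w)
  have e2 : (φ u - 1) *ᵥ ((φ u - 1) *ᵥ w) = c • v := by
    rw [e1, sub_mulVec, one_mulVec, hc]
  rw [e2, mulVec_smul, sub_mulVec, one_mulVec, h3, sub_self, smul_zero]

/-- the image of `U` in `K ⧸ center K` is a `p`-group -/
theorem isPGroup_map {p : ℕ} [Fact p.Prime] [CharP F p] (hφ : Function.Injective φ) (v f : ι → F) :
    IsPGroup p ((U φ v f).map (QuotientGroup.mk' (center K))) := by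
  rintro ⟨a, ha⟩
  obtain ⟨u, hu, rfl⟩ := mem_map.1 ha
  refine ⟨2, Subtype.ext ?_⟩
  change (QuotientGroup.mk' (center K) u) ^ p ^ 2 = 1
  rw [← map_pow, pow_eq_one hφ hu, map_one]

/-- a central element with scalar matrix has no `p`-torsion -/
theorem torsion_free {p : ℕ} [Fact p.Prime] [CharP F p] (hφ : Function.Injective φ) {z : K} {c : F}
    (hz : φ z = scalar ι c) {k : ℕ} (h : z ^ p ^ k = 1) : z = 1 := by
  apply hφ
  rcases isEmpty_or_nonempty ι with he | ⟨⟨i⟩⟩
  · exact Subsingleton.elim _ _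
  have h1 : scalar ι (c ^ p ^ k) = scalar ι 1 := by
    rw [map_pow, ← hz, ← map_pow, h, map_one, map_one]
  have h2 : c ^ p ^ k = 1 := by
    have := congrFun (congrFun h1 i) i
    simpa using this
  have h3 : (c - 1) ^ p ^ k = 0 := by
    rw [sub_pow_char_pow, h2, one_pow, sub_self]
  have h4 : c = 1 := sub_eq_zero.1 (pow_eq_zero_iff (pow_pos (Fact.out : p.Prime).pos k).ne' |>.1 h3)
  rw [hz, h4, map_one, map_one]

end Cfsg.Agent.H530.Flag
end

-- part: H530/Chain
section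
/-!
# Unipotent subgroups of chains of subspaces (helper530, for S4158)

`UC φ S` : the `u ∈ K` with `(φ u - 1) S i ≤ S (i + 1)` for all `i`, `S` an antitone chain of subspaces with `S k = 0`.
-/

set_option autoImplicit false
set_option linter.unusedSectionVars false

namespace Cfsg.Agent.H530.Chain

open Matrix Subgroup Cfsg.Agent.H530.Cop Cfsg.Agent.H530.LinTools Cfsg.Agent.H530.Flag

variable {F : Type*} [Field F] {ι : Type*} [Fintype ι] [DecidableEq ι] {K : Type*} [Group K] (φ : K →* Matrix ι ι F)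

/-- a chain of subspaces ending in `0` -/
structure Ch (F ι : Type*) [Field F] where
  /-- the subspaces -/
  S : ℕ → Submodule F (ι → F)
  anti : ∀ i, S (i + 1) ≤ S i
  /-- the length -/
  k : ℕ
  bot : ∀ i, k ≤ i → S i = ⊥
  top : S 0 = ⊤

/-- the unipotent subgroup of a chain -/
def UC (c : Ch F ι) : Subgroup K where
  carrier := {u | ∀ i, ∀ w ∈ c.S i, φ u *ᵥ w - w ∈ c.S (i + 1)}
  one_mem' := fun i w _ => by
    rw [one_mulVec', sub_self]
    exact zero_mem _
  mul_mem' := by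
    intro a b ha hb i w hw
    have h1 := hb i w hw
    have h2 := ha i (φ b *ᵥ w) (by
      have : φ b *ᵥ w = (φ b *ᵥ w - w) + w := by abel
      rw [this]
      exact add_mem (c.anti i h1) hw)
    rw [mul_mulVec, show φ a *ᵥ (φ b *ᵥ w) - w = (φ a *ᵥ (φ b *ᵥ w) - φ b *ᵥ w) + (φ b *ᵥ w - w) by abel]
    exact add_mem h2 h1
  inv_mem' := by
    intro a ha
    have hpres : ∀ j i, c.k ≤ i + j → ∀ w ∈ c.S i, φ a⁻¹ *ᵥ w ∈ c.S i := by
      intro j
      induction j with
      | zero =>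
        intro i hi w hw
        rw [c.bot i hi] at hw
        rw [(Submodule.mem_bot F).1 hw, mulVec_zero]
        exact zero_mem _
      | succ j ih =>
        intro i hi w hw
        have h1 := c.anti i (ih (i + 1) (by omega) _ (ha i w hw))
        have h2 : φ a⁻¹ *ᵥ w = w - φ a⁻¹ *ᵥ (φ a *ᵥ w - w) := by
          rw [mulVec_sub, inv_mulVec]
          abel
        rw [h2]
        exact sub_mem hw h1
    intro i w hw
    have h2 : φ a⁻¹ *ᵥ w - w = -(φ a⁻¹ *ᵥ (φ a *ᵥ w - w)) := by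
      rw [mulVec_sub, inv_mulVec]
      abel
    rw [h2]
    exact neg_mem (hpres c.k (i + 1) (by omega) _ (ha i w hw))

variable {φ}

theorem mem_UC {c : Ch F ι} {u : K} : u ∈ UC φ c ↔ ∀ i, ∀ w ∈ c.S i, φ u *ᵥ w - w ∈ c.S (i + 1) := Iff.rfl

/-- unipotent matrices in characteristic `p` -/
theorem pow_of_nilp {p k j : ℕ} [Fact p.Prime] [CharP F p] {u : Matrix ι ι F} (h : (u - 1) ^ k = 0)
    (hk : k ≤ p ^ j) : u ^ p ^ j = 1 := by
  rcases isEmpty_or_nonempty ι with he | hne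
  · exact Subsingleton.elim _ _
  have h2 : (u - 1) ^ p ^ j = 0 := by
    obtain ⟨m, hm⟩ := Nat.exists_eq_add_of_le hk
    rw [hm, pow_add, h, zero_mul]
  have h3 := sub_pow_char_pow_of_commute (p := p) (n := j) (Commute.one_right u)
  rw [h2, one_pow] at h3
  exact (sub_eq_zero.1 h3.symm)

theorem pow_eq_one {p : ℕ} [Fact p.Prime] [CharP F p] (hφ : Function.Injective φ) {c : Ch F ι} {u : K}
    (hu : u ∈ UC φ c) : u ^ p ^ c.k = 1 := by
  apply hφ
  rw [map_pow, map_one]
  have key : ∀ i w, ((φ u - 1) ^ i) *ᵥ w ∈ c.S i := by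
    intro i
    induction i with
    | zero => intro w; rw [c.top]; exact Submodule.mem_top
    | succ i ih =>
      intro w
      rw [pow_succ', ← mulVec_mulVec, sub_mulVec, one_mulVec]
      exact hu i _ (ih w)
  refine pow_of_nilp (k := c.k) (ext_mulVec fun w => ?_) ?_
  · have h1 := key c.k w
    rw [c.bot c.k le_rfl, Submodule.mem_bot] at h1
    rw [h1, zero_mulVec]
  · exact (Nat.lt_pow_self (Fact.out : p.Prime).one_lt).le

/-- the image of `UC` in `K ⧸ center K` is a `p`-group -/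
theorem isPGroup_map {p : ℕ} [Fact p.Prime] [CharP F p] (hφ : Function.Injective φ) (c : Ch F ι) :
    IsPGroup p ((UC φ c).map (QuotientGroup.mk' (center K))) := by
  rintro ⟨a, ha⟩
  obtain ⟨u, hu, rfl⟩ := mem_map.1 ha
  refine ⟨c.k, Subtype.ext ?_⟩
  change (QuotientGroup.mk' (center K) u) ^ p ^ c.k = 1
  rw [← map_pow, pow_eq_one hφ hu, map_one]

/-- the chain `V ≥ A ≥ B ≥ C ≥ D ≥ 0` -/
def five (A B C D : Submodule F (ι → F)) (h1 : B ≤ A) (h2 : C ≤ B) (h3 : D ≤ C) : Ch F ι where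
  S := fun i => match i with
    | 0 => ⊤
    | 1 => A
    | 2 => B
    | 3 => C
    | 4 => D
    | _ + 5 => ⊥
  anti := fun i => match i with
    | 0 => le_top
    | 1 => h1
    | 2 => h2
    | 3 => h3
    | 4 => bot_le
    | _ + 5 => le_rfl
  k := 5
  bot := fun i hi => by
    obtain ⟨j, rfl⟩ := Nat.exists_eq_add_of_le hi
    rw [add_comm]
  top := rfl

theorem mem_five {A B C D : Submodule F (ι → F)} {h1 : B ≤ A} {h2 : C ≤ B} {h3 : D ≤ C} {u : K}
    (e0 : ∀ w, φ u *ᵥ w - w ∈ A) (e1 : ∀ w ∈ A, φ u *ᵥ w - w ∈ B) (e2 : ∀ w ∈ B, φ u *ᵥ w - w ∈ C)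
    (e3 : ∀ w ∈ C, φ u *ᵥ w - w ∈ D) (e4 : ∀ w ∈ D, φ u *ᵥ w = w) : u ∈ UC φ (five A B C D h1 h2 h3) := by
  rw [mem_UC]
  intro i w hw
  match i with
  | 0 => exact e0 w
  | 1 => exact e1 w hw
  | 2 => exact e2 w hw
  | 3 => exact e3 w hw
  | 4 =>
    change φ u *ᵥ w - w ∈ (⊥ : Submodule F (ι → F))
    rw [e4 w hw, sub_self]
    exact zero_mem _
  | j + 5 =>
    have h : w = 0 := (Submodule.mem_bot F).1 hw
    rw [h, mulVec_zero, sub_zero]
    exact zero_mem _

end Cfsg.Agent.H530.Chain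
end

-- part: H530/Form
section
/-!
# Bilinear forms given by matrices (helper530, for S4158)

`bf J u v = u ⬝ᵥ J v`; double annihilators; elements `1 + a ⊗ b + c ⊗ d`.
-/

set_option autoImplicit false
set_option linter.unusedSectionVars false

namespace Cfsg.Agent.H530.Form

open Matrix Subgroup Cfsg.Agent.H530.Cop Cfsg.Agent.H530.LinTools Cfsg.Agent.H530.Flag

variable {F : Type*} [Field F] {ι : Type*} [Fintype ι] [DecidableEq ι]

/-- the bilinear form with matrix `J` -/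
def bf (J : Matrix ι ι F) (u v : ι → F) : F := u ⬝ᵥ (J *ᵥ v)

section

variable (J : Matrix ι ι F) (u v w : ι → F) (c : F)

theorem add_left : bf J (u + v) w = bf J u w + bf J v w := by unfold bf; rw [add_dotProduct]

theorem add_right : bf J u (v + w) = bf J u v + bf J u w := by unfold bf; rw [mulVec_add, dotProduct_add]

theorem sub_left : bf J (u - v) w = bf J u w - bf J v w := by unfold bf; rw [sub_dotProduct]

theorem sub_right : bf J u (v - w) = bf J u v - bf J u w := by unfold bf; rw [mulVec_sub, dotProduct_sub]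

theorem neg_left : bf J (-u) w = -bf J u w := by unfold bf; rw [neg_dotProduct]

theorem neg_right : bf J u (-w) = -bf J u w := by unfold bf; rw [mulVec_neg, dotProduct_neg]

theorem smul_left : bf J (c • u) w = c * bf J u w := by unfold bf; rw [smul_dotProduct, smul_eq_mul]

theorem smul_right : bf J u (c • w) = c * bf J u w := by unfold bf; rw [mulVec_smul, dotProduct_smul, smul_eq_mul]

theorem zero_left : bf J 0 w = 0 := by unfold bf; rw [zero_dotProduct]

theorem zero_right : bf J w 0 = 0 := by unfold bf; rw [mulVec_zero, dotProduct_zero]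

theorem vecMul_eq : (u ᵥ* J) ⬝ᵥ w = bf J u w := by unfold bf; rw [dotProduct_mulVec]

end

/-- the orthogonal space -/
def perp (J : Matrix ι ι F) (e : ι → F) : Submodule F (ι → F) where
  carrier := {w | bf J e w = 0}
  add_mem' := fun {a b} ha hb => by
    change bf J e a = 0 at ha
    change bf J e b = 0 at hb
    change bf J e (a + b) = 0
    rw [add_right, ha, hb, add_zero]
  zero_mem' := zero_right J e
  smul_mem' := fun c w hw => by
    change bf J e w = 0 at hw
    change bf J e (c • w) = 0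
    rw [smul_right, hw, mul_zero]

theorem mem_perp {J : Matrix ι ι F} {e w : ι → F} : w ∈ perp J e ↔ bf J e w = 0 := Iff.rfl

/-- non-degenerate forms -/
def ND (J : Matrix ι ι F) : Prop := ∀ u, (∀ v, bf J v u = 0) → u = 0

theorem exists_ne_zero {J : Matrix ι ι F} (hJ : ND J) {u : ι → F} (hu : u ≠ 0) : ∃ v, bf J v u ≠ 0 := by
  by_contra h
  push Not at h
  exact hu (hJ u h)

theorem exists_eq_one {J : Matrix ι ι F} (hJ : ND J) {u : ι → F} (hu : u ≠ 0) : ∃ v, bf J v u = 1 := by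
  obtain ⟨v, hv⟩ := exists_ne_zero hJ hu
  exact ⟨(bf J v u)⁻¹ • v, by rw [smul_left, inv_mul_cancel₀ hv]⟩

/-- double annihilator of a family -/
theorem mem_span_of_bf {J : Matrix ι ι F} (hJ : ND J) {κ : Type*} [Finite κ] {v : κ → ι → F} {r : ι → F}
    (h : ∀ w, (∀ i, bf J w (v i) = 0) → bf J w r = 0) : r ∈ Submodule.span F (Set.range v) := by
  let T : (ι → F) →ₗ[F] Module.Dual F (ι → F) :=
    { toFun := fun a =>
        { toFun := fun w => bf J w a
          map_add' := fun x y => add_left J x y a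
          map_smul' := fun c x => smul_left J x a c }
      map_add' := fun x y => LinearMap.ext fun w => add_right J w x y
      map_smul' := fun c x => LinearMap.ext fun w => smul_right J w x c }
  have hT : Function.Injective T := by
    rw [injective_iff_map_eq_zero]
    intro a ha
    exact hJ a fun w => LinearMap.congr_fun ha w
  have h1 : T r ∈ Submodule.span F (Set.range fun i => T (v i)) := by
    refine mem_span_of_iInf_ker_le_ker fun w hw => ?_
    rw [Submodule.mem_iInf] at hw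
    exact h w fun i => hw i
  have h2 : (Set.range fun i => T (v i)) = T '' Set.range v := by rw [← Set.range_comp]; rfl
  rw [h2, ← Submodule.map_span] at h1
  obtain ⟨r', hr', he⟩ := h1
  rwa [hT he] at hr'

theorem eq_smul_of_bf {J : Matrix ι ι F} (hJ : ND J) {v r : ι → F} (h : ∀ w, bf J w v = 0 → bf J w r = 0) :
    ∃ c : F, r = c • v := by
  have h1 := mem_span_of_bf hJ (v := fun _ : Unit => v) (r := r) fun w hw => h w (hw ())
  rw [Set.range_const, Submodule.mem_span_singleton] at h1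
  obtain ⟨c, hc⟩ := h1
  exact ⟨c, hc.symm⟩

theorem eq_comb_of_bf {J : Matrix ι ι F} (hJ : ND J) {e f r : ι → F}
    (h : ∀ w, bf J w e = 0 → bf J w f = 0 → bf J w r = 0) : ∃ a b : F, r = a • e + b • f := by
  have h1 := mem_span_of_bf hJ (v := fun i : Bool => if i then e else f) (r := r)
    fun w hw => h w (hw true) (hw false)
  have h2 : (Set.range fun i : Bool => if i then e else f) = {e, f} := by
    ext x
    constructor
    · rintro ⟨i, rfl⟩
      cases i
      · exact Or.inr rfl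
      · exact Or.inl rfl
    · rintro (rfl | rfl)
      · exact ⟨true, rfl⟩
      · exact ⟨false, rfl⟩
  rw [h2, Submodule.mem_span_pair] at h1
  obtain ⟨a, b, hab⟩ := h1
  exact ⟨a, b, hab.symm⟩

/-- the matrix `1 + a ⊗ b + c ⊗ d` -/
def two (a b c d : ι → F) : Matrix ι ι F := 1 + vecMulVec a b + vecMulVec c d

theorem two_mulVec (a b c d w : ι → F) : two a b c d *ᵥ w = w + (b ⬝ᵥ w) • a + (d ⬝ᵥ w) • c := by
  unfold two
  rw [add_mulVec, add_mulVec, one_mulVec, vecMulVec_mulVec, vecMulVec_mulVec]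
  simp

/-- a subspace of vectors orthogonal to given ones is non-zero -/
theorem exists_perp [Fintype F] {l : ℕ} (J : Matrix ι ι F) (v : Fin l → ι → F) (h : l < Fintype.card ι) :
    ∃ x : ι → F, x ≠ 0 ∧ ∀ j, bf J (v j) x = 0 := by
  obtain ⟨x, hx, -, h2⟩ := CW.exists_quad (K := F) (σ := ι) (k := 0) (fun i => i.elim0) (fun j => v j ᵥ* J)
    (by simpa using h)
  exact ⟨x, hx, fun j => by rw [← vecMul_eq]; exact h2 j⟩

end Cfsg.Agent.H530.Form
end

-- part: H530/Line
section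
/-!
# The argument with totally singular lines (helper530, for S4158)

`LD φ J Q κ` : `K` preserves the reflexive form `bf J` and the quadratic form `Q` with polar form `κ bf J`, `κ = 1` or
`Q = 0`. `scalar_of_trans` : let `Y ∈ K`, and suppose that the elements of `K` commuting with `Y` up to scalars are
transitive on the totally singular lines; then (under two Chevalley-Warning conditions) `Y` is scalar.
-/

set_option autoImplicit false
set_option linter.unusedSectionVars false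

namespace Cfsg.Agent.H530.Line

open Matrix Subgroup Cfsg.Agent.H530.Cop Cfsg.Agent.H530.LinTools Cfsg.Agent.H530.Flag Cfsg.Agent.H530.Form

variable {F : Type*} [Field F] {ι : Type*} [Fintype ι] [DecidableEq ι] {K : Type*} [Group K]

/-- linear independence of two vectors -/
def Ind (e f : ι → F) : Prop := ∀ a b : F, a • e + b • f = 0 → a = 0 ∧ b = 0

theorem Ind.left_ne {e f : ι → F} (h : Ind e f) : e ≠ 0 := by
  rintro rfl
  exact one_ne_zero (h 1 0 (by simp)).1

theorem Ind.right_ne {e f : ι → F} (h : Ind e f) : f ≠ 0 := by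
  rintro rfl
  exact one_ne_zero (h 0 1 (by simp)).2

theorem Ind.symm {e f : ι → F} (h : Ind e f) : Ind f e := fun a b hab => by
  rw [add_comm] at hab
  exact (h b a hab).symm

theorem ind_of {e f : ι → F} (he : e ≠ 0) (h : ∀ c : F, f ≠ c • e) : Ind e f := by
  intro a b hab
  have hb : b = 0 := by
    by_contra hb
    apply h (-(b⁻¹ * a))
    have h1 : b • f = -(a • e) := by rw [eq_neg_iff_add_eq_zero, add_comm]; exact hab
    have h2 := congrArg (fun t => b⁻¹ • t) h1
    simp only [smul_smul] at h2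
    rw [inv_mul_cancel₀ hb, one_smul] at h2
    rw [h2, neg_smul, smul_neg, smul_smul]
  refine ⟨?_, hb⟩
  rw [hb, zero_smul, add_zero, smul_eq_zero] at hab
  exact hab.resolve_right he

/-- two vectors, one of them killed by a functional -/
theorem ind_of_dot {e f g : ι → F} (hf : f ≠ 0) (he : g ⬝ᵥ e ≠ 0) (hgf : g ⬝ᵥ f = 0) : Ind e f := by
  refine ind_of (fun h => he (by rw [h, dotProduct_zero])) fun c hc => ?_
  rw [hc, dotProduct_smul, smul_eq_mul] at hgf
  rcases mul_eq_zero.1 hgf with h | h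
  · rw [h, zero_smul] at hc; exact hf hc
  · exact he h

theorem exists_dot {e : ι → F} (he : e ≠ 0) : ∃ g : ι → F, g ⬝ᵥ e ≠ 0 := by
  obtain ⟨i, hi⟩ := Function.ne_iff.1 he
  exact ⟨Pi.single i 1, by rw [single_one_dotProduct]; exact hi⟩

/-- the data -/
structure LD (φ : K →* Matrix ι ι F) (J : Matrix ι ι F) (Q : (ι → F) → F) (κ : F) : Prop where
  iso : ∀ g u v, bf J (φ g *ᵥ u) (φ g *ᵥ v) = bf J u v
  nd : ND J
  refl : ∀ u v, bf J u v = 0 → bf J v u = 0
  self : ∀ v, Q v = 0 → bf J v v = 0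
  Qadd : ∀ u v, Q (u + v) = Q u + Q v + κ * bf J u v
  Qsmul : ∀ (c : F) v, Q (c • v) = c ^ 2 * Q v
  Qiso : ∀ g v, Q (φ g *ᵥ v) = Q v
  hκ : κ ≠ 0 ∨ ∀ v, Q v = 0

variable {φ : K →* Matrix ι ι F} {J : Matrix ι ι F} {Q : (ι → F) → F} {κ : F}

namespace LD

variable (h : LD φ J Q κ)

include h

theorem eq_smul {v r : ι → F} (hr : ∀ w, bf J v w = 0 → bf J w r = 0) : ∃ c : F, r = c • v :=
  eq_smul_of_bf h.nd fun w hw => hr w (h.refl _ _ hw)

theorem exists_dual {e f : ι → F} (hef : Ind e f) : ∃ w, bf J e w = 1 ∧ bf J f w = 0 := by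
  by_contra hno
  push Not at hno
  obtain ⟨c, hc⟩ := h.eq_smul (v := f) (r := e) fun w hw => by
    refine h.refl _ _ ?_
    by_contra hne
    apply hno ((bf J e w)⁻¹ • w)
    · rw [smul_right, inv_mul_cancel₀ hne]
    · rw [smul_right, hw, mul_zero]
  have := hef 1 (-c) (by rw [hc]; simp)
  exact one_ne_zero this.1

/-- singular vectors in `v^⊥` span it modulo ... : the annihilator -/
theorem span {v : ι → F}
    (h2 : ∃ a, a ≠ 0 ∧ Q a = 0 ∧ bf J v a = 0 ∧ Ind v a) {t : ι → F}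
    (ht : ∀ a, Q a = 0 → bf J v a = 0 → bf J a t = 0) : ∃ c : F, t = c • v := by
  by_contra hno
  -- the dichotomy
  have hdi : ∀ t, (∀ a, Q a = 0 → bf J v a = 0 → bf J a t = 0) → ∀ w, bf J v w = 0 →
      (∀ a, Q a = 0 → bf J v a = 0 → bf J a w = 0) ∨ bf J w t = 0 := by
    intro t ht w hw
    by_contra hcon
    push Not at hcon
    obtain ⟨⟨a, ha, hva, haw⟩, hwt⟩ := hcon
    apply hwt
    rcases h.hκ with hκ | hQ
    · have hwa : bf J w a ≠ 0 := fun h0 => haw (h.refl _ _ h0)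
      set s := -(Q w) / (κ * bf J w a) with hs
      have h3 : Q (w + s • a) = 0 := by
        rw [h.Qadd, h.Qsmul, ha, smul_right, hs]
        field_simp
        ring
      have h4 := ht _ h3 (by rw [add_right, smul_right, hw, hva, mul_zero, add_zero])
      rw [add_left, smul_left, ht a ha hva, mul_zero, add_zero] at h4
      exact h4
    · exact ht w (hQ w) hw
  obtain ⟨w0, hw0, hw0t⟩ : ∃ w, bf J v w = 0 ∧ bf J w t ≠ 0 := by
    by_contra hcon
    push Not at hcon
    exact hno (h.eq_smul hcon)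
  have hT0 := (hdi t ht w0 hw0).resolve_right hw0t
  have hall : ∀ w, bf J v w = 0 → ∀ a, Q a = 0 → bf J v a = 0 → bf J a w = 0 := by
    intro w hw a ha hva
    rcases hdi t ht w hw with h3 | h3
    · exact h3 a ha hva
    · have h4 := (hdi t ht (w + w0) (by rw [add_right, hw, hw0, add_zero])).resolve_right (by
        rw [add_left, h3, zero_add]; exact hw0t) a ha hva
      rw [add_right, hT0 a ha hva, add_zero] at h4
      exact h4
  obtain ⟨a, ha0, ha, hva, hind⟩ := h2
  obtain ⟨c, hc⟩ := h.eq_smul (v := v) (r := a) fun w hw => h.refl _ _ (hall w hw a ha hva)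
  have := hind (-c) 1 (by rw [hc]; simp)
  exact one_ne_zero this.2

/-- the existence of singular vectors in `v^⊥` -/
theorem exists_pair (H3 : ∀ u g : ι → F, ∃ v, v ≠ 0 ∧ Q v = 0 ∧ bf J u v = 0 ∧ g ⬝ᵥ v = 0) {v : ι → F} (hv : v ≠ 0) :
    ∃ a, a ≠ 0 ∧ Q a = 0 ∧ bf J v a = 0 ∧ Ind v a := by
  obtain ⟨g, hg⟩ := exists_dot hv
  obtain ⟨a, ha, hQa, h3, h4⟩ := H3 v g
  exact ⟨a, ha, hQa, h3, ind_of_dot ha hg h4⟩

/-- if all singular vectors are eigenvectors, `Y` is scalar -/
theorem scalar_of_eigen (Y : K) (H3 : ∀ u g : ι → F, ∃ v, v ≠ 0 ∧ Q v = 0 ∧ bf J u v = 0 ∧ g ⬝ᵥ v = 0)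
    (heig : ∀ v, v ≠ 0 → Q v = 0 → ∃ c : F, φ Y *ᵥ v = c • v) : ∃ c : F, φ Y = scalar ι c := by
  obtain ⟨e, he, hQe, -, -⟩ := H3 0 0
  obtain ⟨f, -, hQf, -, hef⟩ := h.exists_pair H3 he
  choose! al hal using heig
  have heq : ∀ u v, u ≠ 0 → Q u = 0 → v ≠ 0 → Q v = 0 → bf J u v = 0 → al u = al v := by
    intro u v hu hQu hv hQv huv
    by_cases hc : ∃ c : F, v = c • u
    · obtain ⟨c, rfl⟩ := hc
      have h1 := hal _ hv hQv
      rw [mulVec_smul, hal u hu hQu, smul_smul, smul_smul, mul_comm c] at h1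
      have h2 : (al u * c - al (c • u) * c) • u = 0 := by rw [sub_smul, h1, sub_self]
      rw [smul_eq_zero] at h2
      have h3 := h2.resolve_right hu
      have hc0 : c ≠ 0 := fun h0 => hv (by rw [h0, zero_smul])
      rw [← sub_mul] at h3
      exact sub_eq_zero.1 ((mul_eq_zero.1 h3).resolve_right hc0)
    · push Not at hc
      have hi := ind_of hu hc
      have hs : u + v ≠ 0 := fun h0 => one_ne_zero (hi 1 1 (by rw [one_smul, one_smul, h0])).1
      have hQs : Q (u + v) = 0 := by rw [h.Qadd, hQu, hQv, huv]; ring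
      have h1 := hal _ hs hQs
      rw [mulVec_add, hal u hu hQu, hal v hv hQv] at h1
      have h2 := hi (al u - al (u + v)) (al v - al (u + v)) (by
        rw [sub_smul, sub_smul]
        rw [smul_add] at h1
        calc al u • u - al (u + v) • u + (al v • v - al (u + v) • v)
            = (al u • u + al v • v) - (al (u + v) • u + al (u + v) • v) := by abel
          _ = 0 := by rw [h1, sub_self])
      rw [sub_eq_zero.1 h2.1, sub_eq_zero.1 h2.2]
  have hconst : ∀ u v, u ≠ 0 → Q u = 0 → v ≠ 0 → Q v = 0 → al u = al v := by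
    intro u v hu hQu hv hQv
    obtain ⟨a, ha, hQa, h1, h2⟩ := H3 u (v ᵥ* J)
    rw [vecMul_eq] at h2
    rw [heq u a hu hQu ha hQa h1, heq v a hv hQv ha hQa h2]
  have hal0 : al e ≠ 0 := by
    intro h0
    apply hef.left_ne
    rw [← inv_mulVec φ Y e, hal e hef.left_ne hQe, h0, zero_smul, mulVec_zero]
  -- conclusion
  have hD : ∀ w, φ Y *ᵥ w = (al e)⁻¹ • w := by
    intro w
    have h1 : ∀ b, Q b = 0 → bf J b (φ Y *ᵥ w - (al e)⁻¹ • w) = 0 := by
      intro b hb
      by_cases hb0 : b = 0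
      · rw [hb0, zero_left]
      have h2 := h.iso Y b w
      rw [hal b hb0 hb, hconst b e hb0 hb hef.left_ne hQe, smul_left] at h2
      rw [sub_right, smul_right, ← h2]
      field_simp
      ring
    obtain ⟨c, hc⟩ := h.span (h.exists_pair H3 hef.left_ne) fun a ha _ => h1 a ha
    obtain ⟨d, hd⟩ := h.span (h.exists_pair H3 hef.right_ne) fun a ha _ => h1 a ha
    have h2 := hef c (-d) (by rw [← hc, neg_smul, ← hd]; abel)
    rw [h2.1, zero_smul] at hc
    exact sub_eq_zero.1 hc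
  exact exists_scalar fun v => ⟨_, hD v⟩

/-- **The line argument.** -/
theorem scalar_of_trans (Y : K)
    (hT : ∀ e f e' f', Ind e f → Q e = 0 → Q f = 0 → bf J e f = 0 → Ind e' f' → Q e' = 0 → Q f' = 0 →
      bf J e' f' = 0 → ∃ (C : K) (ζ : F), ζ ≠ 0 ∧ (∀ w, φ C *ᵥ (φ Y *ᵥ w) = ζ • (φ Y *ᵥ (φ C *ᵥ w))) ∧
        (∃ a b : F, e' = a • (φ C *ᵥ e) + b • (φ C *ᵥ f)) ∧ ∃ a b : F, f' = a • (φ C *ᵥ e) + b • (φ C *ᵥ f))
    (H1 : ∃ u, u ≠ 0 ∧ Q u = 0 ∧ bf J u (φ Y *ᵥ u) = 0 ∧ bf J u (φ Y *ᵥ (φ Y *ᵥ u)) = 0)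
    (H2 : ∀ u g : ι → F, ∃ v, v ≠ 0 ∧ Q v = 0 ∧ bf J v (φ Y *ᵥ v) = 0 ∧ bf J u v = 0 ∧ g ⬝ᵥ v = 0) :
    ∃ c : F, φ Y = scalar ι c := by
  have H3 : ∀ u g : ι → F, ∃ v, v ≠ 0 ∧ Q v = 0 ∧ bf J u v = 0 ∧ g ⬝ᵥ v = 0 := by
    intro u g
    obtain ⟨v, h1, h2, -, h4, h5⟩ := H2 u g
    exact ⟨v, h1, h2, h4, h5⟩
  -- a line
  obtain ⟨e, f, hef, hQe, hQf, hBef, hee, hef', hfe, hff⟩ : ∃ e f, Ind e f ∧ Q e = 0 ∧ Q f = 0 ∧ bf J e f = 0 ∧
      bf J e (φ Y *ᵥ e) = 0 ∧ bf J e (φ Y *ᵥ f) = 0 ∧ bf J f (φ Y *ᵥ e) = 0 ∧ bf J f (φ Y *ᵥ f) = 0 := by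
    obtain ⟨u, hu, hQu, hu1, hu2⟩ := H1
    by_cases hc : ∃ c : F, φ Y *ᵥ u = c • u
    · obtain ⟨c, hc⟩ := hc
      obtain ⟨g, hg⟩ := exists_dot hu
      obtain ⟨v, hv, hQv, hv1, hv2, hv3⟩ := H2 u g
      have hc0 : c ≠ 0 := by
        rintro rfl
        rw [zero_smul] at hc
        apply hu
        rw [← inv_mulVec φ Y u, hc, mulVec_zero]
      refine ⟨u, v, ind_of_dot hv hg hv3, hQu, hQv, hv2, hu1, ?_, ?_, hv1⟩
      · have h3 := h.iso Y u v
        rw [hc, smul_left, hv2] at h3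
        exact (mul_eq_zero.1 h3).resolve_left hc0
      · rw [hc, smul_right, h.refl _ _ hv2, mul_zero]
    · push Not at hc
      refine ⟨u, φ Y *ᵥ u, ind_of hu hc, hQu, ?_, hu1, hu1, hu2, ?_, ?_⟩
      · rw [h.Qiso, hQu]
      · exact h.self _ (by rw [h.Qiso, hQu])
      · rw [h.iso, hu1]
  -- all lines
  have hline : ∀ e' f', Ind e' f' → Q e' = 0 → Q f' = 0 → bf J e' f' = 0 →
      bf J e' (φ Y *ᵥ e') = 0 ∧ bf J e' (φ Y *ᵥ f') = 0 := by
    intro e' f' hi h1 h2 h3
    obtain ⟨C, ζ, hζ, hCY, ⟨a, b, hab⟩, ⟨a', b', hab'⟩⟩ := hT e f e' f' hef hQe hQf hBef hi h1 h2 h3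
    have key : ∀ x y, bf J x (φ Y *ᵥ y) = 0 → bf J (φ C *ᵥ x) (φ Y *ᵥ (φ C *ᵥ y)) = 0 := by
      intro x y hxy
      have h4 : φ Y *ᵥ (φ C *ᵥ y) = ζ⁻¹ • (φ C *ᵥ (φ Y *ᵥ y)) := by
        rw [hCY, smul_smul, inv_mul_cancel₀ hζ, one_smul]
      rw [h4, smul_right, h.iso, hxy, mul_zero]
    rw [hab, hab']
    simp only [mulVec_add, mulVec_smul, add_left, add_right, smul_left, smul_right, key e e hee, key e f hef',
      key f e hfe, key f f hff]
    constructor <;> ring
  refine h.scalar_of_eigen Y H3 fun v hv hQv => h.span (h.exists_pair H3 hv) fun a ha hva => ?_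
  by_cases hc : ∃ c : F, a = c • v
  · obtain ⟨c, rfl⟩ := hc
    obtain ⟨b, -, hQb, hvb, hind⟩ := h.exists_pair H3 hv
    rw [smul_left, (hline v b hind hQv hQb hvb).1, mul_zero]
  · push Not at hc
    exact (hline a v (ind_of hv hc).symm ha hQv (h.refl _ _ hva)).2

/-- **Lines from the shape of the elements.** -/
theorem line_of_form {C : K} {e f e' f' : ι → F} (hef' : Ind e' f') {l l' c c' : F}
    (hc' : c' ≠ 0) (hl' : l' ≠ 0)
    (h1 : ∀ w, l • (φ C *ᵥ w) + (l * c) • (bf J e w • (φ C *ᵥ f) - bf J f w • (φ C *ᵥ e)) =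
      l' • (φ C *ᵥ w) + (l' * c') • (bf J e' (φ C *ᵥ w) • f' - bf J f' (φ C *ᵥ w) • e'))
    (hll : l = l') :
    (∃ a b : F, e' = a • (φ C *ᵥ e) + b • (φ C *ᵥ f)) ∧ ∃ a b : F, f' = a • (φ C *ᵥ e) + b • (φ C *ᵥ f) := by
  have h2 : ∀ w, (l * c) • (bf J e w • (φ C *ᵥ f) - bf J f w • (φ C *ᵥ e)) =
      (l' * c') • (bf J e' (φ C *ᵥ w) • f' - bf J f' (φ C *ᵥ w) • e') := by
    intro w
    have := h1 w
    rw [hll] at this ⊢
    exact add_left_cancel this
  have hlc : l' * c' ≠ 0 := mul_ne_zero hl' hc'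
  constructor
  · obtain ⟨w, hw1, hw2⟩ := h.exists_dual hef'.symm
    have h3 := h2 (φ C⁻¹ *ᵥ w)
    rw [mulVec_inv, hw1, hw2, zero_smul, one_smul, zero_sub] at h3
    have h4 := congrArg (fun t => ((l' * c')⁻¹) • t) h3
    simp only [smul_smul, smul_neg] at h4
    rw [inv_mul_cancel₀ hlc, one_smul] at h4
    refine ⟨(l' * c')⁻¹ * (l * c) * bf J f (φ C⁻¹ *ᵥ w), -((l' * c')⁻¹ * (l * c) * bf J e (φ C⁻¹ *ᵥ w)), ?_⟩
    rw [← neg_neg e', ← h4, smul_sub, smul_smul, smul_smul, neg_smul]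
    abel
  · obtain ⟨w, hw1, hw2⟩ := h.exists_dual hef'
    have h3 := h2 (φ C⁻¹ *ᵥ w)
    rw [mulVec_inv, hw1, hw2, zero_smul, one_smul, sub_zero] at h3
    have h4 := congrArg (fun t => ((l' * c')⁻¹) • t) h3
    simp only [smul_smul] at h4
    rw [inv_mul_cancel₀ hlc, one_smul] at h4
    refine ⟨-((l' * c')⁻¹ * (l * c) * bf J f (φ C⁻¹ *ᵥ w)), (l' * c')⁻¹ * (l * c) * bf J e (φ C⁻¹ *ᵥ w), ?_⟩
    rw [← h4, smul_sub, smul_smul, smul_smul, neg_smul]
    abel

end LD

end Cfsg.Agent.H530.Line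
end

-- part: H530/Setup
section
/-!
# Lifting the transitivity to the linear group (helper530, for S4158)
-/

set_option autoImplicit false
set_option linter.unusedSectionVars false

namespace Cfsg.Agent.H530.Setup

open Matrix Subgroup Cfsg.Agent.H530.Cop Cfsg.Agent.H530.LinTools Cfsg.Agent.H530.Flag

variable {F : Type*} [Field F] {ι : Type*} [Fintype ι] [DecidableEq ι] [Nonempty ι] {K : Type*} [Group K]
  {φ : K →* Matrix ι ι F}

theorem scalar_ne_zero {z : K} {c : F} (hc : φ z = scalar ι c) : c ≠ 0 := by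
  rintro rfl
  have h1 : φ z * φ z⁻¹ = 1 := by rw [← map_mul, mul_inv_cancel, map_one]
  rw [hc, map_zero, zero_mul] at h1
  exact zero_ne_one h1

theorem mem_center_of_scalar (hφ : Function.Injective φ) {z : K} {c : F} (hz : φ z = scalar ι c) :
    z ∈ center K := by
  rw [mem_center_iff]
  intro g
  apply hφ
  rw [map_mul, map_mul, hz]
  exact ((scalar_commute c (fun r => Commute.all c r) (φ g)).eq).symm

theorem exists_lift {p : ℕ} [Fact p.Prime] [CharP F p] (hφ : Function.Injective φ)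
    (hcen : ∀ z ∈ center K, ∃ c : F, φ z = scalar ι c) [Finite (K ⧸ center K)] {X Y : K}
    (hc : (ci (X : K ⧸ center K)).Coprime (ci (Y : K ⧸ center K))) (hpx : ¬ p ∣ ci (X : K ⧸ center K))
    (hx1 : (X : K ⧸ center K) ≠ 1) {O : Type*} (W : O → Subgroup K) (k : ℕ) (hW : ∀ o, ∀ u ∈ W o, u ^ p ^ k = 1)
    (o o' : O) :
    ∃ (Z C : K) (ζ : F), ζ ≠ 0 ∧ Z ∉ center K ∧ C * Z * C⁻¹ ∉ center K ∧ (∀ u ∈ W o, u * Z = Z * u) ∧
      (∀ u ∈ W o', u * (C * Z * C⁻¹) = C * Z * C⁻¹ * u) ∧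
      (∀ w, φ C *ᵥ (φ Y *ᵥ w) = ζ • (φ Y *ᵥ (φ C *ᵥ w))) ∧
      ∃ (G : K) (s : F), s ≠ 0 ∧ ∀ w, φ Z *ᵥ w = s • (φ G *ᵥ (φ X *ᵥ (φ G⁻¹ *ᵥ w))) := by
  have hpp : p.Prime := Fact.out
  let V : O → Subgroup (K ⧸ center K) := fun o => (W o).map (QuotientGroup.mk' _)
  have hV : ∀ o, IsPGroup p (V o) := by
    rintro o ⟨a, ha⟩
    obtain ⟨u, hu, rfl⟩ := mem_map.1 ha
    refine ⟨k, Subtype.ext ?_⟩
    change (QuotientGroup.mk' (center K) u) ^ p ^ k = 1
    rw [← map_pow, hW o u hu, map_one]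
  have hZ : ∀ z ∈ center K, ∀ k : ℕ, z ^ p ^ k = 1 → z = 1 := by
    intro z hz k hk
    obtain ⟨c, hc⟩ := hcen z hz
    exact torsion_free hφ hc hk
  obtain ⟨z, c, hcy, ⟨g, hzg⟩, hz, hz'⟩ := exists_pair hpp hc hpx V hV o o'
  obtain ⟨Z, rfl⟩ := QuotientGroup.mk_surjective z
  obtain ⟨C, rfl⟩ := QuotientGroup.mk_surjective c
  obtain ⟨G, rfl⟩ := QuotientGroup.mk_surjective g
  have hz1 : (Z : K ⧸ center K) ≠ 1 := by
    rw [hzg]
    intro h
    apply hx1
    have : (X : K ⧸ center K) = (G : K ⧸ center K)⁻¹ * (G * X * (G : K ⧸ center K)⁻¹) * G := by group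
    rw [this, h]; group
  have hz1' : ((C * Z * C⁻¹ : K) : K ⧸ center K) ≠ 1 := by
    intro h
    apply hz1
    have h2 : (C : K ⧸ center K) * Z * (C : K ⧸ center K)⁻¹ = 1 := h
    rw [mul_inv_eq_one] at h2
    exact mul_eq_left.1 h2
  obtain ⟨ζ, hζ, hζ'⟩ := exists_zeta hcy
  obtain ⟨r, hr⟩ := hcen _ hζ
  have h3 : (Z : K ⧸ center K) = ((G * X * G⁻¹ : K) : K ⧸ center K) := hzg
  have h4 : (G * X * G⁻¹)⁻¹ * Z ∈ center K := by
    rw [← QuotientGroup.eq]
    exact h3.symm
  obtain ⟨s, hs⟩ := hcen _ h4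
  refine ⟨Z, C, r, scalar_ne_zero hr, fun h => hz1 ((QuotientGroup.eq_one_iff Z).2 h),
    fun h => hz1' ((QuotientGroup.eq_one_iff _).2 h), ?_, ?_, ?_, G, s, scalar_ne_zero hs, ?_⟩
  · intro u hu
    exact comm_of_comm hZ (hW o u hu) (hz _ (mem_map_of_mem _ hu))
  · intro u hu
    exact comm_of_comm hZ (hW o' u hu) (hz' _ (mem_map_of_mem _ hu))
  · intro w
    rw [← mul_mulVec, hζ', mul_mulVec, hr, mul_mulVec, scalar_mulVec]
  · intro w
    have h5 : Z = (G * X * G⁻¹) * ((G * X * G⁻¹)⁻¹ * Z) := by group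
    rw [h5, mul_mulVec, hs, scalar_mulVec, mulVec_smul, mul_mulVec, mul_mulVec]

theorem noCop_of_scalar {p : ℕ} (hp : p.Prime) (hφ : Function.Injective φ) [Finite (K ⧸ center K)]
    [IsSimpleGroup (K ⧸ center K)] (hna : ¬ IsMulCommutative (K ⧸ center K))
    (H : ∀ X Y : K, (ci (X : K ⧸ center K)).Coprime (ci (Y : K ⧸ center K)) → ¬ p ∣ ci (X : K ⧸ center K) →
      (X : K ⧸ center K) ≠ 1 → ∃ c : F, φ Y = scalar ι c) : NoCop (K ⧸ center K) := by
  refine noCop_of_char hna hp ⊥ IsPGroup.of_bot ?_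
  intro x y hx hy _ hc hpx _
  obtain ⟨X, rfl⟩ := QuotientGroup.mk_surjective x
  obtain ⟨Y, rfl⟩ := QuotientGroup.mk_surjective y
  have hx1 : (X : K ⧸ center K) ≠ 1 := fun h => by rw [h, orderOf_one] at hx; exact Nat.not_prime_one hx
  have hy1 : (Y : K ⧸ center K) ≠ 1 := fun h => by rw [h, orderOf_one] at hy; exact Nat.not_prime_one hy
  obtain ⟨c, hc⟩ := H X Y hc hpx hx1
  exact hy1 ((QuotientGroup.eq_one_iff Y).2 (mem_center_of_scalar hφ hc))

end Cfsg.Agent.H530.Setup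
end

-- part: H530/ExcTor
section
/-!
# No coprime class sizes: groups of Lie type with two self-centralizing tori (helper530, for S4158)

* `apart_tor` : primes `r`, `r'` with tori of coprime orders are apart;
* `isPGroup_of_char` : in a simple group of Lie type in characteristic `p` the elements of class size prime to `p` are
  `p`-elements;
* `apart_char` : `p` and `r` are apart;
* `noCop_of_two` : NoCop from two tori; `noCop_of_three` : NoCop from three tori.
-/

set_option autoImplicit false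

namespace Cfsg.Agent.H530.ExcTor

open Subgroup Cfsg.Agent.H530.Cop

variable {G : Type*} [Group G]

/-- `T` has elements of order `r` and these have their centralizers in `T` -/
structure TorAt (r : ℕ) (T : Subgroup G) : Prop where
  prime : r.Prime
  dvd : r ∣ Nat.card ↥T
  cent : ∀ y ∈ T, orderOf y = r → centralizer {y} ≤ T

theorem TorAt.mem [Finite G] {r : ℕ} {T : Subgroup G} (h : TorAt r T) {g : G} (hg : ¬ r ∣ ci g) :
    ∃ a : G, a * g * a⁻¹ ∈ T := by
  have hrf : Fact r.Prime := ⟨h.prime⟩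
  obtain ⟨⟨y, hy⟩, hyr⟩ := exists_prime_orderOf_dvd_card' (G := ↥T) r h.dvd
  rw [Subgroup.orderOf_mk] at hyr
  have hU : IsPGroup r (zpowers y) := by
    refine IsPGroup.of_card (n := 1) ?_
    rw [Nat.card_zpowers, hyr, pow_one]
  obtain ⟨a, ha⟩ := exists_conj_le h.prime hg hU
  refine ⟨a, h.cent y hy hyr ?_⟩
  rw [mem_centralizer_singleton_iff]
  exact (ha y (mem_zpowers y)).symm

theorem TorAt.orderOf_dvd [Finite G] {r : ℕ} {T : Subgroup G} (h : TorAt r T) {g : G} (hg : ¬ r ∣ ci g) :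
    orderOf g ∣ Nat.card ↥T := by
  obtain ⟨a, ha⟩ := h.mem hg
  have h1 := orderOf_dvd_natCard (⟨_, ha⟩ : ↥T)
  rw [Subgroup.orderOf_mk] at h1
  have h2 : orderOf (a * g * a⁻¹) = orderOf g := orderOf_injective (MulAut.conj a).toMonoidHom
    (MulAut.conj a).injective g
  rwa [h2] at h1

theorem apart_tor [Finite G] {r r' : ℕ} {T T' : Subgroup G} (h : TorAt r T) (h' : TorAt r' T')
    (hc : (Nat.card ↥T).Coprime (Nat.card ↥T')) : Apart G r r' := by
  intro g hg
  by_contra hn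
  push Not at hn
  apply hg
  rw [← orderOf_eq_one_iff]
  exact Nat.dvd_one.1 (hc ▸ Nat.dvd_gcd (h.orderOf_dvd hn.1) (h'.orderOf_dvd hn.2))

/-- **Elements whose class size is prime to the characteristic are `p`-elements.** -/
theorem isPGroup_of_char [Finite G] [IsSimpleGroup G] (hna : ¬ IsMulCommutative G) {p : ℕ} [Fact p.Prime]
    (hp : IsLieTypeChar p G) {g : G} (hg : ¬ p ∣ ci g) : ∃ n : ℕ, g ^ p ^ n = 1 := by
  obtain ⟨U⟩ : Nonempty (Sylow p G) := inferInstance
  obtain ⟨a, ha⟩ := exists_conj_le Fact.out hg U.2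
  set h : G := a * g * a⁻¹ with hh
  -- the `p'`-part of `h`
  obtain ⟨n, m, hpm, hnm⟩ : ∃ n m : ℕ, ¬ p ∣ m ∧ orderOf h = p ^ n * m :=
    Nat.exists_eq_pow_mul_and_not_dvd (orderOf_pos h).ne' p (Fact.out : p.Prime).ne_one
  have hk : orderOf (h ^ p ^ n) = m := by
    rw [orderOf_pow_of_dvd (pow_ne_zero _ (Fact.out : p.Prime).ne_zero) ⟨m, hnm⟩, hnm]
    exact Nat.mul_div_cancel_left _ (pow_pos (Fact.out : p.Prime).pos _)
  have h1 : (MulAut.conj (h ^ p ^ n) : MulAut G) = 1 := by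
    refine S4613.result p hp _ ?_ U ?_
    · intro h2
      exact hpm (hk ▸ h2.trans (orderOf_map_dvd (MulAut.conj) _))
    · intro x hx
      rw [MulAut.conj_apply, mul_inv_eq_iff_eq_mul]
      have h3 : Commute x h := ha x hx
      exact (h3.pow_right _).symm
  have h2 : h ^ p ^ n ∈ center G := by
    rw [mem_center_iff]
    intro x
    have h3 := DFunLike.congr_fun h1 x
    rw [MulAut.conj_apply, MulAut.one_apply, mul_inv_eq_iff_eq_mul] at h3
    exact h3.symm
  have h3 : h ^ p ^ n = 1 := by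
    by_contra hne
    refine cent_ne_top hna hne (eq_top_iff.2 fun x _ => ?_)
    rw [mem_centralizer_singleton_iff]
    exact (mem_center_iff.1 h2 x)
  refine ⟨n, ?_⟩
  have h4 : (a * g * a⁻¹) ^ p ^ n = a * g ^ p ^ n * a⁻¹ := conj_pow
  rw [← hh, h3] at h4
  have h5 : a⁻¹ * (a * g ^ p ^ n * a⁻¹) * a = 1 := by rw [← h4]; group
  calc g ^ p ^ n = a⁻¹ * (a * g ^ p ^ n * a⁻¹) * a := by group
    _ = 1 := h5

theorem apart_char [Finite G] [IsSimpleGroup G] (hna : ¬ IsMulCommutative G) {p : ℕ} [Fact p.Prime]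
    (hp : IsLieTypeChar p G) {r : ℕ} {T : Subgroup G} (h : TorAt r T) (hc : ¬ p ∣ Nat.card ↥T) : Apart G p r := by
  intro g hg
  by_contra hn
  push Not at hn
  obtain ⟨n, hgn⟩ := isPGroup_of_char hna hp hn.1
  apply hg
  rw [← orderOf_eq_one_iff]
  have h1 : orderOf g ∣ p ^ n := orderOf_dvd_of_pow_eq_one hgn
  have h2 : (p ^ n).Coprime (Nat.card ↥T) :=
    Nat.Coprime.pow_left n ((Nat.Prime.coprime_iff_not_dvd Fact.out).2 hc)
  exact Nat.dvd_one.1 (h2 ▸ Nat.dvd_gcd h1 (h.orderOf_dvd hn.2))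

/-- **NoCop from two tori of coprime orders prime to the characteristic.** -/
theorem noCop_of_two [Finite G] [IsSimpleGroup G] (hna : ¬ IsMulCommutative G) {p : ℕ} [Fact p.Prime]
    (hp : IsLieTypeChar p G) {r₁ r₂ : ℕ} {T₁ T₂ : Subgroup G} (h₁ : TorAt r₁ T₁) (h₂ : TorAt r₂ T₂)
    (hp1 : ¬ p ∣ Nat.card ↥T₁) (hp2 : ¬ p ∣ Nat.card ↥T₂) (h12 : (Nat.card ↥T₁).Coprime (Nat.card ↥T₂)) : NoCop G :=
  noCop_of_apart Fact.out h₁.prime h₂.prime (apart_char hna hp h₁ hp1) (apart_tor h₁ h₂ h12)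
    (apart_char hna hp h₂ hp2)

end Cfsg.Agent.H530.ExcTor
end
end

-- part: H530/Final_mg
section
prune_inst 0x8000000000200000009000000000000000400100002000002000000000000000000000000000000000000000000000000000000000000000000001000000020000000000000000000000000000000000000000000000000000000
set_option linter.all false
open scoped Cfsg.Agent.FastGrp

-- part: H530/Psl
section
/-!
# No coprime class sizes in `PSL_n(F)`, `n ≥ 3` (helper530, for S4158)

`z ∈ SL_n` centralizing the radical `U v f` of the stabilizer of an incident point-hyperplane pair is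
`λ + b (v ⊗ f)`. Hence `C(y)` is transitive on these pairs, if `x`, `y` have coprime class sizes. So `f (y v) = 0` for
all pairs or for none.
-/

set_option autoImplicit false
set_option linter.unusedSectionVars false

namespace Cfsg.Agent.H530.Psl

open Matrix Subgroup Cfsg.Agent.H530.Cop Cfsg.Agent.H530.LinTools Cfsg.Agent.H530.Flag

variable {F : Type*} [Field F] {n : ℕ}

/-- the matrices -/
def mt (n : ℕ) (F : Type*) [Field F] : _root_.Matrix.SpecialLinearGroup (Fin n) F →* Matrix (Fin n) (Fin n) F :=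
  (Units.coeHom (Matrix (Fin n) (Fin n) F)).comp SpecialLinearGroup.toGL

theorem mt_injective : Function.Injective (mt n F) := fun _ _ h => Subtype.ext h

/-- transvections -/
def tv (v g : Fin n → F) (h : g ⬝ᵥ v = 0) : _root_.Matrix.SpecialLinearGroup (Fin n) F := ⟨1 + vecMulVec v g, det_tv h⟩

theorem tv_mulVec (v g : Fin n → F) (h : g ⬝ᵥ v = 0) (w : Fin n → F) :
    mt n F (tv v g h) *ᵥ w = w + (g ⬝ᵥ w) • v := by
  change (1 + vecMulVec v g) *ᵥ w = _
  rw [add_mulVec, one_mulVec, vecMulVec_mulVec]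
  simp only [_root_.IsCentralScalar.op_smul_eq_smul]

theorem tv_mem_left {v f g : Fin n → F} (hf : f ⬝ᵥ v = 0) (h : g ⬝ᵥ v = 0) : tv v g h ∈ U (mt n F) v f := by
  refine ⟨fun w => ?_, fun w _ => ⟨g ⬝ᵥ w, ?_⟩, ?_⟩
  · rw [tv_mulVec, add_sub_cancel_left, dotProduct_smul, hf, smul_zero]
  · rw [tv_mulVec, add_sub_cancel_left]
  · rw [tv_mulVec, h, zero_smul, add_zero]

theorem tv_mem_right {v f w' : Fin n → F} (hf : f ⬝ᵥ v = 0) (h : f ⬝ᵥ w' = 0) : tv w' f h ∈ U (mt n F) v f := by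
  refine ⟨fun w => ?_, fun w hw => ⟨0, ?_⟩, ?_⟩
  · rw [tv_mulVec, add_sub_cancel_left, dotProduct_smul, h, smul_zero]
  · rw [tv_mulVec, add_sub_cancel_left, hw, zero_smul, zero_smul]
  · rw [tv_mulVec, hf, zero_smul, add_zero]

/-- `z` commutes with `tv v g` -/
theorem comm_tv {v g : Fin n → F} {h : g ⬝ᵥ v = 0} {z : _root_.Matrix.SpecialLinearGroup (Fin n) F}
    (hz : tv v g h * z = z * tv v g h) (w : Fin n → F) :
    (g ⬝ᵥ (mt n F z *ᵥ w)) • v = (g ⬝ᵥ w) • (mt n F z *ᵥ v) := by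
  have h1 := congrArg (fun a : _root_.Matrix.SpecialLinearGroup (Fin n) F => mt n F a *ᵥ w) hz
  simp only [mul_mulVec] at h1
  rw [tv_mulVec, tv_mulVec, mulVec_add, mulVec_smul] at h1
  exact add_left_cancel h1

/-- the centralizer of `U v f` -/
theorem form_of_comm {v f : Fin n → F} (hv : v ≠ 0) (hf : f ≠ 0) (hfv : f ⬝ᵥ v = 0)
    {z : _root_.Matrix.SpecialLinearGroup (Fin n) F} (hz : ∀ u ∈ U (mt n F) v f, u * z = z * u) :
    ∃ a b : F, ∀ w, mt n F z *ᵥ w = a • w + (b * (f ⬝ᵥ w)) • v := by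
  obtain ⟨i, hi⟩ := Function.ne_iff.1 hf
  have hi' : f i ≠ 0 := hi
  have hfs : f ⬝ᵥ (Pi.single i 1) = f i := by simp only [_root_.dotProduct_single, _root_.mul_one]
  -- z v = a v
  have h1 := comm_tv (hz _ (tv_mem_left hfv hfv)) (Pi.single i 1)
  rw [hfs] at h1
  set a := (f i)⁻¹ * (f ⬝ᵥ (mt n F z *ᵥ Pi.single i 1)) with ha
  have hzv : mt n F z *ᵥ v = a • v := by
    rw [ha, mul_smul, h1, smul_smul, inv_mul_cancel₀ hi', one_smul]
  -- g z = a g for g v = 0
  obtain ⟨j, hj⟩ := Function.ne_iff.1 hv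
  have hj' : v j ≠ 0 := hj
  have h2 : ∀ g : Fin n → F, g ⬝ᵥ v = 0 → ∀ w, g ⬝ᵥ (mt n F z *ᵥ w) = a * (g ⬝ᵥ w) := by
    intro g hg w
    have h3 := comm_tv (hz _ (tv_mem_left hfv hg)) w
    rw [hzv, smul_smul] at h3
    have h4 := congrFun h3 j
    rw [Pi.smul_apply, Pi.smul_apply, smul_eq_mul, smul_eq_mul] at h4
    have h5 := mul_right_cancel₀ hj' h4
    rw [h5, mul_comm]
  -- z w = a w on ker f
  have h3 : ∀ w, f ⬝ᵥ w = 0 → mt n F z *ᵥ w = a • w := by
    intro w hw
    have h4 := comm_tv (hz _ (tv_mem_right hfv hw)) (Pi.single i 1)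
    rw [h2 f hfv, hfs] at h4
    have h5 := congrArg (fun t => (f i)⁻¹ • t) h4
    simp only [smul_smul] at h5
    rw [inv_mul_cancel₀ hi', one_smul, show (f i)⁻¹ * (a * f i) = a by field_simp] at h5
    exact h5.symm
  -- the rest
  obtain ⟨b, hb⟩ := exists_smul_of_annih (v := v) (u := mt n F z *ᵥ (Pi.single i 1) - a • Pi.single i 1) hv (by
    intro g hg
    rw [dotProduct_sub, h2 g hg, dotProduct_smul, smul_eq_mul, sub_self])
  refine ⟨a, b * (f i)⁻¹, fun w => ?_⟩
  have h4 : f ⬝ᵥ (w - ((f i)⁻¹ * (f ⬝ᵥ w)) • Pi.single i 1) = 0 := by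
    rw [dotProduct_sub, dotProduct_smul, hfs, smul_eq_mul]
    field_simp
    ring
  have h5 := h3 _ h4
  rw [mulVec_sub, mulVec_smul] at h5
  have h6 : mt n F z *ᵥ (Pi.single i 1) = a • Pi.single i 1 + b • v := by rw [← hb]; abel
  rw [h6] at h5
  have h7 : mt n F z *ᵥ w = a • (w - ((f i)⁻¹ * (f ⬝ᵥ w)) • Pi.single i 1) +
      ((f i)⁻¹ * (f ⬝ᵥ w)) • (a • Pi.single i 1 + b • v) := by rw [← h5]; abel
  rw [h7, smul_sub, smul_add, smul_smul, smul_smul, smul_smul, mul_comm a ((f i)⁻¹ * _),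
    show (f i)⁻¹ * (f ⬝ᵥ w) * b = b * (f i)⁻¹ * (f ⬝ᵥ w) by ring]
  abel

/-- a non-central element -/
theorem b_ne {v f : Fin n → F} {z : _root_.Matrix.SpecialLinearGroup (Fin n) F} (hz : (z : _root_.Matrix.SpecialLinearGroup (Fin n) F ⧸
    center (_root_.Matrix.SpecialLinearGroup (Fin n) F)) ≠ 1) {a b : F} (h : ∀ w, mt n F z *ᵥ w = a • w + (b * (f ⬝ᵥ w)) • v) :
    b ≠ 0 := by
  rintro rfl
  apply hz
  rw [QuotientGroup.eq_one_iff, mem_center_iff]
  intro g
  apply mt_injective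
  refine ext_mulVec fun w => ?_
  rw [mul_mulVec, mul_mulVec, h, h]
  simp only [mulVec_smul, _root_.MulZeroClass.zero_mul, _root_.zero_smul, _root_.add_zero]

theorem center_scalar {z : _root_.Matrix.SpecialLinearGroup (Fin n) F} (hz : z ∈ center (_root_.Matrix.SpecialLinearGroup (Fin n) F)) :
    ∃ c : F, mt n F z = scalar (Fin n) c := by
  obtain ⟨r, -, hr⟩ := Matrix.SpecialLinearGroup.mem_center_iff.1 hz
  exact ⟨r, hr.symm⟩

theorem mem_center_of_scalar {z : _root_.Matrix.SpecialLinearGroup (Fin n) F} {c : F} (hz : mt n F z = scalar (Fin n) c) :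
    z ∈ center (_root_.Matrix.SpecialLinearGroup (Fin n) F) := by
  rw [mem_center_iff]
  intro g
  apply mt_injective
  rw [map_mul, map_mul, hz]
  exact ((scalar_commute c (fun r => Commute.all c r) (mt n F g)).eq).symm

abbrev PS (n : ℕ) (F : Type*) [Field F] := ProjectiveSpecialLinearGroup (Fin n) F

theorem noCop [Fintype F] (hn : 3 ≤ n) [IsSimpleGroup (PS n F)] (hna : ¬ IsMulCommutative (PS n F)) :
    NoCop (PS n F) := by
  obtain ⟨p, hp⟩ := CharP.exists F
  have hpp : Fact p.Prime := ⟨CharP.char_is_prime F p⟩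
  have hfin : Finite (PS n F) := Quotient.finite _
  refine noCop_of_char hna hpp.out ⊥ IsPGroup.of_bot ?_
  intro x y hx hy _ hc hpx _
  have hx1 : x ≠ 1 := fun h => by rw [h, orderOf_one] at hx; exact Nat.not_prime_one hx
  have hy1 : y ≠ 1 := fun h => by rw [h, orderOf_one] at hy; exact Nat.not_prime_one hy
  obtain ⟨Y, rfl⟩ := QuotientGroup.mk_surjective y
  have hfinn : 3 ≤ Fintype.card (Fin n) := by rwa [Fintype.card_fin]
  -- objects
  let O := {o : (Fin n → F) × (Fin n → F) // o.1 ≠ 0 ∧ o.2 ≠ 0 ∧ o.2 ⬝ᵥ o.1 = 0}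
  let V : O → Subgroup (PS n F) := fun o => (U (mt n F) o.1.1 o.1.2).map (QuotientGroup.mk' _)
  have hV : ∀ o, IsPGroup p (V o) := fun o => isPGroup_map mt_injective _ _
  have hZ : ∀ z ∈ center (_root_.Matrix.SpecialLinearGroup (Fin n) F), ∀ k : ℕ, z ^ p ^ k = 1 → z = 1 := by
    intro z hz k hk
    obtain ⟨c, hc⟩ := center_scalar hz
    exact torsion_free mt_injective hc hk
  have form : ∀ (o : O) (z : _root_.Matrix.SpecialLinearGroup (Fin n) F),
      (∀ u ∈ V o, u * (z : PS n F) = z * u) → (z : PS n F) ≠ 1 →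
      ∃ a b : F, b ≠ 0 ∧ ∀ w, mt n F z *ᵥ w = a • w + (b * (o.1.2 ⬝ᵥ w)) • o.1.1 := by
    intro o z hz hz1
    obtain ⟨a, b, hab⟩ := form_of_comm (z := z) o.2.1 o.2.2.1 o.2.2.2 (by
      intro u hu
      refine comm_of_comm hZ (pow_eq_one mt_injective hu) ?_
      exact hz _ (mem_map_of_mem _ hu))
    exact ⟨a, b, b_ne hz1 hab, hab⟩
  -- the relation is constant
  have key : ∀ o o' : O, o.1.2 ⬝ᵥ (mt n F Y *ᵥ o.1.1) = 0 → o'.1.2 ⬝ᵥ (mt n F Y *ᵥ o'.1.1) = 0 := by
    intro o o' ho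
    obtain ⟨z, c, hcy, ⟨g, hzg⟩, hz, hz'⟩ := exists_pair hpp.out hc hpx V hV o o'
    obtain ⟨Z, rfl⟩ := QuotientGroup.mk_surjective z
    obtain ⟨C, rfl⟩ := QuotientGroup.mk_surjective c
    have hz1 : (Z : PS n F) ≠ 1 := by
      rw [hzg]
      intro h
      apply hx1
      have : x = g⁻¹ * (g * x * g⁻¹) * g := by group
      rw [this, h]; group
    have hz1' : ((C * Z * C⁻¹ : _root_.Matrix.SpecialLinearGroup (Fin n) F) : PS n F) ≠ 1 := by
      intro h
      apply hz1
      have h2 : (C : PS n F) * Z * (C : PS n F)⁻¹ = 1 := h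
      rw [mul_inv_eq_one] at h2
      exact mul_eq_left.1 h2
    obtain ⟨a, b, hb, hab⟩ := form o Z hz hz1
    obtain ⟨a', b', hb', hab'⟩ := form o' (C * Z * C⁻¹) hz' hz1'
    obtain ⟨⟨v, f⟩, hv, hf, hvf⟩ := o
    obtain ⟨⟨v', f'⟩, hv', hf', hvf'⟩ := o'
    change ∀ w, mt n F Z *ᵥ w = a • w + (b * (f ⬝ᵥ w)) • v at hab
    change ∀ w, mt n F (C * Z * C⁻¹) *ᵥ w = a' • w + (b' * (f' ⬝ᵥ w)) • v' at hab'
    change f ⬝ᵥ (mt n F Y *ᵥ v) = 0 at ho
    change f' ⬝ᵥ (mt n F Y *ᵥ v') = 0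
    -- compare
    have e1 : ∀ w, a • (mt n F C *ᵥ w) + (b * (f ⬝ᵥ w)) • (mt n F C *ᵥ v) =
        a' • (mt n F C *ᵥ w) + (b' * (f' ⬝ᵥ (mt n F C *ᵥ w))) • v' := by
      intro w
      rw [← hab', ← mul_mulVec, inv_mul_cancel_right, mul_mulVec, hab, mulVec_add, mulVec_smul, mulVec_smul]
    have haa : a = a' := by
      obtain ⟨w, hw, hw1, hw2⟩ := exists_ne_of_card hfinn f (f' ᵥ* mt n F C)
      have h1 := e1 w
      rw [dotProduct_comm f w, hw1, dotProduct_mulVec, dotProduct_comm _ w, hw2, mul_zero, mul_zero, zero_smul,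
        zero_smul, add_zero, add_zero] at h1
      by_contra hne
      have h2 : (a - a') • (mt n F C *ᵥ w) = 0 := by rw [sub_smul, h1, sub_self]
      rw [smul_eq_zero, sub_eq_zero] at h2
      have h3 := h2.resolve_left hne
      apply hw
      rw [← inv_mulVec (mt n F) C w, h3, mulVec_zero]
    have e2 : ∀ w, (b * (f ⬝ᵥ w)) • (mt n F C *ᵥ v) = (b' * (f' ⬝ᵥ (mt n F C *ᵥ w))) • v' := by
      intro w
      have := e1 w
      rw [haa] at this
      exact add_left_cancel this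
    obtain ⟨i, hi⟩ := Function.ne_iff.1 hf
    have hi' : f i ≠ 0 := hi
    have hfs : f ⬝ᵥ (Pi.single i 1) = f i := by simp only [_root_.dotProduct_single, _root_.mul_one]
    obtain ⟨s, hs⟩ : ∃ s : F, mt n F C *ᵥ v = s • v' := by
      have h1 := congrArg (fun t => (b * f i)⁻¹ • t) (e2 (Pi.single i 1))
      simp only [hfs, smul_smul] at h1
      rw [inv_mul_cancel₀ (mul_ne_zero hb hi'), one_smul] at h1
      exact ⟨_, h1⟩
    have hs0 : s ≠ 0 := by
      rintro rfl
      apply hv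
      rw [← inv_mulVec (mt n F) C v, hs, zero_smul, mulVec_zero]
    have e3 : ∀ w, f' ⬝ᵥ (mt n F C *ᵥ w) = b'⁻¹ * b * s * (f ⬝ᵥ w) := by
      intro w
      have h1 := e2 w
      rw [hs, smul_smul] at h1
      obtain ⟨j, hj⟩ := Function.ne_iff.1 hv'
      have hj' : v' j ≠ 0 := hj
      have h2 := congrFun h1 j
      rw [Pi.smul_apply, Pi.smul_apply, smul_eq_mul, smul_eq_mul] at h2
      have h3 := mul_right_cancel₀ hj' h2
      field_simp
      linear_combination -h3
    obtain ⟨ζ, hζ, hζ'⟩ := exists_zeta hcy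
    obtain ⟨r, hr⟩ := center_scalar hζ
    have hCY : ∀ w, mt n F C *ᵥ (mt n F Y *ᵥ w) = r • (mt n F Y *ᵥ (mt n F C *ᵥ w)) := by
      intro w
      rw [← mul_mulVec, hζ', mul_mulVec, hr, mul_mulVec, scalar_mulVec]
    have hv2 : v' = s⁻¹ • (mt n F C *ᵥ v) := by rw [hs, smul_smul, inv_mul_cancel₀ hs0, one_smul]
    have hr0 : r ≠ 0 := by
      rintro rfl
      apply hv
      have h1 := hCY (mt n F Y⁻¹ *ᵥ v)
      rw [mulVec_inv, zero_smul] at h1
      rw [← inv_mulVec (mt n F) C v, h1, mulVec_zero]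
    have h5 : mt n F Y *ᵥ (mt n F C *ᵥ v) = r⁻¹ • (mt n F C *ᵥ (mt n F Y *ᵥ v)) := by
      rw [hCY, smul_smul, inv_mul_cancel₀ hr0, one_smul]
    rw [hv2, mulVec_smul, h5, dotProduct_smul, dotProduct_smul, e3, ho]
    simp
  -- a pair with `f (Y v) = 0`
  have hn0 : 0 < n := by omega
  let v₀ : Fin n → F := Pi.single ⟨0, hn0⟩ 1
  have hv₀ : v₀ ≠ 0 := fun h => by
    have := congrFun h ⟨0, hn0⟩
    simp [v₀] at this
  obtain ⟨f₀, hf₀, h1, h2⟩ := exists_ne_of_card hfinn v₀ (mt n F Y *ᵥ v₀)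
  have hall : ∀ v f : Fin n → F, v ≠ 0 → f ⬝ᵥ v = 0 → f ⬝ᵥ (mt n F Y *ᵥ v) = 0 := by
    intro v f hv hfv
    by_cases hf : f = 0
    · rw [hf, zero_dotProduct]
    · exact key ⟨(v₀, f₀), hv₀, hf₀, h1⟩ ⟨(v, f), hv, hf, hfv⟩ h2
  obtain ⟨c, hc⟩ := exists_scalar (A := mt n F Y) (by
    intro v
    by_cases hv : v = 0
    · exact ⟨0, by rw [hv, mulVec_zero, smul_zero]⟩
    · exact exists_smul_of_annih hv fun g hg => hall v g hv hg)
  exact hy1 ((QuotientGroup.eq_one_iff Y).2 (mem_center_of_scalar hc))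

end Cfsg.Agent.H530.Psl
end

-- part: H530/Point
section
/-!
# The arguments with points, and with lines in dimension 4 (helper530, for S4158)

* `scalar_of_points` : `Y` preserves a symplectic form, and the elements commuting with `Y` up to scalars are transitive
  on points; then `Y` is scalar if `bf v (Y v) = 0` for some `v ≠ 0`;
* `scalar_of_lines_four` : the same with totally isotropic lines, for exactly commuting elements.
-/

set_option autoImplicit false
set_option linter.unusedSectionVars false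

namespace Cfsg.Agent.H530.Line

open Matrix Subgroup Cfsg.Agent.H530.Cop Cfsg.Agent.H530.LinTools Cfsg.Agent.H530.Flag Cfsg.Agent.H530.Form

variable {F : Type*} [Field F] {ι : Type*} [Fintype ι] [DecidableEq ι] {K : Type*} [Group K]

variable {φ : K →* Matrix ι ι F} {J : Matrix ι ι F}

theorem scalar_of_points (h : LD φ J (fun _ => 0) 0) (Y : K)
    (hT : ∀ e e' : ι → F, e ≠ 0 → e' ≠ 0 → ∃ (C : K) (ζ : F), ζ ≠ 0 ∧
      (∀ w, φ C *ᵥ (φ Y *ᵥ w) = ζ • (φ Y *ᵥ (φ C *ᵥ w))) ∧ ∃ s : F, e' = s • (φ C *ᵥ e))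
    (H : ∃ u, u ≠ 0 ∧ bf J u (φ Y *ᵥ u) = 0) : ∃ c : F, φ Y = scalar ι c := by
  obtain ⟨u, hu, huY⟩ := H
  -- all points
  have hall : ∀ v, bf J v (φ Y *ᵥ v) = 0 := by
    intro v
    by_cases hv : v = 0
    · rw [hv, zero_left]
    obtain ⟨C, ζ, hζ, hCY, s, hs⟩ := hT u v hu hv
    have h4 : φ Y *ᵥ (φ C *ᵥ u) = ζ⁻¹ • (φ C *ᵥ (φ Y *ᵥ u)) := by
      rw [hCY, smul_smul, inv_mul_cancel₀ hζ, one_smul]
    rw [hs, mulVec_smul, h4, smul_left, smul_right, smul_right, h.iso, huY]
    ring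
  have hself : ∀ v, bf J v v = 0 := fun v => h.self v rfl
  have hcomm : ∀ v w, bf J v w = -bf J w v := by
    intro v w
    have h1 := hself (v + w)
    rw [add_left, add_right, add_right, hself, hself] at h1
    linear_combination h1
  -- `Y ^ 2 = 1`
  have hsq : ∀ w, φ Y *ᵥ (φ Y *ᵥ w) = w := by
    intro w
    have h1 : ∀ v w, bf J v (φ Y *ᵥ w) = bf J (φ Y *ᵥ v) w := by
      intro v w
      have h2 := hall (v + w)
      rw [mulVec_add, add_left, add_right, add_right, hall, hall] at h2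
      rw [hcomm (φ Y *ᵥ v) w]
      linear_combination h2
    refine sub_eq_zero.1 (h.nd _ fun v => ?_)
    rw [sub_right, h1, h.iso, sub_self]
  -- an eigenvector
  obtain ⟨e, c, he, hec⟩ : ∃ (e : ι → F) (c : F), e ≠ 0 ∧ φ Y *ᵥ e = c • e := by
    by_cases h1 : φ Y *ᵥ u + u = 0
    · exact ⟨u, -1, hu, by rw [neg_one_smul]; exact eq_neg_of_add_eq_zero_left h1⟩
    · refine ⟨φ Y *ᵥ u + u, 1, h1, ?_⟩
      rw [mulVec_add, hsq, one_smul, add_comm]
  refine exists_scalar fun v => ?_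
  by_cases hv : v = 0
  · exact ⟨0, by rw [hv, mulVec_zero, smul_zero]⟩
  obtain ⟨C, ζ, hζ, hCY, s, hs⟩ := hT e v he hv
  have h4 : φ Y *ᵥ (φ C *ᵥ e) = ζ⁻¹ • (φ C *ᵥ (φ Y *ᵥ e)) := by
    rw [hCY, smul_smul, inv_mul_cancel₀ hζ, one_smul]
  refine ⟨ζ⁻¹ * c, ?_⟩
  rw [hs, mulVec_smul, h4, hec, mulVec_smul, smul_smul, smul_smul, smul_smul]
  congr 1
  ring

theorem LD.perp_line (h : LD φ J (fun _ => 0) 0) (hcard : Fintype.card ι = 4) {e f w : ι → F} (hi : Ind e f)
    (hb : bf J e f = 0) (he : bf J e w = 0) (hf : bf J f w = 0) : ∃ a b : F, w = a • e + b • f := by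
  obtain ⟨w1, hw1, hw1'⟩ := h.exists_dual hi
  obtain ⟨w2, hw2, hw2'⟩ := h.exists_dual hi.symm
  let T : (ι → F) →ₗ[F] (F × F) :=
    { toFun := fun x => (bf J e x, bf J f x)
      map_add' := fun x y => by rw [add_right, add_right]; rfl
      map_smul' := fun c x => by rw [smul_right, smul_right]; rfl }
  have hsurj : LinearMap.range T = ⊤ := by
    rw [LinearMap.range_eq_top]
    rintro ⟨x, y⟩
    refine ⟨x • w1 + y • w2, ?_⟩
    change (bf J e (x • w1 + y • w2), bf J f (x • w1 + y • w2)) = (x, y)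
    rw [add_right, add_right, smul_right, smul_right, smul_right, smul_right, hw1, hw1', hw2, hw2']
    simp
  have h1 := LinearMap.finrank_range_add_finrank_ker T
  rw [hsurj, finrank_top, Module.finrank_prod, Module.finrank_self, Module.finrank_fintype_fun_eq_card, hcard] at h1
  have hli : LinearIndependent F ![e, f] := LinearIndependent.pair_iff.2 hi
  have h2 := finrank_span_eq_card hli
  rw [Fintype.card_fin] at h2
  have hle : Submodule.span F (Set.range ![e, f]) ≤ LinearMap.ker T := by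
    rw [Submodule.span_le]
    rintro _ ⟨i, rfl⟩
    fin_cases i
    · change (bf J e e, bf J f e) = (0, 0)
      rw [h.self e rfl, h.refl _ _ hb]
    · change (bf J e f, bf J f f) = (0, 0)
      rw [hb, h.self f rfl]
  have heq := Submodule.eq_of_le_of_finrank_eq hle (by rw [h2]; omega)
  have h3 : w ∈ LinearMap.ker T := by
    change (bf J e w, bf J f w) = (0, 0)
    rw [he, hf]
  rw [← heq, show Set.range ![e, f] = {e, f} by simp [Set.pair_comm], Submodule.mem_span_pair] at h3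
  obtain ⟨a, b, hab⟩ := h3
  exact ⟨a, b, hab.symm⟩

theorem scalar_of_lines_four [Fintype F] (h : LD φ J (fun _ => 0) 0) (hcard : Fintype.card ι = 4) (Y : K)
    (hT : ∀ e f e' f', Ind e f → bf J e f = 0 → Ind e' f' → bf J e' f' = 0 →
      ∃ C : K, (∀ w, φ C *ᵥ (φ Y *ᵥ w) = φ Y *ᵥ (φ C *ᵥ w)) ∧
        (∃ a b : F, e' = a • (φ C *ᵥ e) + b • (φ C *ᵥ f)) ∧ ∃ a b : F, f' = a • (φ C *ᵥ e) + b • (φ C *ᵥ f))
    (H : ∃ u, u ≠ 0 ∧ bf J u (φ Y *ᵥ u) = 0) : ∃ c : F, φ Y = scalar ι c := by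
  have hself : ∀ v, bf J v v = 0 := fun v => h.self v rfl
  -- vectors outside
  have hperp1 : ∀ v : ι → F, v ≠ 0 → ∃ b, Ind v b ∧ bf J v b = 0 := by
    intro v hv
    obtain ⟨w, hw⟩ := exists_ne_zero h.nd hv
    obtain ⟨x, hx, hx'⟩ := exists_perp J ![v, w] (by omega)
    have h1 := hx' 0
    have h2 := hx' 1
    simp only [cons_val_zero, cons_val_one] at h1 h2
    refine ⟨x, ind_of hv fun c hc => ?_, h1⟩
    rw [hc, smul_right] at h2
    rcases mul_eq_zero.1 h2 with h3 | h3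
    · exact hx (by rw [hc, h3, zero_smul])
    · exact hw h3
  -- the transitivity with `L`
  have hT' : ∀ e f e' f', Ind e f → bf J e f = 0 → Ind e' f' → bf J e' f' = 0 →
      ∃ C : K, (∀ w, φ C *ᵥ (φ Y *ᵥ w) = φ Y *ᵥ (φ C *ᵥ w)) ∧
        ∀ a b : F, ∃ c d : F, a • (φ C *ᵥ e) + b • (φ C *ᵥ f) = c • e' + d • f' := by
    intro e f e' f' hi hb hi' hb'
    obtain ⟨C, hC, ⟨a, b, hab⟩, ⟨a', b', hab'⟩⟩ := hT e f e' f' hi hb hi' hb'
    have hdet : a * b' - a' * b ≠ 0 := by
      intro h0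
      have h1 : b' • e' - b • f' = (a * b' - a' * b) • (φ C *ᵥ e) := by
        rw [hab, hab', smul_add, smul_add, smul_smul, smul_smul, smul_smul, smul_smul, sub_smul, mul_comm b' b,
          mul_comm b' a, mul_comm b a']
        abel
      have h2 : (-a') • e' + a • f' = (a * b' - a' * b) • (φ C *ᵥ f) := by
        rw [hab, hab', smul_add, smul_add, smul_smul, smul_smul, smul_smul, smul_smul, sub_smul, neg_mul, neg_mul,
          neg_smul, neg_smul, mul_comm a' a]
        abel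
      rw [h0, zero_smul] at h1 h2
      have h3 := hi' b' (-b) (by rw [neg_smul, ← sub_eq_add_neg, h1])
      have h4 := hi' _ _ h2
      rw [h4.2, show b = 0 from neg_eq_zero.1 h3.2, zero_smul, zero_smul, zero_add] at hab
      exact hi'.left_ne hab
    refine ⟨C, hC, fun s t => ?_⟩
    have h1 : φ C *ᵥ e = ((a * b' - a' * b)⁻¹ * b') • e' + ((a * b' - a' * b)⁻¹ * (-b)) • f' := by
      have h1 : (a * b' - a' * b) • (φ C *ᵥ e) = b' • e' + (-b) • f' := by
        rw [hab, hab', smul_add, smul_add, smul_smul, smul_smul, smul_smul, smul_smul, sub_smul, mul_comm b' b,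
          mul_comm b' a, neg_mul, neg_mul, neg_smul, neg_smul, mul_comm b a']
        abel
      rw [← smul_smul, ← smul_smul, ← smul_add, ← h1, smul_smul, inv_mul_cancel₀ hdet, one_smul]
    have h2 : φ C *ᵥ f = ((a * b' - a' * b)⁻¹ * (-a')) • e' + ((a * b' - a' * b)⁻¹ * a) • f' := by
      have h1 : (a * b' - a' * b) • (φ C *ᵥ f) = (-a') • e' + a • f' := by
        rw [hab, hab', smul_add, smul_add, smul_smul, smul_smul, smul_smul, smul_smul, sub_smul, neg_mul, neg_mul,
          neg_smul, neg_smul, mul_comm a' a]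
        abel
      rw [← smul_smul, ← smul_smul, ← smul_add, ← h1, smul_smul, inv_mul_cancel₀ hdet, one_smul]
    rw [h1, h2]
    refine ⟨s * ((a * b' - a' * b)⁻¹ * b') + t * ((a * b' - a' * b)⁻¹ * (-a')),
      s * ((a * b' - a' * b)⁻¹ * (-b)) + t * ((a * b' - a' * b)⁻¹ * a), ?_⟩
    rw [smul_add, smul_add, smul_smul, smul_smul, smul_smul, smul_smul, add_smul, add_smul]
    abel
  by_cases hev : ∃ (v : ι → F) (μ : F), v ≠ 0 ∧ φ Y *ᵥ v = μ • v
  · obtain ⟨v, μ, hv, hμ⟩ := hev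
    by_cases hE : ∃ e f : ι → F, Ind e f ∧ bf J e f = 0 ∧ φ Y *ᵥ e = μ • e ∧ φ Y *ᵥ f = μ • f
    · obtain ⟨e, f, hi, hb, he, hf⟩ := hE
      refine exists_scalar fun w => ⟨μ, ?_⟩
      by_cases hw : w = 0
      · rw [hw, mulVec_zero, smul_zero]
      obtain ⟨b, hwb, hwb'⟩ := hperp1 w hw
      obtain ⟨C, hC, ⟨s, t, hst⟩, -⟩ := hT e f w b hi hb hwb hwb'
      rw [hst, mulVec_add, mulVec_smul, mulVec_smul, ← hC, ← hC, he, hf, mulVec_smul, mulVec_smul, smul_add,
        smul_comm s μ, smul_comm t μ]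
    · exfalso
      push Not at hE
      -- each line contains an eigenvector
      have hline : ∀ e' f', Ind e' f' → bf J e' f' = 0 → ∃ c d : F, c • e' + d • f' ≠ 0 ∧
          φ Y *ᵥ (c • e' + d • f') = μ • (c • e' + d • f') := by
        intro e' f' hi' hb'
        obtain ⟨b, hvb, hvb'⟩ := hperp1 v hv
        obtain ⟨C, hC, h1⟩ := hT' v b e' f' hvb hvb' hi' hb'
        obtain ⟨c, d, hcd⟩ := h1 1 0
        rw [one_smul, zero_smul, add_zero] at hcd
        refine ⟨c, d, ?_, ?_⟩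
        · rw [← hcd]
          intro h0
          apply hv
          rw [← inv_mulVec φ C v, h0, mulVec_zero]
        · rw [← hcd, ← hC, hμ, mulVec_smul]
      have hdu : ∀ b, Ind v b → bf J v b = 0 → ∃ c, φ Y *ᵥ c = μ • c ∧ bf J b c = 0 ∧ bf J v c = 1 := by
        intro b hvb hvb'
        obtain ⟨c0, hc1, hc2⟩ := h.exists_dual hvb
        have hi : Ind b c0 := by
          intro s t hst
          have h1 := congrArg (bf J v) hst
          rw [add_right, smul_right, smul_right, hvb', hc1, zero_right] at h1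
          have ht : t = 0 := by simpa using h1
          rw [ht, zero_smul, add_zero, smul_eq_zero] at hst
          exact ⟨hst.resolve_right hvb.right_ne, ht⟩
        obtain ⟨s, t, hne, hst⟩ := hline b c0 hi hc2
        have ht : t ≠ 0 := by
          rintro rfl
          rw [zero_smul, add_zero] at hne hst
          have hs : s ≠ 0 := fun h0 => hne (by rw [h0, zero_smul])
          refine hE v b hvb hvb' hμ ?_
          have h2 := congrArg (fun x => s⁻¹ • x) hst
          simp only [mulVec_smul, smul_smul] at h2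
          rw [inv_mul_cancel₀ hs, one_smul, show s⁻¹ * (μ * s) = μ by field_simp] at h2
          exact h2
        refine ⟨t⁻¹ • (s • b + t • c0), ?_, ?_, ?_⟩
        · rw [mulVec_smul, hst, smul_comm]
        · rw [smul_right, add_right, smul_right, smul_right, hself, hc2]; ring
        · rw [smul_right, add_right, smul_right, smul_right, hvb', hc1]
          field_simp
          ring
      obtain ⟨b, hvb, hvb'⟩ := hperp1 v hv
      obtain ⟨c, hc1, hc2, hc3⟩ := hdu b hvb hvb'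
      obtain ⟨c', hc1', hc2', hc3'⟩ := hdu (b + v) (by
        intro s t hst
        obtain ⟨h1, h2⟩ := hvb (s + t) t (by rw [← hst, add_smul, smul_add]; abel)
        rw [h2, add_zero] at h1
        exact ⟨h1, h2⟩) (by rw [add_right, hvb', hself, add_zero])
      by_cases hd : ∃ s : F, c - c' = s • v
      · obtain ⟨s, hs⟩ := hd
        have h1 : c' = c - s • v := by rw [← hs]; abel
        rw [h1, sub_right, smul_right, add_left, add_left, hc2, hc3, hself, h.refl _ _ hvb'] at hc2'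
        simp at hc2'
      · push Not at hd
        exact hE v (c - c') (ind_of hv hd) (by rw [sub_right, hc3, hc3', sub_self]) hμ
          (by rw [mulVec_sub, hc1, hc1', smul_sub])
  · exfalso
    push Not at hev
    obtain ⟨u, hu, huY⟩ := H
    have hi : Ind u (φ Y *ᵥ u) := ind_of hu fun c => hev u c hu
    -- each line contains `s ≠ 0` with `Y s` in the line
    have hline : ∀ e' f', Ind e' f' → bf J e' f' = 0 → ∃ c d c' d' : F, c • e' + d • f' ≠ 0 ∧
        φ Y *ᵥ (c • e' + d • f') = c' • e' + d' • f' := by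
      intro e' f' hi' hb'
      obtain ⟨C, hC, h1⟩ := hT' u (φ Y *ᵥ u) e' f' hi huY hi' hb'
      obtain ⟨c, d, hcd⟩ := h1 1 0
      obtain ⟨c', d', hcd'⟩ := h1 0 1
      rw [one_smul, zero_smul, add_zero] at hcd
      rw [one_smul, zero_smul, zero_add] at hcd'
      refine ⟨c, d, c', d', ?_, ?_⟩
      · rw [← hcd]
        intro h0
        apply hu
        rw [← inv_mulVec φ C u, h0, mulVec_zero]
      · rw [← hcd, ← hC, hcd']
    obtain ⟨w1, hw1, hw1'⟩ := h.exists_dual hi
    obtain ⟨w2, hw2, hw2'⟩ := h.exists_dual hi.symm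
    obtain ⟨b, hb, hb'⟩ := exists_perp J ![u, w1, w2] (by omega)
    have h1 := hb' 0
    have h2 := hb' 1
    have h3 := hb' 2
    simp only [cons_val_zero, cons_val_one, cons_val_two] at h1 h2 h3
    have hcomm : ∀ v w, bf J v w = -bf J w v := by
      intro v w
      have h1 := hself (v + w)
      rw [add_left, add_right, add_right, hself, hself] at h1
      linear_combination h1
    -- independence
    have hind : ∀ x y z : F, x • u + y • b + z • (φ Y *ᵥ u) = 0 → x = 0 ∧ y = 0 ∧ z = 0 := by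
      intro x y z hxyz
      have e1 := congrArg (bf J w1) hxyz
      have e2 := congrArg (bf J w2) hxyz
      rw [add_right, add_right, smul_right, smul_right, smul_right, zero_right, hcomm w1 u, hw1,
        hcomm w1 (φ Y *ᵥ u), hw1', h2] at e1
      rw [add_right, add_right, smul_right, smul_right, smul_right, zero_right, hcomm w2 u, hw2',
        hcomm w2 (φ Y *ᵥ u), hw2] at e2
      have h3' : bf J w2 b = 0 := h3
      rw [h3'] at e2
      have hx : x = 0 := by linear_combination -e1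
      have hz : z = 0 := by linear_combination -e2
      rw [hx, hz, zero_smul, zero_smul, zero_add, add_zero, smul_eq_zero] at hxyz
      exact ⟨hx, hxyz.resolve_right hb, hz⟩
    have key : ∀ b' : ι → F, bf J u b' = 0 →
        (∀ x y z : F, x • u + y • b' + z • (φ Y *ᵥ u) = 0 → x = 0 ∧ y = 0 ∧ z = 0) →
        ∃ s t : F, φ Y⁻¹ *ᵥ u = s • u + t • b' := by
      intro b' hub hind'
      obtain ⟨c, d, c', d', hne, hY⟩ := hline u b' (fun s t hst => by
        have h4 := hind' s t 0 (by rw [zero_smul, add_zero, hst])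
        exact ⟨h4.1, h4.2.1⟩) hub
      set s := c • u + d • b' with hs
      have e1 : bf J (φ Y *ᵥ u) (φ Y *ᵥ s) = 0 := by
        rw [h.iso, hs, add_right, smul_right, smul_right, hself, hub]; ring
      -- `Y s ∈ ⟨u, Y u⟩`
      have e2 : d' = 0 := by
        obtain ⟨x, y, hxy⟩ := h.perp_line hcard hi huY (w := φ Y *ᵥ s)
          (by rw [hY, add_right, smul_right, smul_right, hself, hub]; ring) e1
        rw [hY] at hxy
        have h5 := hind' (c' - x) d' (-y) (by
          have : (c' - x) • u + d' • b' + (-y) • (φ Y *ᵥ u) = (c' • u + d' • b') - (x • u + y • (φ Y *ᵥ u)) := by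
            rw [sub_smul, neg_smul]; abel
          rw [this, hxy, sub_self])
        exact h5.2.1
      rw [e2, zero_smul, add_zero] at hY
      have hc0 : c' ≠ 0 := by
        rintro rfl
        rw [zero_smul] at hY
        apply hne
        rw [← inv_mulVec φ Y s, hY, mulVec_zero]
      have h6 : s = c' • (φ Y⁻¹ *ᵥ u) := by
        rw [← mulVec_smul, ← hY, inv_mulVec]
      refine ⟨c'⁻¹ * c, c'⁻¹ * d, ?_⟩
      rw [← smul_smul, ← smul_smul, ← smul_add, ← hs, h6, smul_smul, inv_mul_cancel₀ hc0, one_smul]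
    obtain ⟨s, t, hst⟩ := key b h1 hind
    obtain ⟨s', t', hst'⟩ := key (b + φ Y *ᵥ u) (by rw [add_right, huY]; simpa using h1) (by
      intro x y z hxyz
      have h4 := hind x y (y + z) (by rw [← hxyz, smul_add, add_smul]; abel)
      obtain ⟨h5, h6, h7⟩ := h4
      rw [h6, zero_add] at h7
      exact ⟨h5, h6, h7⟩)
    have h4 := hind (s - s') (t - t') (-t') (by
      have : (s - s') • u + (t - t') • b + (-t') • (φ Y *ᵥ u) =
          (s • u + t • b) - (s' • u + t' • (b + φ Y *ᵥ u)) := by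
        rw [sub_smul, sub_smul, neg_smul, smul_add]; abel
      rw [this, ← hst, ← hst', sub_self])
    have h5 : t' = 0 := neg_eq_zero.1 h4.2.2
    rw [h5, zero_smul, add_zero] at hst'
    have hs0 : s' ≠ 0 := by
      rintro rfl
      rw [zero_smul] at hst'
      apply hu
      rw [← mulVec_inv φ Y u, hst', mulVec_zero]
    apply hev u s'⁻¹ hu
    have h6 := congrArg (fun x => φ Y *ᵥ x) hst'
    simp only [mulVec_inv, mulVec_smul] at h6
    conv_rhs => rw [h6]
    rw [smul_smul, inv_mul_cancel₀ hs0, one_smul]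

end Cfsg.Agent.H530.Line
end

-- part: H530/Sp
section
/-!
# No coprime class sizes in `PSp_2m(F)`, `m ≥ 2` (helper530, for S4158)
-/

set_option autoImplicit false
set_option linter.unusedSectionVars false

namespace Cfsg.Agent.H530.Sp

open Matrix Subgroup Cfsg.Agent.H530.Cop Cfsg.Agent.H530.LinTools Cfsg.Agent.H530.Flag Cfsg.Agent.H530.Form
  Cfsg.Agent.H530.Line Cfsg.Agent.H530.Setup Cfsg.Agent.H530.Chain

variable {F : Type*} [Field F] {m : ℕ}

/-- the form -/
abbrev JJ (m : ℕ) (F : Type*) [Field F] : Matrix (Fin m ⊕ Fin m) (Fin m ⊕ Fin m) F := Matrix.J (Fin m) F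

/-- the matrices -/
abbrev mt (m : ℕ) (F : Type*) [Field F] : symplecticGroup (Fin m) F →* Matrix (Fin m ⊕ Fin m) (Fin m ⊕ Fin m) F :=
  (symplecticGroup (Fin m) F).subtype

theorem mt_injective : Function.Injective (mt m F) := Subtype.val_injective

theorem bf_eq (u v : Fin m ⊕ Fin m → F) :
    bf (JJ m F) u v = ∑ i, (u (.inr i) * v (.inl i) - u (.inl i) * v (.inr i)) := by
  unfold bf JJ Matrix.J
  rw [dotProduct, Fintype.sum_sum_type, Finset.sum_sub_distrib]
  simp only [fromBlocks_mulVec, Sum.elim_inl, Sum.elim_inr, zero_mulVec, one_mulVec, neg_mulVec,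
    Pi.neg_apply, Function.comp_apply, zero_add, add_zero, mul_neg, Finset.sum_neg_distrib]
  ring

theorem bf_self (v : Fin m ⊕ Fin m → F) : bf (JJ m F) v v = 0 := by
  rw [bf_eq]
  exact Finset.sum_eq_zero fun i _ => by ring

theorem bf_comm (u v : Fin m ⊕ Fin m → F) : bf (JJ m F) v u = -bf (JJ m F) u v := by
  rw [bf_eq, bf_eq, ← Finset.sum_neg_distrib]
  exact Finset.sum_congr rfl fun i _ => by ring

theorem nd : ND (JJ m F) := by
  intro u hu
  have h1 : JJ m F *ᵥ u = 0 := by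
    funext i
    have := hu (Pi.single i 1)
    unfold bf at this
    rwa [single_one_dotProduct] at this
  have h2 : JJ m F *ᵥ (JJ m F *ᵥ u) = -u := by
    rw [mulVec_mulVec, Matrix.J_squared, neg_mulVec, one_mulVec]
  rw [h1, mulVec_zero] at h2
  exact neg_eq_zero.1 h2.symm

theorem bf_mulVec (A B : Matrix (Fin m ⊕ Fin m) (Fin m ⊕ Fin m) F) (u v : Fin m ⊕ Fin m → F) :
    bf (JJ m F) (A *ᵥ u) (B *ᵥ v) = u ⬝ᵥ ((Aᵀ * JJ m F * B) *ᵥ v) := by
  unfold bf
  rw [mulVec_mulVec, ← mulVec_mulVec, ← mulVec_mulVec, ← mulVec_mulVec, dotProduct_mulVec u, vecMul_transpose]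

theorem iso (g : symplecticGroup (Fin m) F) (u v : Fin m ⊕ Fin m → F) :
    bf (JJ m F) (mt m F g *ᵥ u) (mt m F g *ᵥ v) = bf (JJ m F) u v := by
  rw [bf_mulVec]
  change u ⬝ᵥ ((((g : Matrix (Fin m ⊕ Fin m) (Fin m ⊕ Fin m) F))ᵀ * JJ m F *
    (g : Matrix (Fin m ⊕ Fin m) (Fin m ⊕ Fin m) F)) *ᵥ v) = _
  rw [SymplecticGroup.mem_iff'.1 g.2]
  rfl

/-- isometries are symplectic -/
def el (A : Matrix (Fin m ⊕ Fin m) (Fin m ⊕ Fin m) F) (h : ∀ u v, bf (JJ m F) (A *ᵥ u) (A *ᵥ v) = bf (JJ m F) u v) :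
    symplecticGroup (Fin m) F :=
  ⟨A, by
    rw [SymplecticGroup.mem_iff']
    ext i j
    have h1 := h (Pi.single i 1) (Pi.single j 1)
    rw [bf_mulVec] at h1
    unfold bf at h1
    rw [single_one_dotProduct, single_one_dotProduct, mulVec_single_one, mulVec_single_one] at h1
    exact h1⟩

theorem mt_el (A : Matrix (Fin m ⊕ Fin m) (Fin m ⊕ Fin m) F)
    (h : ∀ u v, bf (JJ m F) (A *ᵥ u) (A *ᵥ v) = bf (JJ m F) u v) : mt m F (el A h) = A := rfl

/-- the transvection `w ↦ w + B(e, w) e` -/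
def tv (e : Fin m ⊕ Fin m → F) : symplecticGroup (Fin m) F :=
  el (two e (e ᵥ* JJ m F) 0 0) (by
    intro u v
    simp only [two_mulVec, vecMul_eq, add_left, add_right, smul_left, smul_right, zero_left, zero_right, bf_self,
      bf_comm e u, zero_dotProduct, zero_smul]
    ring)

theorem tv_mulVec (e w : Fin m ⊕ Fin m → F) : mt m F (tv e) *ᵥ w = w + bf (JJ m F) e w • e := by
  unfold tv
  rw [mt_el, two_mulVec, vecMul_eq, smul_zero, add_zero]

/-- `w ↦ w + B(e, w) u + B(u, w) e` -/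
def sg (e u : Fin m ⊕ Fin m → F) (h : bf (JJ m F) e u = 0) : symplecticGroup (Fin m) F :=
  el (two u (e ᵥ* JJ m F) e (u ᵥ* JJ m F)) (by
    intro a b
    simp only [two_mulVec, vecMul_eq, add_left, add_right, smul_left, smul_right, bf_self, h, bf_comm e u,
      bf_comm e a, bf_comm u a]
    ring)

theorem sg_mulVec (e u : Fin m ⊕ Fin m → F) (h : bf (JJ m F) e u = 0) (w : Fin m ⊕ Fin m → F) :
    mt m F (sg e u h) *ᵥ w = w + bf (JJ m F) e w • u + bf (JJ m F) u w • e := by
  unfold sg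
  rw [mt_el, two_mulVec, vecMul_eq, vecMul_eq]

/-- the linear data -/
theorem ld : LD (mt m F) (JJ m F) (fun _ => 0) 0 where
  iso := iso
  nd := nd
  refl := fun u v h => by rw [bf_comm, h, neg_zero]
  self := fun v _ => bf_self v
  Qadd := fun _ _ => by ring
  Qsmul := fun _ _ => by ring
  Qiso := fun _ _ => rfl
  hκ := Or.inr fun _ => rfl

theorem smul_left_cancel' {e : Fin m ⊕ Fin m → F} (he : e ≠ 0) {a b : F} (h : a • e = b • e) : a = b := by
  have h1 : (a - b) • e = 0 := by rw [sub_smul, h, sub_self]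
  exact sub_eq_zero.1 ((smul_eq_zero.1 h1).resolve_right he)

/-- **The shape of the elements commuting with the radical of a point stabilizer.** -/
theorem form {e : Fin m ⊕ Fin m → F} (he : e ≠ 0) {z : symplecticGroup (Fin m) F}
    (hz1 : tv e * z = z * tv e) (hz2 : ∀ u (h : bf (JJ m F) e u = 0), sg e u h * z = z * sg e u h) :
    ∃ (l c : F) (r : Fin m ⊕ Fin m → F), l * l = 1 ∧ bf (JJ m F) e r = 0 ∧ mt m F z *ᵥ e = l • e ∧
      (∀ u, bf (JJ m F) e u = 0 → 2 * l * bf (JJ m F) u r = 0) ∧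
      ∀ w, mt m F z *ᵥ w = l • w + bf (JJ m F) e w • r + (bf (JJ m F) w r + c * bf (JJ m F) e w) • e := by
  obtain ⟨w0, hw0⟩ : ∃ w0, bf (JJ m F) e w0 = 1 := by
    obtain ⟨w, hw⟩ := exists_eq_one nd he
    exact ⟨-w, by rw [bf_comm, neg_left, hw, neg_neg]⟩
  have h1 : ∀ w, bf (JJ m F) e (mt m F z *ᵥ w) • e = bf (JJ m F) e w • (mt m F z *ᵥ e) := by
    intro w
    have h2 := congrArg (fun a : symplecticGroup (Fin m) F => mt m F a *ᵥ w) hz1
    simp only [mul_mulVec] at h2
    rw [tv_mulVec, tv_mulVec, mulVec_add, mulVec_smul] at h2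
    exact add_left_cancel h2
  set l := bf (JJ m F) e (mt m F z *ᵥ w0) with hl
  have hze : mt m F z *ᵥ e = l • e := by
    have := h1 w0
    rw [hw0, one_smul] at this
    exact this.symm
  have h2 : ∀ w, bf (JJ m F) e (mt m F z *ᵥ w) = l * bf (JJ m F) e w := by
    intro w
    have := h1 w
    rw [hze, smul_smul] at this
    rw [smul_left_cancel' he this, mul_comm]
  have hll : l * l = 1 := by
    have := iso z e w0
    rwa [hze, smul_left, h2, hw0, mul_one] at this
  set r := mt m F z *ᵥ w0 - l • w0 with hr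
  have her : bf (JJ m F) e r = 0 := by
    rw [hr, sub_right, smul_right, h2, hw0]; ring
  have hzw0 : mt m F z *ᵥ w0 = l • w0 + r := by rw [hr]; abel
  have h3 : ∀ u, bf (JJ m F) e u = 0 → mt m F z *ᵥ u = l • u + bf (JJ m F) u r • e := by
    intro u hu
    have h4 := congrArg (fun a : symplecticGroup (Fin m) F => mt m F a *ᵥ w0) (hz2 u hu)
    simp only [mul_mulVec] at h4
    rw [sg_mulVec, sg_mulVec, mulVec_add, mulVec_add, mulVec_smul, mulVec_smul, hw0, one_smul, hze, h2, hw0,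
      mul_one, hzw0, add_right, smul_right] at h4
    have h5 : mt m F z *ᵥ u = (l • w0 + r + mt m F z *ᵥ u + bf (JJ m F) u w0 • l • e) -
        (l • w0 + r + bf (JJ m F) u w0 • l • e) := by abel
    rw [h5, ← h4, smul_smul, add_smul, mul_comm l (bf (JJ m F) u w0)]
    abel
  refine ⟨l, -bf (JJ m F) w0 r, r, hll, her, hze, ?_, ?_⟩
  · intro u hu
    have h4 := iso z u w0
    rw [h3 u hu, hzw0, add_left, smul_left, smul_left, add_right, smul_right, add_right, smul_right, her, hw0] at h4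
    linear_combination h4 - bf (JJ m F) u w0 * hll
  · intro w
    have h4 := h3 (w - bf (JJ m F) e w • w0) (by rw [sub_right, smul_right, hw0]; ring)
    rw [mulVec_sub, mulVec_smul, hzw0, sub_left, smul_left] at h4
    have h5 : mt m F z *ᵥ w = (mt m F z *ᵥ w - bf (JJ m F) e w • (l • w0 + r)) + bf (JJ m F) e w • (l • w0 + r) := by
      abel
    rw [h5, h4, smul_sub, smul_add, smul_smul, smul_smul, mul_comm l (bf (JJ m F) e w),
      show bf (JJ m F) w r - bf (JJ m F) e w * bf (JJ m F) w0 r =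
        bf (JJ m F) w r + -bf (JJ m F) w0 r * bf (JJ m F) e w by ring]
    abel

/-- `p ≠ 2` -/
theorem form_odd (h2 : (2 : F) ≠ 0) {e : Fin m ⊕ Fin m → F} (he : e ≠ 0) {z : symplecticGroup (Fin m) F}
    (hz1 : tv e * z = z * tv e) (hz2 : ∀ u (h : bf (JJ m F) e u = 0), sg e u h * z = z * sg e u h) :
    ∃ l b : F, ∀ w, mt m F z *ᵥ w = l • w + (b * bf (JJ m F) e w) • e := by
  obtain ⟨l, c, r, hll, her, hze, h3, h4⟩ := form he hz1 hz2
  have hl0 : l ≠ 0 := by rintro rfl; simp at hll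
  obtain ⟨s, hs⟩ := ld.eq_smul (v := e) (r := r) fun w hw => by
    have := h3 w hw
    exact (mul_eq_zero.1 this).resolve_left (mul_ne_zero h2 hl0)
  refine ⟨l, c, fun w => ?_⟩
  rw [h4, hs, smul_right, bf_comm e w, smul_smul, add_assoc, ← add_smul]
  congr 2
  ring

/-- `p = 2` -/
theorem form_even (h2 : (2 : F) = 0) {e f : Fin m ⊕ Fin m → F} (hef : Ind e f) (hB : bf (JJ m F) e f = 0)
    {z : symplecticGroup (Fin m) F}
    (hz1 : tv e * z = z * tv e) (hz2 : ∀ u (h : bf (JJ m F) e u = 0), sg e u h * z = z * sg e u h)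
    (hz3 : tv f * z = z * tv f)
    (hz4 : ∀ u (h : bf (JJ m F) f u = 0), bf (JJ m F) e u = 0 → sg f u h * z = z * sg f u h) :
    ∃ b c : F, ∀ w, mt m F z *ᵥ w = w + (b * bf (JJ m F) e w) • e +
      c • (bf (JJ m F) e w • f - bf (JJ m F) f w • e) := by
  obtain ⟨l, c, r, hll, her, hze, h3, h4⟩ := form hef.left_ne hz1 hz2
  have hl1 : l = 1 := by
    have : (l - 1) * (l - 1) = 0 := by linear_combination hll - (l - 1) * h2
    exact sub_eq_zero.1 (mul_self_eq_zero.1 this)
  have hneg : ∀ a : F, -a = a := fun a => by linear_combination (-a) * h2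
  rw [hl1] at h4
  obtain ⟨w1, hw1, hw1'⟩ := ld.exists_dual hef.symm
  -- `bf f r = 0`
  have hzf : mt m F z *ᵥ f = f + bf (JJ m F) f r • e := by
    rw [h4, hB, zero_smul, mul_zero, add_zero, add_zero, one_smul]
  have hfr : bf (JJ m F) f r = 0 := by
    have h5 := congrArg (fun a : symplecticGroup (Fin m) F => mt m F a *ᵥ w1) hz3
    simp only [mul_mulVec] at h5
    rw [tv_mulVec, tv_mulVec, mulVec_add, mulVec_smul, hw1, one_smul] at h5
    have h6 := add_left_cancel h5
    rw [hzf, h4, hw1', zero_smul, mul_zero, add_zero, add_zero, one_smul, add_right, smul_right, hw1,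
      bf_comm e f, hB, neg_zero, mul_zero, add_zero, one_smul] at h6
    have h7 : bf (JJ m F) f r • e = 0 := add_eq_left.1 h6.symm
    exact (smul_eq_zero.1 h7).resolve_right hef.left_ne
  rw [hfr, zero_smul, add_zero] at hzf
  -- `r ∈ ⟨e, f⟩`
  obtain ⟨a, b, hab⟩ := eq_comb_of_bf nd (e := e) (f := f) (r := r) (by
    intro u hue huf
    have hue' : bf (JJ m F) e u = 0 := by rw [bf_comm, hue, neg_zero]
    have huf' : bf (JJ m F) f u = 0 := by rw [bf_comm, huf, neg_zero]
    have h5 := congrArg (fun a : symplecticGroup (Fin m) F => mt m F a *ᵥ w1) (hz4 u huf' hue')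
    simp only [mul_mulVec] at h5
    rw [sg_mulVec, sg_mulVec, mulVec_add, mulVec_add, mulVec_smul, mulVec_smul, hw1, one_smul, hzf] at h5
    have e1 : bf (JJ m F) f (mt m F z *ᵥ w1) = 1 := by
      have := iso z f w1
      rwa [hzf, hw1] at this
    have e2 : mt m F z *ᵥ u = u + bf (JJ m F) u r • e := by
      rw [h4, hue', zero_smul, mul_zero, add_zero, add_zero, one_smul]
    have e3 : bf (JJ m F) u (mt m F z *ᵥ w1) = bf (JJ m F) u w1 := by
      rw [h4, hw1', zero_smul, mul_zero, add_zero, add_zero, one_smul, add_right, smul_right, hue, mul_zero,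
        add_zero]
    rw [e1, e2, e3, one_smul] at h5
    have h6 : bf (JJ m F) u r • e = 0 := by
      have h7 := sub_eq_zero.2 h5
      have h8 : mt m F z *ᵥ w1 + u + bf (JJ m F) u w1 • f - (mt m F z *ᵥ w1 + (u + bf (JJ m F) u r • e) +
          bf (JJ m F) u w1 • f) = -(bf (JJ m F) u r • e) := by abel
      rw [h8] at h7
      exact neg_eq_zero.1 h7
    exact (smul_eq_zero.1 h6).resolve_right hef.left_ne)
  refine ⟨c, b, fun w => ?_⟩
  rw [h4, hab, one_smul, add_right, smul_right, smul_right, bf_comm e w, bf_comm f w, smul_add, smul_sub]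
  simp only [smul_smul, add_smul, hneg]
  have e1 : (bf (JJ m F) e w * a) • e + (a * bf (JJ m F) e w) • e = 0 := by
    rw [← add_smul, show bf (JJ m F) e w * a + a * bf (JJ m F) e w = 2 * (a * bf (JJ m F) e w) by ring, h2,
      zero_mul, zero_smul]
  have e2 : (b * bf (JJ m F) f w) • e = -((b * bf (JJ m F) f w) • e) := by
    rw [← neg_smul, hneg]
  rw [mul_comm (bf (JJ m F) e w) b]
  calc w + ((bf (JJ m F) e w * a) • e + (b * bf (JJ m F) e w) • f) +
      ((a * bf (JJ m F) e w) • e + (b * bf (JJ m F) f w) • e + (c * bf (JJ m F) e w) • e)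
      = w + (c * bf (JJ m F) e w) • e + ((b * bf (JJ m F) e w) • f + (b * bf (JJ m F) f w) • e) +
        ((bf (JJ m F) e w * a) • e + (a * bf (JJ m F) e w) • e) := by abel
    _ = _ := by
      rw [e1, add_zero]
      conv_lhs => rw [e2]
      abel

theorem center_scalar {z : symplecticGroup (Fin m) F} (hz : z ∈ center (symplecticGroup (Fin m) F)) :
    ∃ c : F, mt m F z = scalar _ c := by
  refine exists_scalar fun e => ?_
  by_cases he : e = 0
  · exact ⟨0, by rw [he, mulVec_zero, smul_zero]⟩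
  obtain ⟨w, hw⟩ := exists_eq_one (nd (F := F) (m := m)) he
  have h1 := congrArg (fun a : symplecticGroup (Fin m) F => mt m F a *ᵥ w) (mem_center_iff.1 hz (tv e))
  simp only [mul_mulVec] at h1
  rw [tv_mulVec, tv_mulVec, mulVec_add, mulVec_smul] at h1
  have h2 := add_left_cancel h1
  rw [bf_comm w e, hw, neg_one_smul] at h2
  exact ⟨-bf (JJ m F) e (mt m F z *ᵥ w), by rw [neg_smul, h2, neg_neg]⟩

/-- the radical of the stabilizer of a point -/
theorem tv_mem (e : Fin m ⊕ Fin m → F) : tv e ∈ Flag.U (mt m F) e (e ᵥ* JJ m F) := by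
  refine ⟨fun w => ?_, fun w _ => ⟨bf (JJ m F) e w, ?_⟩, ?_⟩
  · rw [tv_mulVec, add_sub_cancel_left, vecMul_eq, smul_right, bf_self, mul_zero]
  · rw [tv_mulVec, add_sub_cancel_left]
  · rw [tv_mulVec, bf_self, zero_smul, add_zero]

theorem sg_mem (e u : Fin m ⊕ Fin m → F) (h : bf (JJ m F) e u = 0) :
    sg e u h ∈ Flag.U (mt m F) e (e ᵥ* JJ m F) := by
  refine ⟨fun w => ?_, fun w hw => ⟨bf (JJ m F) u w, ?_⟩, ?_⟩
  · rw [sg_mulVec, add_assoc, add_sub_cancel_left, vecMul_eq, add_right, smul_right, smul_right, bf_self, h]; ring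
  · rw [vecMul_eq] at hw
    rw [sg_mulVec, hw, zero_smul, add_zero, add_sub_cancel_left]
  · rw [sg_mulVec, bf_self, bf_comm e u, h, neg_zero, zero_smul, zero_smul, add_zero, add_zero]

theorem smul_scalar_ne {z : symplecticGroup (Fin m) F} (hz : z ∉ center (symplecticGroup (Fin m) F)) {l : F}
    (h : ∀ w, mt m F z *ᵥ w = l • w) : False := by
  obtain ⟨c, hc⟩ := exists_scalar fun v => ⟨l, h v⟩
  have : Nonempty (Fin m ⊕ Fin m) ∨ IsEmpty (Fin m ⊕ Fin m) := (isEmpty_or_nonempty _).symm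
  rcases this with h1 | h1
  · exact hz (mem_center_of_scalar mt_injective hc)
  · apply hz
    rw [mem_center_iff]
    intro g
    exact mt_injective (Subsingleton.elim _ _)

/-- equal eigenvalues -/
theorem eq_of_two [Fintype F] (hm : 2 ≤ m) {l l' : F} {a b : Fin m ⊕ Fin m → F} {T : (Fin m ⊕ Fin m → F) → Fin m ⊕ Fin m → F}
    (hT : ∀ w, T w = 0 → w = 0) (h : ∀ w, bf (JJ m F) a w = 0 → bf (JJ m F) b w = 0 → l • T w = l' • T w) :
    l = l' := by
  obtain ⟨x, hx, hx'⟩ := exists_perp (JJ m F) ![a, b] (by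
    rw [Fintype.card_sum, Fintype.card_fin]; omega)
  have h1 := h x (hx' 0) (hx' 1)
  refine smul_left_cancel' (fun h0 => hx (hT x h0)) h1

/-- the Chevalley-Warning condition -/
theorem cw [Fintype F] (hm : 2 ≤ m) (Y : symplecticGroup (Fin m) F) :
    ∃ u, u ≠ 0 ∧ bf (JJ m F) u (mt m F Y *ᵥ u) = 0 := by
  obtain ⟨x, hx, h1, -⟩ := CW.exists_quad (K := F) (σ := Fin m ⊕ Fin m) (k := 1) (l := 0)
    (fun _ => JJ m F * mt m F Y) (fun i => i.elim0) (by rw [Fintype.card_sum, Fintype.card_fin]; omega)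
  refine ⟨x, hx, ?_⟩
  have := h1 0
  rw [← mulVec_mulVec] at this
  exact this

section Main

variable [Fintype F]

/-- from the shape to the point -/
theorem point_of_form (hm : 2 ≤ m) {C Z : symplecticGroup (Fin m) F} {e e' : Fin m ⊕ Fin m → F} (he' : e' ≠ 0)
    {l l' b b' : F} (hb' : b' ≠ 0) (h1 : ∀ w, mt m F Z *ᵥ w = l • w + (b * bf (JJ m F) e w) • e)
    (h2 : ∀ w, mt m F (C * Z * C⁻¹) *ᵥ w = l' • w + (b' * bf (JJ m F) e' w) • e') :
    ∃ s : F, e' = s • (mt m F C *ᵥ e) := by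
  have h3 : ∀ w, l • w + (b * bf (JJ m F) (mt m F C *ᵥ e) w) • (mt m F C *ᵥ e) =
      l' • w + (b' * bf (JJ m F) e' w) • e' := by
    intro w
    rw [← h2, mul_mulVec, mul_mulVec, h1, mulVec_add, mulVec_smul, mulVec_smul, mulVec_inv]
    have := iso C e (mt m F C⁻¹ *ᵥ w)
    rw [mulVec_inv] at this
    rw [this]
  have hll : l = l' := eq_of_two (T := id) hm (fun w h => h) (a := mt m F C *ᵥ e) (b := e') fun w ha hb => by
    have := h3 w
    rw [ha, hb, mul_zero, mul_zero, zero_smul, zero_smul, add_zero, add_zero] at this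
    exact this
  obtain ⟨w, hw⟩ := exists_ne_zero (nd (F := F) (m := m)) he'
  have h4 := h3 w
  rw [hll] at h4
  have h5 := add_left_cancel h4
  have h6 : b' * bf (JJ m F) e' w ≠ 0 := by
    refine mul_ne_zero hb' ?_
    rw [bf_comm, Ne, neg_eq_zero]
    exact hw
  refine ⟨(b' * bf (JJ m F) e' w)⁻¹ * (b * bf (JJ m F) (mt m F C *ᵥ e) w), ?_⟩
  rw [← smul_smul, h5, smul_smul, inv_mul_cancel₀ h6, one_smul]

theorem noCop_odd (p : ℕ) [Fact p.Prime] [CharP F p] (hm : 2 ≤ m) (h2 : (2 : F) ≠ 0) [IsSimpleGroup (Cfsg.PSp m F)]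
    (hna : ¬ IsMulCommutative (Cfsg.PSp m F)) : NoCop (Cfsg.PSp m F) := by
  have hfin : Finite (Cfsg.PSp m F) := Quotient.finite _
  have hne : Nonempty (Fin m ⊕ Fin m) := ⟨.inl ⟨0, by omega⟩⟩
  refine noCop_of_scalar (φ := mt m F) (Fact.out : p.Prime) mt_injective hna ?_
  intro X Y hc hpx hx1
  refine scalar_of_points ld Y ?_ (cw hm Y)
  intro e e' he he'
  obtain ⟨Z, C, ζ, hζ, hZ, hZ', hcz, hcz', hCY, -⟩ := exists_lift (φ := mt m F) (p := p) mt_injective
    (fun z hz => center_scalar hz) hc hpx hx1 (O := {e : Fin m ⊕ Fin m → F // e ≠ 0})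
    (fun o => Flag.U (mt m F) o.1 (o.1 ᵥ* JJ m F)) 2 (fun o u hu => Flag.pow_eq_one mt_injective hu) ⟨e, he⟩ ⟨e', he'⟩
  obtain ⟨l, b, hlb⟩ := form_odd h2 he (hcz _ (tv_mem e)) (fun u h => hcz _ (sg_mem e u h))
  obtain ⟨l', b', hlb'⟩ := form_odd h2 he' (hcz' _ (tv_mem e')) (fun u h => hcz' _ (sg_mem e' u h))
  have hb' : b' ≠ 0 := by
    rintro rfl
    exact smul_scalar_ne hZ' fun w => by rw [hlb', zero_mul, zero_smul, add_zero]
  exact ⟨C, ζ, hζ, hCY, point_of_form hm he' hb' hlb hlb'⟩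

/-- the chain of a totally isotropic flag -/
def ch {e f : Fin m ⊕ Fin m → F} (hB : bf (JJ m F) e f = 0) : Chain.Ch F (Fin m ⊕ Fin m) :=
  Chain.five (perp (JJ m F) e) (perp (JJ m F) e ⊓ perp (JJ m F) f) (Submodule.span F {e, f})
    (Submodule.span F {e}) inf_le_left
    (by
      rw [Submodule.span_le]
      rintro x (rfl | rfl)
      · exact ⟨bf_self _, by rw [SetLike.mem_coe, mem_perp, bf_comm, hB, neg_zero]⟩
      · exact ⟨hB, bf_self _⟩)
    (Submodule.span_mono (by simp))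

theorem mem_perp_of_span {e f w : Fin m ⊕ Fin m → F} (hB : bf (JJ m F) e f = 0)
    (hw : w ∈ Submodule.span F {e, f}) : bf (JJ m F) e w = 0 ∧ bf (JJ m F) f w = 0 := by
  obtain ⟨a, b, rfl⟩ := Submodule.mem_span_pair.1 hw
  constructor
  · rw [add_right, smul_right, smul_right, bf_self, hB]; ring
  · rw [add_right, smul_right, smul_right, bf_self, bf_comm e f, hB]; ring

theorem ch_tv_left {e f : Fin m ⊕ Fin m → F} (hB : bf (JJ m F) e f = 0) :
    tv e ∈ Chain.UC (mt m F) (ch hB) := by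
  refine Chain.mem_five (fun w => ?_) (fun w hw => ?_) (fun w hw => ?_) (fun w hw => ?_) (fun w hw => ?_)
  · rw [tv_mulVec, add_sub_cancel_left]
    exact Submodule.smul_mem _ _ (bf_self e)
  · rw [tv_mulVec, add_sub_cancel_left, mem_perp.1 hw, zero_smul]
    exact zero_mem _
  · rw [tv_mulVec, add_sub_cancel_left, mem_perp.1 hw.1, zero_smul]
    exact zero_mem _
  · rw [tv_mulVec, add_sub_cancel_left, (mem_perp_of_span hB hw).1, zero_smul]
    exact zero_mem _
  · obtain ⟨a, rfl⟩ := Submodule.mem_span_singleton.1 hw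
    rw [tv_mulVec, smul_right, bf_self, mul_zero, zero_smul, add_zero]

theorem ch_sg_left {e f : Fin m ⊕ Fin m → F} (hB : bf (JJ m F) e f = 0) (u : Fin m ⊕ Fin m → F)
    (hu : bf (JJ m F) e u = 0) : sg e u hu ∈ Chain.UC (mt m F) (ch hB) := by
  have hee : e ∈ perp (JJ m F) e ⊓ perp (JJ m F) f :=
    ⟨bf_self e, by rw [SetLike.mem_coe, mem_perp, bf_comm, hB, neg_zero]⟩
  refine Chain.mem_five (fun w => ?_) (fun w hw => ?_) (fun w hw => ?_) (fun w hw => ?_) (fun w hw => ?_)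
  · rw [sg_mulVec, add_assoc, add_sub_cancel_left]
    exact add_mem (Submodule.smul_mem _ _ hu) (Submodule.smul_mem _ _ (bf_self e))
  · rw [sg_mulVec, add_assoc, add_sub_cancel_left, mem_perp.1 hw, zero_smul, zero_add]
    exact Submodule.smul_mem _ _ hee
  · rw [sg_mulVec, add_assoc, add_sub_cancel_left, mem_perp.1 hw.1, zero_smul, zero_add]
    exact Submodule.smul_mem _ _ (Submodule.subset_span (by simp))
  · rw [sg_mulVec, add_assoc, add_sub_cancel_left, (mem_perp_of_span hB hw).1, zero_smul, zero_add]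
    exact Submodule.smul_mem _ _ (Submodule.mem_span_singleton_self e)
  · obtain ⟨a, rfl⟩ := Submodule.mem_span_singleton.1 hw
    rw [sg_mulVec, smul_right, smul_right, bf_self, bf_comm e u, hu, neg_zero, mul_zero, zero_smul, zero_smul, add_zero,
      add_zero]

theorem ch_tv_right {e f : Fin m ⊕ Fin m → F} (hB : bf (JJ m F) e f = 0) :
    tv f ∈ Chain.UC (mt m F) (ch hB) := by
  have hff : f ∈ perp (JJ m F) e ⊓ perp (JJ m F) f := ⟨hB, bf_self f⟩
  refine Chain.mem_five (fun w => ?_) (fun w hw => ?_) (fun w hw => ?_) (fun w hw => ?_) (fun w hw => ?_)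
  · rw [tv_mulVec, add_sub_cancel_left]
    exact Submodule.smul_mem _ _ hB
  · rw [tv_mulVec, add_sub_cancel_left]
    exact Submodule.smul_mem _ _ hff
  · rw [tv_mulVec, add_sub_cancel_left, mem_perp.1 hw.2, zero_smul]
    exact zero_mem _
  · rw [tv_mulVec, add_sub_cancel_left, (mem_perp_of_span hB hw).2, zero_smul]
    exact zero_mem _
  · obtain ⟨a, rfl⟩ := Submodule.mem_span_singleton.1 hw
    rw [tv_mulVec, smul_right, bf_comm e f, hB, neg_zero, mul_zero, zero_smul, add_zero]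

theorem ch_sg_right {e f : Fin m ⊕ Fin m → F} (hB : bf (JJ m F) e f = 0) (u : Fin m ⊕ Fin m → F)
    (hu : bf (JJ m F) f u = 0) (hu' : bf (JJ m F) e u = 0) : sg f u hu ∈ Chain.UC (mt m F) (ch hB) := by
  have hff : f ∈ perp (JJ m F) e ⊓ perp (JJ m F) f := ⟨hB, bf_self f⟩
  refine Chain.mem_five (fun w => ?_) (fun w hw => ?_) (fun w hw => ?_) (fun w hw => ?_) (fun w hw => ?_)
  · rw [sg_mulVec, add_assoc, add_sub_cancel_left]
    exact add_mem (Submodule.smul_mem _ _ hu') (Submodule.smul_mem _ _ hB)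
  · rw [sg_mulVec, add_assoc, add_sub_cancel_left]
    exact add_mem (Submodule.smul_mem _ _ ⟨hu', hu⟩) (Submodule.smul_mem _ _ hff)
  · rw [sg_mulVec, add_assoc, add_sub_cancel_left, mem_perp.1 hw.2, zero_smul, zero_add]
    exact Submodule.smul_mem _ _ (Submodule.subset_span (by simp))
  · rw [sg_mulVec, add_assoc, add_sub_cancel_left, (mem_perp_of_span hB hw).2, zero_smul, zero_add]
    obtain ⟨a, b, rfl⟩ := Submodule.mem_span_pair.1 hw
    rw [add_right, smul_right, smul_right, bf_comm e u, hu', bf_comm f u, hu]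
    simp
  · obtain ⟨a, rfl⟩ := Submodule.mem_span_singleton.1 hw
    rw [sg_mulVec, smul_right, smul_right, bf_comm e f, hB, bf_comm e u, hu', neg_zero, mul_zero, zero_smul, zero_smul,
      add_zero, add_zero]

theorem noCop_even (p : ℕ) [Fact p.Prime] [CharP F p] (hm : 2 ≤ m) (h2 : (2 : F) = 0) [IsSimpleGroup (Cfsg.PSp m F)]
    (hna : ¬ IsMulCommutative (Cfsg.PSp m F)) : NoCop (Cfsg.PSp m F) := by
  have hfin : Finite (Cfsg.PSp m F) := Quotient.finite _
  have hne : Nonempty (Fin m ⊕ Fin m) := ⟨.inl ⟨0, by omega⟩⟩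
  refine noCop_of_scalar (φ := mt m F) (Fact.out : p.Prime) mt_injective hna ?_
  intro X Y hc hpx hx1
  -- the transitivity
  have key : ∀ (e f e' f' : Fin m ⊕ Fin m → F), Ind e f → ∀ (hB : bf (JJ m F) e f = 0), Ind e' f' →
      ∀ (hB' : bf (JJ m F) e' f' = 0), ∃ (Z C : symplecticGroup (Fin m) F) (b c b' c' s : F)
        (G : symplecticGroup (Fin m) F),
        Z ∉ center (symplecticGroup (Fin m) F) ∧ C * Z * C⁻¹ ∉ center (symplecticGroup (Fin m) F) ∧
        (∀ w, mt m F C *ᵥ (mt m F Y *ᵥ w) = mt m F Y *ᵥ (mt m F C *ᵥ w)) ∧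
        (∀ w, mt m F Z *ᵥ w = w + (b * bf (JJ m F) e w) • e + c • (bf (JJ m F) e w • f - bf (JJ m F) f w • e)) ∧
        (∀ w, mt m F (C * Z * C⁻¹) *ᵥ w = w + (b' * bf (JJ m F) e' w) • e' +
          c' • (bf (JJ m F) e' w • f' - bf (JJ m F) f' w • e')) ∧ s ≠ 0 ∧
        ∀ w, mt m F Z *ᵥ w = s • (mt m F G *ᵥ (mt m F X *ᵥ (mt m F G⁻¹ *ᵥ w))) := by
    intro e f e' f' hi hB hi' hB'
    obtain ⟨Z, C, ζ, hζ, hZ, hZ', hcz, hcz', hCY, G, s, hs, hG⟩ := exists_lift (φ := mt m F) (p := p) mt_injective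
      (fun z hz => center_scalar hz) hc hpx hx1
      (O := {o : (Fin m ⊕ Fin m → F) × (Fin m ⊕ Fin m → F) // bf (JJ m F) o.1 o.2 = 0})
      (fun o => Chain.UC (mt m F) (ch o.2)) 5
      (fun o u hu => Chain.pow_eq_one (c := ch o.2) mt_injective hu) ⟨(e, f), hB⟩ ⟨(e', f'), hB'⟩
    obtain ⟨b, c, h3⟩ := form_even h2 hi hB (hcz _ (ch_tv_left hB)) (fun u h => hcz _ (ch_sg_left hB u h))
      (hcz _ (ch_tv_right hB)) (fun u h h' => hcz _ (ch_sg_right hB u h h'))
    obtain ⟨b', c', h4⟩ := form_even h2 hi' hB' (hcz' _ (ch_tv_left hB')) (fun u h => hcz' _ (ch_sg_left hB' u h))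
      (hcz' _ (ch_tv_right hB')) (fun u h h' => hcz' _ (ch_sg_right hB' u h h'))
    have hζ1 : ζ = 1 := by
      obtain ⟨w, hw⟩ := exists_eq_one (nd (F := F) (m := m)) hi.left_ne
      have h5 := iso C (mt m F Y *ᵥ w) (mt m F Y *ᵥ e)
      rw [hCY, hCY, smul_left, smul_right, iso Y, iso C, iso Y, hw] at h5
      have : (ζ - 1) * (ζ - 1) = 0 := by linear_combination h5 - (ζ - 1) * h2
      exact sub_eq_zero.1 (mul_self_eq_zero.1 this)
    refine ⟨Z, C, b, c, b', c', s, G, hZ, hZ', fun w => by rw [hCY, hζ1, one_smul], h3, h4, hs, hG⟩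
  -- the quadratic form of the elements
  have hquad : ∀ {Z : symplecticGroup (Fin m) F} {e f : Fin m ⊕ Fin m → F} {b c : F},
      (∀ w, mt m F Z *ᵥ w = w + (b * bf (JJ m F) e w) • e + c • (bf (JJ m F) e w • f - bf (JJ m F) f w • e)) →
      ∀ w, bf (JJ m F) w (mt m F Z *ᵥ w) = -(b * (bf (JJ m F) e w) ^ 2) := by
    intro Z e f b c h w
    rw [h, add_right, add_right, smul_right, smul_right, sub_right, smul_right, smul_right, bf_self, bf_comm e w,
      bf_comm f w]
    ring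
  have hone : ∀ e : Fin m ⊕ Fin m → F, e ≠ 0 → ∃ w, bf (JJ m F) e w = 1 := by
    intro e he
    obtain ⟨w, hw⟩ := exists_eq_one (nd (F := F) (m := m)) he
    exact ⟨-w, by rw [bf_comm, neg_left, hw, neg_neg]⟩
  have hcardι : Fintype.card (Fin m ⊕ Fin m) = 2 * m := by rw [Fintype.card_sum, Fintype.card_fin]; ring
  by_cases hX : ∀ w, bf (JJ m F) w (mt m F X *ᵥ w) = 0
  · -- lines
    have hT : ∀ e f e' f', Ind e f → bf (JJ m F) e f = 0 → Ind e' f' → bf (JJ m F) e' f' = 0 →
        ∃ C : symplecticGroup (Fin m) F, (∀ w, mt m F C *ᵥ (mt m F Y *ᵥ w) = mt m F Y *ᵥ (mt m F C *ᵥ w)) ∧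
        (∃ a b : F, e' = a • (mt m F C *ᵥ e) + b • (mt m F C *ᵥ f)) ∧
        ∃ a b : F, f' = a • (mt m F C *ᵥ e) + b • (mt m F C *ᵥ f) := by
      intro e f e' f' hi hB hi' hB'
      obtain ⟨Z, C, b, c, b', c', s, G, hZ, hZ', hCY, h3, h4, hs, hG⟩ := key e f e' f' hi hB hi' hB'
      have h5 : ∀ w, bf (JJ m F) w (mt m F Z *ᵥ w) = 0 := by
        intro w
        have h6 := iso G (mt m F G⁻¹ *ᵥ w) (mt m F X *ᵥ (mt m F G⁻¹ *ᵥ w))
        rw [mulVec_inv, hX] at h6
        rw [hG, smul_right, h6, mul_zero]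
      have hb : b = 0 := by
        obtain ⟨w, hw⟩ := hone e hi.left_ne
        have := hquad h3 w
        rw [h5, hw] at this
        linear_combination this
      have h5' : ∀ w, bf (JJ m F) w (mt m F (C * Z * C⁻¹) *ᵥ w) = 0 := by
        intro w
        have h6 := iso C (mt m F C⁻¹ *ᵥ w) (mt m F Z *ᵥ (mt m F C⁻¹ *ᵥ w))
        rw [mulVec_inv, h5] at h6
        rw [mul_mulVec, mul_mulVec, h6]
      have hb' : b' = 0 := by
        obtain ⟨w, hw⟩ := hone e' hi'.left_ne
        have := hquad h4 w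
        rw [h5', hw] at this
        linear_combination this
      subst hb hb'
      have hc' : c' ≠ 0 := by
        rintro rfl
        exact smul_scalar_ne (l := 1) hZ' fun w => by
          rw [h4, zero_mul, zero_smul, zero_smul, add_zero, add_zero, one_smul]
      refine ⟨C, hCY, ld.line_of_form (C := C) (e := e) (f := f) (l := 1) (l' := 1) (c := c) (c' := c') hi' hc'
        one_ne_zero (fun w => ?_) rfl⟩
      have h6 := h4 (mt m F C *ᵥ w)
      rw [mul_mulVec, mul_mulVec, inv_mulVec, h3, zero_mul, zero_smul, add_zero, zero_mul, zero_smul, add_zero,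
        mulVec_add, mulVec_smul, mulVec_sub, mulVec_smul, mulVec_smul] at h6
      rw [one_smul, one_mul, one_mul, h6]
    rcases Nat.lt_or_ge 2 m with hm3 | hm3
    · refine ld.scalar_of_trans Y ?_ ?_ ?_
      · intro e f e' f' hi _ _ hB hi' _ _ hB'
        obtain ⟨C, hC, h3⟩ := hT e f e' f' hi hB hi' hB'
        exact ⟨C, 1, one_ne_zero, fun w => by rw [hC, one_smul], h3⟩
      · obtain ⟨x, hx, h1, -⟩ := CW.exists_quad (K := F) (σ := Fin m ⊕ Fin m) (k := 2) (l := 0)
          ![JJ m F * mt m F Y, JJ m F * mt m F Y * mt m F Y] (fun i => i.elim0) (by rw [hcardι]; omega)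
        refine ⟨x, hx, rfl, ?_, ?_⟩
        · have := h1 0
          simp only [cons_val_zero] at this
          rw [← mulVec_mulVec] at this
          exact this
        · have := h1 1
          change x ⬝ᵥ ((JJ m F * mt m F Y * mt m F Y) *ᵥ x) = 0 at this
          rw [← mulVec_mulVec, ← mulVec_mulVec] at this
          exact this
      · intro u g
        obtain ⟨x, hx, h1, h3⟩ := CW.exists_quad (K := F) (σ := Fin m ⊕ Fin m) (k := 1) (l := 2)
          (fun _ => JJ m F * mt m F Y) ![u ᵥ* JJ m F, g] (by rw [hcardι]; omega)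
        refine ⟨x, hx, rfl, ?_, ?_, h3 1⟩
        · have := h1 0
          rw [← mulVec_mulVec] at this
          exact this
        · have := h3 0
          simp only [cons_val_zero] at this
          rwa [vecMul_eq] at this
    · exact scalar_of_lines_four ld (by rw [hcardι]; omega) Y hT (cw hm Y)
  · -- points
    refine scalar_of_points ld Y ?_ (cw hm Y)
    intro e e' he he'
    have hex : ∀ e : Fin m ⊕ Fin m → F, e ≠ 0 → ∃ f, Ind e f ∧ bf (JJ m F) e f = 0 := by
      intro v hv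
      obtain ⟨w, hw⟩ := exists_ne_zero (nd (F := F) (m := m)) hv
      obtain ⟨x, hx, hx'⟩ := exists_perp (JJ m F) ![v, w] (by rw [hcardι]; omega)
      have h1 := hx' 0
      have h2 := hx' 1
      simp only [cons_val_zero, cons_val_one] at h1 h2
      refine ⟨x, ind_of hv fun c hc => ?_, h1⟩
      rw [hc, smul_right] at h2
      rcases mul_eq_zero.1 h2 with h3 | h3
      · exact hx (by rw [hc, h3, zero_smul])
      · exact hw h3
    obtain ⟨f, hi, hB⟩ := hex e he
    obtain ⟨f', hi', hB'⟩ := hex e' he'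
    obtain ⟨Z, C, b, c, b', c', s, G, hZ, hZ', hCY, h3, h4, hs, hG⟩ := key e f e' f' hi hB hi' hB'
    refine ⟨C, 1, one_ne_zero, fun w => by rw [hCY, one_smul], ?_⟩
    have hb : b ≠ 0 := by
      rintro rfl
      apply hX
      intro w
      have h5 := hquad h3 (mt m F G *ᵥ w)
      rw [hG, smul_right, iso, inv_mulVec, zero_mul, neg_zero] at h5
      exact (mul_eq_zero.1 h5).resolve_left hs
    refine (ld.eq_smul (v := mt m F C *ᵥ e) (r := e') fun w hw => ?_)
    have h5 := hquad h4 w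
    have h6 := iso C (mt m F C⁻¹ *ᵥ w) (mt m F Z *ᵥ (mt m F C⁻¹ *ᵥ w))
    have h7 := iso C e (mt m F C⁻¹ *ᵥ w)
    rw [mulVec_inv, hw] at h7
    rw [mulVec_inv, hquad h3, ← h7] at h6
    rw [mul_mulVec, mul_mulVec, h6] at h5
    have h8 : b' * bf (JJ m F) e' w ^ 2 = 0 := by linear_combination h5
    have hb' : b' ≠ 0 := by
      rintro rfl
      apply hb
      obtain ⟨w, hw⟩ := hone e he
      have h9 := hquad h4 (mt m F C *ᵥ w)
      rw [mul_mulVec, mul_mulVec, inv_mulVec, iso, hquad h3, hw] at h9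
      linear_combination -h9
    rw [bf_comm, neg_eq_zero]
    exact pow_eq_zero_iff two_ne_zero |>.1 ((mul_eq_zero.1 h8).resolve_left hb')

end Main

/-- **No coprime class sizes in the symplectic groups.** -/
theorem noCop [Fintype F] (hm : 2 ≤ m) [IsSimpleGroup (Cfsg.PSp m F)] (hna : ¬ IsMulCommutative (Cfsg.PSp m F)) :
    NoCop (Cfsg.PSp m F) := by
  obtain ⟨p, hp⟩ := CharP.exists F
  have hpp : Fact p.Prime := ⟨CharP.char_is_prime F p⟩
  by_cases h2 : (2 : F) = 0
  · exact noCop_even (p := p) hm h2 hna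
  · exact noCop_odd (p := p) hm h2 hna

end Cfsg.Agent.H530.Sp
end

-- part: H530/Om
section
/-!
# No coprime class sizes in `PΩ(Q)`, dimension at least 7 (helper530, for S4158)

`OD Q A` : `Q v = v ⬝ᵥ A v`, `bf (A + Aᵀ)` non-degenerate. Siegel elements `sie e u` lie in `Ω(Q)`.
-/

set_option autoImplicit false
set_option linter.unusedSectionVars false

namespace Cfsg.Agent.H530.Om

open Matrix Subgroup Cfsg.Agent.H530.Cop Cfsg.Agent.H530.LinTools Cfsg.Agent.H530.Flag Cfsg.Agent.H530.Form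
  Cfsg.Agent.H530.Line Cfsg.Agent.H530.Setup Cfsg.Agent.H530.Chain

open scoped commutatorElement

variable {F : Type*} [Field F] {ι : Type} [Fintype ι] [DecidableEq ι]

/-- quadratic forms -/
structure OD (Q : (ι → F) → F) (A : Matrix ι ι F) : Prop where
  eq : ∀ v, Q v = v ⬝ᵥ (A *ᵥ v)
  nd : ND (A + Aᵀ)

variable {Q : (ι → F) → F} {A : Matrix ι ι F}

/-- the matrices -/
def mt (Q : (ι → F) → F) : Cfsg.Omega F Q →* Matrix ι ι F :=
  (Units.coeHom (Matrix ι ι F)).comp ((Cfsg.isometryGroup F Q).subtype.comp (Cfsg.Omega F Q).subtype)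

theorem mt_injective : Function.Injective (mt Q) := fun _ _ h =>
  Subtype.ext (Subtype.ext (Units.ext h))

/-- the matrices of the isometries -/
def it (Q : (ι → F) → F) : Cfsg.isometryGroup F Q →* Matrix ι ι F :=
  (Units.coeHom (Matrix ι ι F)).comp (Cfsg.isometryGroup F Q).subtype

theorem it_injective : Function.Injective (it Q) := fun _ _ h => Subtype.ext (Units.ext h)

theorem Q_it (g : Cfsg.isometryGroup F Q) (v : ι → F) : Q (it Q g *ᵥ v) = Q v := g.2 v v

theorem Q_mt (g : Cfsg.Omega F Q) (v : ι → F) : Q (mt Q g *ᵥ v) = Q v := Q_it g.1 v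

namespace OD

variable (h : OD Q A)

include h

theorem comm (u v : ι → F) : bf (A + Aᵀ) u v = bf (A + Aᵀ) v u := by
  unfold bf
  rw [dotProduct_mulVec, ← mulVec_transpose, transpose_add, transpose_transpose, add_comm Aᵀ A, dotProduct_comm]

theorem Qadd (u v : ι → F) : Q (u + v) = Q u + Q v + bf (A + Aᵀ) u v := by
  rw [h.eq, h.eq, h.eq]
  unfold bf
  rw [mulVec_add, add_mulVec, add_dotProduct, dotProduct_add, dotProduct_add, dotProduct_add,
    show u ⬝ᵥ (Aᵀ *ᵥ v) = v ⬝ᵥ (A *ᵥ u) by rw [dotProduct_mulVec, vecMul_transpose, dotProduct_comm]]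
  ring

theorem Qsmul (c : F) (v : ι → F) : Q (c • v) = c ^ 2 * Q v := by
  rw [h.eq, h.eq, mulVec_smul, smul_dotProduct, dotProduct_smul, smul_eq_mul, smul_eq_mul]
  ring

theorem Qneg (v : ι → F) : Q (-v) = Q v := by
  rw [← neg_one_smul F v, h.Qsmul]; ring

theorem self (v : ι → F) : bf (A + Aᵀ) v v = 2 * Q v := by
  have h1 := h.Qadd v v
  rw [← two_smul F v, h.Qsmul] at h1
  linear_combination -h1

theorem bf_it (g : Cfsg.isometryGroup F Q) (u v : ι → F) :
    bf (A + Aᵀ) (it Q g *ᵥ u) (it Q g *ᵥ v) = bf (A + Aᵀ) u v := by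
  have h1 := h.Qadd u v
  have h2 := h.Qadd (it Q g *ᵥ u) (it Q g *ᵥ v)
  rw [← mulVec_add, Q_it g, Q_it g, Q_it g] at h2
  linear_combination h1 - h2

theorem ld : LD (mt Q) (A + Aᵀ) Q 1 where
  iso := fun g u v => h.bf_it g.1 u v
  nd := h.nd
  refl := fun u v h0 => by rw [h.comm, h0]
  self := fun v hv => by rw [h.self, hv, mul_zero]
  Qadd := fun u v => by rw [h.Qadd, one_mul]
  Qsmul := h.Qsmul
  Qiso := fun g v => Q_mt g v
  hκ := Or.inl one_ne_zero

/-- isometries are invertible -/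
theorem isUnit_of {M : Matrix ι ι F} (hM : ∀ v, Q (M *ᵥ v) = Q v) : IsUnit M := by
  rw [← mulVec_injective_iff_isUnit]
  intro u v huv
  have h1 : M *ᵥ (u - v) = 0 := by
    have : M *ᵥ u = M *ᵥ v := huv
    rw [mulVec_sub, this, sub_self]
  refine sub_eq_zero.1 (h.nd _ fun w => ?_)
  have h2 := h.Qadd w (u - v)
  have h3 := h.Qadd (M *ᵥ w) (M *ᵥ (u - v))
  rw [← mulVec_add, hM, hM, hM] at h3
  rw [h1, zero_right, add_zero] at h3
  linear_combination h3 - h2

/-- the isometry of a matrix -/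
noncomputable def el (M : Matrix ι ι F) (hM : ∀ v, Q (M *ᵥ v) = Q v) : Cfsg.isometryGroup F Q :=
  ⟨(h.isUnit_of hM).unit, fun u _ => by
    change Q (((h.isUnit_of hM).unit : Matrix ι ι F) *ᵥ u) = Q u
    rw [IsUnit.unit_spec, hM]⟩

theorem it_el (M : Matrix ι ι F) (hM : ∀ v, Q (M *ᵥ v) = Q v) : it Q (h.el M hM) = M :=
  IsUnit.unit_spec (h.isUnit_of hM)

/-- the Siegel element -/
noncomputable def si (e u : ι → F) (he : Q e = 0) (hu : bf (A + Aᵀ) e u = 0) : Cfsg.isometryGroup F Q :=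
  h.el (two (u - Q u • e) (e ᵥ* (A + Aᵀ)) (-e) (u ᵥ* (A + Aᵀ))) (by
    intro w
    rw [two_mulVec, vecMul_eq, vecMul_eq, add_assoc, h.Qadd, h.Qadd, h.Qsmul, h.Qsmul, h.Qneg, he,
      sub_eq_add_neg, h.Qadd, h.Qneg, h.Qsmul, he]
    simp only [add_left, add_right, smul_left, smul_right, neg_left, neg_right, h.comm u e, hu, h.self, he,
      h.comm w e, h.comm w u]
    ring)

theorem si_mulVec (e u : ι → F) (he : Q e = 0) (hu : bf (A + Aᵀ) e u = 0) (w : ι → F) :
    it Q (h.si e u he hu) *ᵥ w = w + bf (A + Aᵀ) e w • (u - Q u • e) + bf (A + Aᵀ) u w • (-e) := by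
  unfold si
  rw [it_el, two_mulVec, vecMul_eq, vecMul_eq]

/-- the reflection -/
noncomputable def re (a : ι → F) (ha : Q a ≠ 0) : Cfsg.isometryGroup F Q :=
  h.el (two ((-(Q a)⁻¹) • a) (a ᵥ* (A + Aᵀ)) 0 0) (by
    intro w
    rw [two_mulVec, vecMul_eq, smul_zero, add_zero, smul_smul, h.Qadd, h.Qsmul, smul_right, h.comm w a]
    field_simp
    ring)

theorem re_mulVec (a : ι → F) (ha : Q a ≠ 0) (w : ι → F) :
    it Q (h.re a ha) *ᵥ w = w + (-(bf (A + Aᵀ) a w * (Q a)⁻¹)) • a := by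
  unfold re
  rw [it_el, two_mulVec, vecMul_eq, smul_zero, add_zero, smul_smul, mul_neg]

theorem ext_it {g g' : Cfsg.isometryGroup F Q} (h1 : ∀ w, it Q g *ᵥ w = it Q g' *ᵥ w) : g = g' :=
  it_injective (ext_mulVec h1)

theorem si_conj (g : Cfsg.isometryGroup F Q) (e u : ι → F) (he : Q e = 0) (hu : bf (A + Aᵀ) e u = 0) :
    g * h.si e u he hu = h.si (it Q g *ᵥ e) (it Q g *ᵥ u) (by rw [Q_it g, he]) (by rw [h.bf_it, hu]) * g := by
  refine h.ext_it fun w => ?_
  rw [mul_mulVec, mul_mulVec, si_mulVec, si_mulVec, h.bf_it, h.bf_it, Q_it g, mulVec_add, mulVec_add, mulVec_smul,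
    mulVec_smul, mulVec_sub, mulVec_smul, mulVec_neg]

theorem si_add (e u v : ι → F) (he : Q e = 0) (hu : bf (A + Aᵀ) e u = 0) (hv : bf (A + Aᵀ) e v = 0) :
    h.si e u he hu * h.si e v he hv = h.si e (u + v) he (by rw [add_right, hu, hv, add_zero]) := by
  refine h.ext_it fun w => ?_
  have hee : bf (A + Aᵀ) e e = 0 := by rw [h.self, he, mul_zero]
  rw [mul_mulVec, si_mulVec, si_mulVec, si_mulVec]
  simp only [add_left, add_right, sub_right, smul_right, neg_right, hv, hee, h.comm u e, hu, h.Qadd, smul_sub,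
    smul_add, smul_smul, add_smul, smul_neg, mul_zero, sub_zero, neg_zero, add_zero]
  abel

theorem si_congr {e e' u u' : ι → F} (he : Q e = 0) (hu : bf (A + Aᵀ) e u = 0) (h1 : e' = e) (h2 : u' = u) :
    h.si e u he hu = h.si e' u' (by rw [h1, he]) (by rw [h1, h2, hu]) := by subst h1 h2; rfl

omit h in
/-- a vector orthogonal to `e`, `u`, not in their span -/
theorem exists_out (J : Matrix ι ι F) (hn : 4 < Fintype.card ι) (e u : ι → F) :
    ∃ w, bf J e w = 0 ∧ bf J u w = 0 ∧ w ∉ Submodule.span F {e, u} := by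
  by_contra hno
  push Not at hno
  let T : (ι → F) →ₗ[F] (F × F) :=
    { toFun := fun x => (bf J e x, bf J u x)
      map_add' := fun x y => by rw [add_right, add_right]; rfl
      map_smul' := fun c x => by rw [smul_right, smul_right]; rfl }
  have hle : LinearMap.ker T ≤ Submodule.span F {e, u} := by
    intro w hw
    have h1 : (bf J e w, bf J u w) = (0, 0) := hw
    rw [Prod.mk.injEq] at h1
    exact hno w h1.1 h1.2
  have h1 := LinearMap.finrank_range_add_finrank_ker T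
  have h2 := Submodule.finrank_le (LinearMap.range T)
  have h3 := Submodule.finrank_mono hle
  have h4 : Module.finrank F (Submodule.span F ({e, u} : Set (ι → F))) ≤ 2 := by
    classical
    have h5 := finrank_span_finset_le_card (R := F) ({e, u} : Finset (ι → F))
    rw [Finset.coe_pair] at h5
    exact h5.trans Finset.card_le_two
  rw [Module.finrank_fintype_fun_eq_card] at h1
  rw [Module.finrank_prod, Module.finrank_self] at h2
  omega

/-- a non-singular vector orthogonal to `e`, `u` -/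
theorem exists_ns (hn : 4 < Fintype.card ι) (e u : ι → F) :
    ∃ a, Q a ≠ 0 ∧ bf (A + Aᵀ) e a = 0 ∧ bf (A + Aᵀ) u a = 0 := by
  by_contra hno
  push Not at hno
  obtain ⟨w, hw1, hw2, hw3⟩ := exists_out (A + Aᵀ) hn e u
  have hQ : ∀ a, bf (A + Aᵀ) e a = 0 → bf (A + Aᵀ) u a = 0 → Q a = 0 := by
    intro a ha hb
    by_contra h0
    exact hno a h0 ha hb
  obtain ⟨a, b, hab⟩ := eq_comb_of_bf h.nd (e := e) (f := u) (r := w) fun v hv1 hv2 => by
    rw [h.comm] at hv1 hv2
    have h1 := h.Qadd v w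
    rw [hQ v hv1 hv2, hQ w hw1 hw2, hQ (v + w) (by rw [add_right, hv1, hw1, add_zero])
      (by rw [add_right, hv2, hw2, add_zero])] at h1
    linear_combination -h1
  exact hw3 (Submodule.mem_span_pair.2 ⟨a, b, hab.symm⟩)

theorem si_mem_one {e a : ι → F} (he : Q e = 0) (ha : Q a ≠ 0) (hea : bf (A + Aᵀ) e a = 0) :
    h.si e a he hea ∈ Cfsg.Omega F Q := by
  obtain ⟨v0, hv1, hv2⟩ : ∃ v, bf (A + Aᵀ) e v = 0 ∧ bf (A + Aᵀ) a v ≠ 0 := by
    by_contra hno
    push Not at hno
    obtain ⟨c, hc⟩ := eq_smul_of_bf h.nd (v := e) (r := a) fun w hw => by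
      rw [h.comm, hno w (by rw [h.comm, hw])]
    apply ha
    rw [hc, h.Qsmul, he, mul_zero]
  obtain ⟨v, hv, hav⟩ : ∃ v, bf (A + Aᵀ) e v = 0 ∧ bf (A + Aᵀ) a v = -Q a := by
    refine ⟨(-Q a * (bf (A + Aᵀ) a v0)⁻¹) • v0, by rw [smul_right, hv1, mul_zero], ?_⟩
    rw [smul_right, mul_assoc, inv_mul_cancel₀ hv2, mul_one]
  have h1 : it Q (h.re a ha) *ᵥ e = e := by
    rw [h.re_mulVec, h.comm a e, hea, zero_mul, neg_zero, zero_smul, add_zero]
  have h2 : it Q (h.re a ha) *ᵥ v = a + v := by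
    rw [h.re_mulVec, hav, neg_mul, neg_neg, mul_inv_cancel₀ ha, one_smul, add_comm]
  have h3 := h.si_conj (h.re a ha) e v he hv
  have h4 : h.si (it Q (h.re a ha) *ᵥ e) (it Q (h.re a ha) *ᵥ v) (by rw [Q_it (h.re a ha), he])
      (by rw [h.bf_it, hv]) = h.si e (a + v) he (by rw [add_right, hea, hv, add_zero]) := by
    refine h.si_congr _ _ h1.symm h2.symm
  rw [h4, ← h.si_add e a v he hea hv] at h3
  have h5 : h.si e a he hea = ⁅h.re a ha, h.si e v he hv⁆ := by
    rw [commutatorElement_def, h3]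
    group
  rw [h5]
  exact Subgroup.commutator_mem_commutator (mem_top _) (mem_top _)

theorem si_mem (hn : 4 < Fintype.card ι) {e u : ι → F} (he : Q e = 0)
    (hu : bf (A + Aᵀ) e u = 0) : h.si e u he hu ∈ Cfsg.Omega F Q := by
  by_cases hQ : Q u = 0
  · obtain ⟨a, ha, hea, hua⟩ := h.exists_ns hn e u
    have h1 : bf (A + Aᵀ) e (u + a) = 0 := by rw [add_right, hu, hea, add_zero]
    have h2 : bf (A + Aᵀ) e (-a) = 0 := by rw [neg_right, hea, neg_zero]
    have h3 := h.si_add e (u + a) (-a) he h1 h2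
    have h4 : h.si e (u + a + -a) he (by rw [add_right, h1, h2, add_zero]) = h.si e u he hu :=
      (h.si_congr he hu rfl (by abel)).symm
    rw [← h4, ← h3]
    refine mul_mem (h.si_mem_one he ?_ h1) (h.si_mem_one he ?_ h2)
    · rw [h.Qadd, hQ, hua, zero_add, add_zero]; exact ha
    · rw [h.Qneg]; exact ha
  · exact h.si_mem_one he hQ hu

/-- the Siegel elements of `Ω` -/
noncomputable def sie (hn : 4 < Fintype.card ι) (e u : ι → F) (he : Q e = 0) (_ : e ≠ 0)
    (hu : bf (A + Aᵀ) e u = 0) : Cfsg.Omega F Q := ⟨h.si e u he hu, h.si_mem hn he hu⟩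

theorem sie_mulVec (hn : 4 < Fintype.card ι) (e u : ι → F) (he : Q e = 0) (he0 : e ≠ 0)
    (hu : bf (A + Aᵀ) e u = 0) (w : ι → F) :
    mt Q (h.sie hn e u he he0 hu) *ᵥ w = w + bf (A + Aᵀ) e w • (u - Q u • e) + bf (A + Aᵀ) u w • (-e) :=
  h.si_mulVec e u he hu w

omit h in
theorem smul_left_cancel' {e : ι → F} (he : e ≠ 0) {a b : F} (h : a • e = b • e) : a = b := by
  have h1 : (a - b) • e = 0 := by rw [sub_smul, h, sub_self]
  exact sub_eq_zero.1 ((smul_eq_zero.1 h1).resolve_right he)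

omit h in
/-- coefficients outside a span -/
theorem coeff_of_not_mem {e f u : ι → F} (hu : u ∉ Submodule.span F {e, f}) {a b c : F}
    (h : c • u = a • e + b • f) : c = 0 := by
  by_contra hc
  apply hu
  rw [Submodule.mem_span_pair]
  refine ⟨c⁻¹ * a, c⁻¹ * b, ?_⟩
  rw [← smul_smul, ← smul_smul, ← smul_add, ← h, smul_smul, inv_mul_cancel₀ hc, one_smul]

/-- **The elements commuting with the radical of a point stabilizer.** -/
theorem form_point (hn : 4 < Fintype.card ι) {e : ι → F} (he : Q e = 0) (he0 : e ≠ 0) {z : Cfsg.Omega F Q}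
    (hz : ∀ u (hu : bf (A + Aᵀ) e u = 0), h.sie hn e u he he0 hu * z = z * h.sie hn e u he he0 hu) :
    ∃ (l c : F) (r : ι → F), l * l = 1 ∧ bf (A + Aᵀ) e r = 0 ∧ mt Q z *ᵥ e = l • e ∧
      ∀ w, mt Q z *ᵥ w = l • w - bf (A + Aᵀ) e w • r + (bf (A + Aᵀ) w r + c * bf (A + Aᵀ) e w) • e := by
  have hee : bf (A + Aᵀ) e e = 0 := by rw [h.self, he, mul_zero]
  have hiso := h.ld.iso
  -- the commutation
  have hcomm : ∀ u, bf (A + Aᵀ) e u = 0 → ∀ w,
      bf (A + Aᵀ) e (mt Q z *ᵥ w) • (u - Q u • e) + bf (A + Aᵀ) u (mt Q z *ᵥ w) • (-e) =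
      bf (A + Aᵀ) e w • (mt Q z *ᵥ u - Q u • (mt Q z *ᵥ e)) + bf (A + Aᵀ) u w • (-(mt Q z *ᵥ e)) := by
    intro u hu w
    have h2 := congrArg (fun a : Cfsg.Omega F Q => mt Q a *ᵥ w) (hz u hu)
    simp only [mul_mulVec] at h2
    rw [sie_mulVec, sie_mulVec, mulVec_add, mulVec_add, mulVec_smul, mulVec_smul, mulVec_sub, mulVec_smul, mulVec_neg,
      add_assoc, add_assoc] at h2
    exact add_left_cancel h2
  obtain ⟨x, hx1, -, hx3⟩ := exists_out (A + Aᵀ) hn e e
  -- `z e = l e`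
  have hBe : bf (A + Aᵀ) e (mt Q z *ᵥ e) = 0 := by
    have h3 := hcomm x hx1 e
    rw [hee, h.comm x e, hx1, zero_smul, zero_smul, zero_add] at h3
    refine coeff_of_not_mem hx3 (a := bf (A + Aᵀ) e (mt Q z *ᵥ e) * Q x) (b := bf (A + Aᵀ) x (mt Q z *ᵥ e)) ?_
    have h4 : bf (A + Aᵀ) e (mt Q z *ᵥ e) • x - ((bf (A + Aᵀ) e (mt Q z *ᵥ e) * Q x) • e +
        bf (A + Aᵀ) x (mt Q z *ᵥ e) • e) = 0 := by
      rw [← h3, smul_sub, smul_smul, smul_neg]; abel
    exact sub_eq_zero.1 h4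
  obtain ⟨l, hl⟩ : ∃ l : F, mt Q z *ᵥ e = l • e := by
    refine eq_smul_of_bf h.nd fun w hw => ?_
    rw [h.comm] at hw
    have h3 := hcomm w hw e
    rw [hBe, hee, h.comm w e, hw, zero_smul, zero_smul, zero_smul, zero_add, zero_add, smul_neg, neg_eq_zero,
      smul_eq_zero] at h3
    exact h3.resolve_right he0
  have hl0 : l ≠ 0 := by
    rintro rfl
    rw [zero_smul] at hl
    apply he0
    rw [← inv_mulVec (mt Q) z e, hl, mulVec_zero]
  have hB1 : ∀ w, bf (A + Aᵀ) e (mt Q z *ᵥ w) = l⁻¹ * bf (A + Aᵀ) e w := by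
    intro w
    have h3 := hiso z e w
    rw [hl, smul_left] at h3
    rw [← h3, ← mul_assoc, inv_mul_cancel₀ hl0, one_mul]
  have hB2 : ∀ u, bf (A + Aᵀ) e u = 0 → ∀ w, bf (A + Aᵀ) e w = 0 →
      bf (A + Aᵀ) u (mt Q z *ᵥ w) = l * bf (A + Aᵀ) u w := by
    intro u hu w hw
    have h3 := hcomm u hu w
    rw [hB1, hw, mul_zero, zero_smul, zero_smul, zero_add, zero_add, hl, smul_neg, smul_neg, neg_inj, smul_smul] at h3
    rw [smul_left_cancel' he0 h3, mul_comm]
  obtain ⟨w0, hw0⟩ : ∃ w, bf (A + Aᵀ) e w = 1 := by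
    obtain ⟨w, hw⟩ := exists_eq_one h.nd he0
    exact ⟨w, by rw [h.comm, hw]⟩
  have hzu : ∀ u, bf (A + Aᵀ) e u = 0 → mt Q z *ᵥ u = l⁻¹ • u +
      (bf (A + Aᵀ) u w0 * l + Q u * l - bf (A + Aᵀ) u (mt Q z *ᵥ w0) - Q u * l⁻¹) • e := by
    intro u hu
    have h3 := hcomm u hu w0
    rw [hB1, hw0, mul_one, one_smul, hl] at h3
    have h4 : mt Q z *ᵥ u = (mt Q z *ᵥ u - Q u • l • e + bf (A + Aᵀ) u w0 • (-(l • e))) +
        (Q u • l • e + bf (A + Aᵀ) u w0 • (l • e)) := by rw [smul_neg]; abel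
    rw [h4, ← h3]
    simp only [smul_sub, smul_smul, smul_neg, sub_smul, add_smul, mul_comm l⁻¹ (Q u)]
    abel
  have hll : l * l = 1 := by
    -- two vectors in `e^⊥` which are not orthogonal
    obtain ⟨v, hv1, hv2⟩ : ∃ v, bf (A + Aᵀ) e v = 0 ∧ bf (A + Aᵀ) v x ≠ 0 := by
      by_contra hno
      push Not at hno
      obtain ⟨c, hc⟩ := eq_smul_of_bf h.nd (v := e) (r := x) fun w hw => hno w (by rw [h.comm, hw])
      exact hx3 (by rw [hc]; exact Submodule.smul_mem _ _ (Submodule.subset_span (by simp)))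
    have h3 := hB2 v hv1 x hx1
    rw [hzu x hx1, add_right, smul_right, smul_right, h.comm v e, hv1, mul_zero, add_zero] at h3
    have h4 := mul_right_cancel₀ hv2 h3
    rw [← h4, h4]
    nth_rewrite 1 [← h4]
    exact inv_mul_cancel₀ hl0
  have hinv : l⁻¹ = l := by
    rw [inv_eq_iff_eq_inv]
    exact eq_inv_of_mul_eq_one_left hll
  set r := l • w0 - mt Q z *ᵥ w0 with hr
  have her : bf (A + Aᵀ) e r = 0 := by
    rw [hr, sub_right, smul_right, hB1, hw0, hinv]; ring
  have hzu' : ∀ u, bf (A + Aᵀ) e u = 0 → mt Q z *ᵥ u = l • u + bf (A + Aᵀ) u r • e := by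
    intro u hu
    rw [hzu u hu, hinv, hr, sub_right, smul_right]
    congr 2
    ring
  refine ⟨l, -bf (A + Aᵀ) w0 r, r, hll, her, hl, fun w => ?_⟩
  have hzw0 : mt Q z *ᵥ w0 = l • w0 - r := by rw [hr]; abel
  have h4 := hzu' (w - bf (A + Aᵀ) e w • w0) (by rw [sub_right, smul_right, hw0]; ring)
  rw [mulVec_sub, mulVec_smul, hzw0, sub_left, smul_left] at h4
  have h5 : mt Q z *ᵥ w = (mt Q z *ᵥ w - bf (A + Aᵀ) e w • (l • w0 - r)) + bf (A + Aᵀ) e w • (l • w0 - r) := by
    abel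
  rw [h5, h4, smul_sub, smul_sub, smul_smul, smul_smul, mul_comm l (bf (A + Aᵀ) e w),
    show bf (A + Aᵀ) w r - bf (A + Aᵀ) e w * bf (A + Aᵀ) w0 r =
      bf (A + Aᵀ) w r + -bf (A + Aᵀ) w0 r * bf (A + Aᵀ) e w by ring]
  abel

/-- **The elements commuting with the radicals of a flag.** -/
theorem form_line (hn : 4 < Fintype.card ι) {e f : ι → F} (he : Q e = 0) (hf : Q f = 0)
    (hef : Ind e f) (hB : bf (A + Aᵀ) e f = 0) {z : Cfsg.Omega F Q}
    (hz : ∀ u (hu : bf (A + Aᵀ) e u = 0), h.sie hn e u he hef.left_ne hu * z = z * h.sie hn e u he hef.left_ne hu)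
    (hz' : ∀ u (hu : bf (A + Aᵀ) f u = 0), bf (A + Aᵀ) e u = 0 →
      h.sie hn f u hf hef.right_ne hu * z = z * h.sie hn f u hf hef.right_ne hu) :
    ∃ l c : F, l ≠ 0 ∧ ∀ w, mt Q z *ᵥ w = l • w + (l * c) • (bf (A + Aᵀ) e w • f - bf (A + Aᵀ) f w • e) := by
  obtain ⟨l, c0, r, hll, her, hze, hform⟩ := h.form_point hn he hef.left_ne hz
  have hl0 : l ≠ 0 := by rintro rfl; simp at hll
  have hee : bf (A + Aᵀ) e e = 0 := by rw [h.self, he, mul_zero]
  have hff : bf (A + Aᵀ) f f = 0 := by rw [h.self, hf, mul_zero]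
  have hfe : bf (A + Aᵀ) f e = 0 := by rw [h.comm, hB]
  obtain ⟨w1, hw1, hw1'⟩ := h.ld.exists_dual hef
  have hzf : mt Q z *ᵥ f = l • f + bf (A + Aᵀ) f r • e := by
    rw [hform, hB, zero_smul, sub_zero, mul_zero, add_zero]
  -- the commutation, evaluated in `w1`
  have hcomm : ∀ u, bf (A + Aᵀ) f u = 0 → bf (A + Aᵀ) e u = 0 →
      (-bf (A + Aᵀ) f r) • u = (-(bf (A + Aᵀ) u w1 * bf (A + Aᵀ) f r)) • e +
        (-(bf (A + Aᵀ) f r * Q u) - bf (A + Aᵀ) u r) • f := by
    intro u hu hue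
    have h2 := congrArg (fun a : Cfsg.Omega F Q => mt Q a *ᵥ w1) (hz' u hu hue)
    simp only [mul_mulVec] at h2
    rw [sie_mulVec, sie_mulVec, mulVec_add, mulVec_add, mulVec_smul, mulVec_smul, mulVec_neg,
      add_assoc, add_assoc] at h2
    have h3 := add_left_cancel h2
    have e1 : bf (A + Aᵀ) f (mt Q z *ᵥ w1) = -bf (A + Aᵀ) f r := by
      rw [hform, hw1, add_right, sub_right, smul_right, smul_right, smul_right, hw1', hfe]; ring
    have e2 : bf (A + Aᵀ) u (mt Q z *ᵥ w1) = l * bf (A + Aᵀ) u w1 - bf (A + Aᵀ) u r := by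
      rw [hform, hw1, add_right, sub_right, smul_right, smul_right, smul_right, h.comm u e, hue]; ring
    rw [e1, e2, hw1', zero_smul, zero_add, hzf] at h3
    have h4 : (-bf (A + Aᵀ) f r) • u - ((-(bf (A + Aᵀ) u w1 * bf (A + Aᵀ) f r)) • e +
        (-(bf (A + Aᵀ) f r * Q u) - bf (A + Aᵀ) u r) • f) =
        (-bf (A + Aᵀ) f r) • (u - Q u • f) + (l * bf (A + Aᵀ) u w1 - bf (A + Aᵀ) u r) • (-f) -
        bf (A + Aᵀ) u w1 • (-(l • f + bf (A + Aᵀ) f r • e)) := by
      simp only [smul_sub, smul_smul, smul_neg, sub_smul, neg_smul, smul_add, neg_mul,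
        mul_comm (bf (A + Aᵀ) u w1) l]
      abel
    rw [h3, sub_self] at h4
    exact sub_eq_zero.1 h4
  have hfr : bf (A + Aᵀ) f r = 0 := by
    obtain ⟨u, hu1, hu2, hu3⟩ := exists_out (A + Aᵀ) hn e f
    exact neg_eq_zero.1 (coeff_of_not_mem hu3 (hcomm u hu2 hu1))
  obtain ⟨a, b, hab⟩ := eq_comb_of_bf h.nd (e := e) (f := f) (r := r) fun u hue huf => by
    rw [h.comm] at hue huf
    have h3 := hcomm u huf hue
    rw [hfr, neg_zero, zero_smul, mul_zero, neg_zero, zero_smul, zero_add, zero_mul, neg_zero, zero_sub] at h3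
    exact neg_eq_zero.1 ((smul_eq_zero.1 h3.symm).resolve_right hef.right_ne)
  have hform' : ∀ w, mt Q z *ᵥ w = l • w + (-b) • (bf (A + Aᵀ) e w • f - bf (A + Aᵀ) f w • e) +
      (c0 * bf (A + Aᵀ) e w) • e := by
    intro w
    rw [hform, hab, add_right, smul_right, smul_right, h.comm w e, h.comm w f]
    simp only [smul_sub, smul_smul, add_smul, neg_smul, neg_mul, smul_add, mul_comm a, mul_comm b]
    abel
  have hc0 : c0 = 0 := by
    have h3 := Q_mt z w1
    rw [hform', hw1, hw1', zero_smul, sub_zero, one_smul, mul_one, h.Qadd, h.Qadd, h.Qsmul, h.Qsmul, h.Qsmul, he, hf,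
      add_left] at h3
    simp only [smul_left, smul_right, h.comm w1 f, hw1', h.comm w1 e, hw1, hfe] at h3
    have h4 : l * c0 = 0 := by linear_combination h3 - Q w1 * hll
    exact (mul_eq_zero.1 h4).resolve_left hl0
  refine ⟨l, -(l * b), hl0, fun w => ?_⟩
  rw [hform', hc0, zero_mul, zero_smul, add_zero, show l * -(l * b) = -b by linear_combination (-b) * hll]

theorem center_scalar (hn : 4 < Fintype.card ι)
    (H3 : ∀ u g : ι → F, ∃ v, v ≠ 0 ∧ Q v = 0 ∧ bf (A + Aᵀ) u v = 0 ∧ g ⬝ᵥ v = 0)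
    {z : Cfsg.Omega F Q} (hz : z ∈ center (Cfsg.Omega F Q)) : ∃ c : F, mt Q z = scalar ι c := by
  refine h.ld.scalar_of_eigen z H3 fun v hv hQv => ?_
  obtain ⟨l, -, -, -, -, h1, -⟩ := h.form_point hn hQv hv (z := z) fun u hu => mem_center_iff.1 hz _
  exact ⟨l, h1⟩

omit h in
/-- the chain of a totally singular flag -/
def ch {e f : ι → F} (hee : bf (A + Aᵀ) e e = 0) (hff : bf (A + Aᵀ) f f = 0) (hef : bf (A + Aᵀ) e f = 0)
    (hfe : bf (A + Aᵀ) f e = 0) : Chain.Ch F ι :=
  Chain.five (perp (A + Aᵀ) e) (perp (A + Aᵀ) e ⊓ perp (A + Aᵀ) f) (Submodule.span F {e, f})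
    (Submodule.span F {e}) inf_le_left
    (by
      rw [Submodule.span_le]
      rintro x (rfl | rfl)
      · exact ⟨hee, hfe⟩
      · exact ⟨hef, hff⟩)
    (Submodule.span_mono (by simp))

omit h in
theorem mem_perp_of_span {e f w : ι → F} (hee : bf (A + Aᵀ) e e = 0) (hff : bf (A + Aᵀ) f f = 0)
    (hef : bf (A + Aᵀ) e f = 0) (hfe : bf (A + Aᵀ) f e = 0)
    (hw : w ∈ Submodule.span F {e, f}) : bf (A + Aᵀ) e w = 0 ∧ bf (A + Aᵀ) f w = 0 := by
  obtain ⟨a, b, rfl⟩ := Submodule.mem_span_pair.1 hw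
  constructor
  · rw [add_right, smul_right, smul_right, hee, hef]; ring
  · rw [add_right, smul_right, smul_right, hff, hfe]; ring

theorem sie_mem_left (hn : 4 < Fintype.card ι) {e f : ι → F} (he : Q e = 0) (he0 : e ≠ 0)
    (hee : bf (A + Aᵀ) e e = 0) (hff : bf (A + Aᵀ) f f = 0) (hef : bf (A + Aᵀ) e f = 0)
    (hfe : bf (A + Aᵀ) f e = 0) (u : ι → F) (hu : bf (A + Aᵀ) e u = 0) :
    h.sie hn e u he he0 hu ∈ Chain.UC (mt Q) (ch hee hff hef hfe) := by
  have he1 : e ∈ perp (A + Aᵀ) e ⊓ perp (A + Aᵀ) f := ⟨hee, hfe⟩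
  refine Chain.mem_five (fun w => ?_) (fun w hw => ?_) (fun w hw => ?_) (fun w hw => ?_) (fun w hw => ?_)
  · rw [sie_mulVec, add_assoc, add_sub_cancel_left]
    exact add_mem (Submodule.smul_mem _ _ (sub_mem hu (Submodule.smul_mem _ _ hee)))
      (Submodule.smul_mem _ _ (neg_mem (show e ∈ perp (A + Aᵀ) e from hee)))
  · rw [sie_mulVec, add_assoc, add_sub_cancel_left, mem_perp.1 hw, zero_smul, zero_add]
    exact Submodule.smul_mem _ _ (neg_mem he1)
  · rw [sie_mulVec, add_assoc, add_sub_cancel_left, mem_perp.1 hw.1, zero_smul, zero_add]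
    exact Submodule.smul_mem _ _ (neg_mem (Submodule.subset_span (by simp)))
  · rw [sie_mulVec, add_assoc, add_sub_cancel_left, (mem_perp_of_span hee hff hef hfe hw).1, zero_smul, zero_add]
    exact Submodule.smul_mem _ _ (neg_mem (Submodule.mem_span_singleton_self e))
  · obtain ⟨a, rfl⟩ := Submodule.mem_span_singleton.1 hw
    rw [sie_mulVec, smul_right, smul_right, hee, h.comm u e, hu, mul_zero, zero_smul, zero_smul, add_zero,
      add_zero]

theorem sie_mem_right (hn : 4 < Fintype.card ι) {e f : ι → F} (hf : Q f = 0) (hf0 : f ≠ 0)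
    (hee : bf (A + Aᵀ) e e = 0) (hff : bf (A + Aᵀ) f f = 0) (hef : bf (A + Aᵀ) e f = 0)
    (hfe : bf (A + Aᵀ) f e = 0) (u : ι → F) (hu : bf (A + Aᵀ) f u = 0) (hu' : bf (A + Aᵀ) e u = 0) :
    h.sie hn f u hf hf0 hu ∈ Chain.UC (mt Q) (ch hee hff hef hfe) := by
  have hf1 : f ∈ perp (A + Aᵀ) e ⊓ perp (A + Aᵀ) f := ⟨hef, hff⟩
  refine Chain.mem_five (fun w => ?_) (fun w hw => ?_) (fun w hw => ?_) (fun w hw => ?_) (fun w hw => ?_)
  · rw [sie_mulVec, add_assoc, add_sub_cancel_left]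
    exact add_mem (Submodule.smul_mem _ _ (sub_mem hu' (Submodule.smul_mem _ _ hef)))
      (Submodule.smul_mem _ _ (neg_mem (show f ∈ perp (A + Aᵀ) e from hef)))
  · rw [sie_mulVec, add_assoc, add_sub_cancel_left]
    exact add_mem (Submodule.smul_mem _ _ (sub_mem ⟨hu', hu⟩ (Submodule.smul_mem _ _ hf1)))
      (Submodule.smul_mem _ _ (neg_mem hf1))
  · rw [sie_mulVec, add_assoc, add_sub_cancel_left, mem_perp.1 hw.2, zero_smul, zero_add]
    exact Submodule.smul_mem _ _ (neg_mem (Submodule.subset_span (by simp)))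
  · rw [sie_mulVec, add_assoc, add_sub_cancel_left, (mem_perp_of_span hee hff hef hfe hw).2, zero_smul, zero_add]
    obtain ⟨a, b, rfl⟩ := Submodule.mem_span_pair.1 hw
    rw [add_right, smul_right, smul_right, h.comm u e, hu', h.comm u f, hu]
    simp
  · obtain ⟨a, rfl⟩ := Submodule.mem_span_singleton.1 hw
    rw [sie_mulVec, smul_right, smul_right, hfe, h.comm u e, hu', mul_zero, zero_smul, zero_smul, add_zero,
      add_zero]

/-- **No coprime class sizes in the orthogonal groups.** -/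
theorem noCop [Fintype F] (hn : 6 < Fintype.card ι) [IsSimpleGroup (Cfsg.POmega F Q)]
    (hna : ¬ IsMulCommutative (Cfsg.POmega F Q)) : NoCop (Cfsg.POmega F Q) := by
  obtain ⟨p, hp⟩ := CharP.exists F
  have hpp : Fact p.Prime := ⟨CharP.char_is_prime F p⟩
  have hn4 : 4 < Fintype.card ι := by omega
  have hfin : Finite (Cfsg.POmega F Q) := Quotient.finite _
  have hne : Nonempty ι := Fintype.card_pos_iff.1 (by omega)
  -- Chevalley-Warning
  have H1 : ∀ Y : Cfsg.Omega F Q, ∃ u, u ≠ 0 ∧ Q u = 0 ∧ bf (A + Aᵀ) u (mt Q Y *ᵥ u) = 0 ∧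
      bf (A + Aᵀ) u (mt Q Y *ᵥ (mt Q Y *ᵥ u)) = 0 := by
    intro Y
    obtain ⟨x, hx, h1, -⟩ := CW.exists_quad (K := F) (σ := ι) (k := 3) (l := 0)
      ![A, (A + Aᵀ) * mt Q Y, (A + Aᵀ) * mt Q Y * mt Q Y] (fun i => i.elim0) (by omega)
    refine ⟨x, hx, ?_, ?_, ?_⟩
    · rw [h.eq]; exact h1 0
    · have := h1 1
      change x ⬝ᵥ (((A + Aᵀ) * mt Q Y) *ᵥ x) = 0 at this
      rw [← mulVec_mulVec] at this
      exact this
    · have := h1 2
      change x ⬝ᵥ (((A + Aᵀ) * mt Q Y * mt Q Y) *ᵥ x) = 0 at this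
      rw [← mulVec_mulVec, ← mulVec_mulVec] at this
      exact this
  have H2 : ∀ (Y : Cfsg.Omega F Q) (u g : ι → F), ∃ v, v ≠ 0 ∧ Q v = 0 ∧ bf (A + Aᵀ) v (mt Q Y *ᵥ v) = 0 ∧
      bf (A + Aᵀ) u v = 0 ∧ g ⬝ᵥ v = 0 := by
    intro Y u g
    obtain ⟨x, hx, h1, h3⟩ := CW.exists_quad (K := F) (σ := ι) (k := 2) (l := 2)
      ![A, (A + Aᵀ) * mt Q Y] ![u ᵥ* (A + Aᵀ), g] (by omega)
    refine ⟨x, hx, ?_, ?_, ?_, h3 1⟩
    · rw [h.eq]; exact h1 0
    · have := h1 1
      change x ⬝ᵥ (((A + Aᵀ) * mt Q Y) *ᵥ x) = 0 at this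
      rw [← mulVec_mulVec] at this
      exact this
    · have := h3 0
      simp only [cons_val_zero] at this
      rwa [vecMul_eq] at this
  have H3 : ∀ u g : ι → F, ∃ v, v ≠ 0 ∧ Q v = 0 ∧ bf (A + Aᵀ) u v = 0 ∧ g ⬝ᵥ v = 0 := by
    intro u g
    obtain ⟨v, h1, h2, -, h3, h4⟩ := H2 1 u g
    exact ⟨v, h1, h2, h3, h4⟩
  refine noCop_of_scalar (φ := mt Q) (Fact.out : p.Prime) mt_injective hna ?_
  intro X Y hc hpx hx1
  refine h.ld.scalar_of_trans Y ?_ (H1 Y) (H2 Y)
  intro e f e' f' hi he hf hB hi' he' hf' hB'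
  have hself : ∀ v, Q v = 0 → bf (A + Aᵀ) v v = 0 := fun v hv => by rw [h.self, hv, mul_zero]
  let O := {o : (ι → F) × (ι → F) // Q o.1 = 0 ∧ Q o.2 = 0 ∧ bf (A + Aᵀ) o.1 o.2 = 0}
  obtain ⟨Z, C, ζ, hζ, hZ, hZ', hcz, hcz', hCY, -⟩ := exists_lift (φ := mt Q) (p := p) mt_injective
    (fun z hz => h.center_scalar hn4 H3 hz) hc hpx hx1 (O := O)
    (fun o => Chain.UC (mt Q) (ch (hself _ o.2.1) (hself _ o.2.2.1) o.2.2.2 (by rw [h.comm]; exact o.2.2.2))) 5
    (fun o u hu => Chain.pow_eq_one (c := ch (hself _ o.2.1) (hself _ o.2.2.1) o.2.2.2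
      (by rw [h.comm]; exact o.2.2.2)) mt_injective hu) ⟨(e, f), he, hf, hB⟩ ⟨(e', f'), he', hf', hB'⟩
  obtain ⟨l, c, hl, h3⟩ := h.form_line hn4 he hf hi hB
    (fun u hu => hcz _ (h.sie_mem_left hn4 he hi.left_ne _ _ _ _ u hu))
    (fun u hu hu' => hcz _ (h.sie_mem_right hn4 hf hi.right_ne _ _ _ _ u hu hu'))
  obtain ⟨l', c', hl', h4⟩ := h.form_line hn4 he' hf' hi' hB'
    (fun u hu => hcz' _ (h.sie_mem_left hn4 he' hi'.left_ne _ _ _ _ u hu))
    (fun u hu hu' => hcz' _ (h.sie_mem_right hn4 hf' hi'.right_ne _ _ _ _ u hu hu'))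
  have hc' : c' ≠ 0 := by
    rintro rfl
    apply hZ'
    obtain ⟨d, hd⟩ := exists_scalar (A := mt Q (C * Z * C⁻¹)) fun v => ⟨l', by
      rw [h4, mul_zero, zero_smul, add_zero]⟩
    exact mem_center_of_scalar mt_injective hd
  have h5 : ∀ w, l • (mt Q C *ᵥ w) + (l * c) • (bf (A + Aᵀ) e w • (mt Q C *ᵥ f) - bf (A + Aᵀ) f w • (mt Q C *ᵥ e)) =
      l' • (mt Q C *ᵥ w) + (l' * c') • (bf (A + Aᵀ) e' (mt Q C *ᵥ w) • f' - bf (A + Aᵀ) f' (mt Q C *ᵥ w) • e') := by
    intro w
    have h6 := h4 (mt Q C *ᵥ w)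
    rw [mul_mulVec, mul_mulVec, inv_mulVec, h3, mulVec_add, mulVec_smul, mulVec_smul, mulVec_sub, mulVec_smul,
      mulVec_smul] at h6
    exact h6
  have hll : l = l' := by
    obtain ⟨x, hx, hx'⟩ := exists_perp (A + Aᵀ) ![e, f, mt Q C⁻¹ *ᵥ e', mt Q C⁻¹ *ᵥ f'] (by omega)
    have e1 : bf (A + Aᵀ) e x = 0 := hx' 0
    have e2 : bf (A + Aᵀ) f x = 0 := hx' 1
    have e3 : bf (A + Aᵀ) e' (mt Q C *ᵥ x) = 0 := by
      have h6 := h.ld.iso C (mt Q C⁻¹ *ᵥ e') x
      rw [mulVec_inv] at h6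
      rw [h6]; exact hx' 2
    have e4 : bf (A + Aᵀ) f' (mt Q C *ᵥ x) = 0 := by
      have h6 := h.ld.iso C (mt Q C⁻¹ *ᵥ f') x
      rw [mulVec_inv] at h6
      rw [h6]; exact hx' 3
    have h6 := h5 x
    rw [e1, e2, e3, e4] at h6
    simp only [zero_smul, sub_zero, smul_zero, add_zero] at h6
    refine smul_left_cancel' (fun h0 => hx ?_) h6
    rw [← inv_mulVec (mt Q) C x, h0, mulVec_zero]
  exact ⟨C, ζ, hζ, hCY, h.ld.line_of_form (C := C) hi' hc' hl' h5 hll⟩

end OD

/-! ### the three families -/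

theorem nd_of {A : Matrix ι ι F} (hA : ∀ u : ι → F, (A + Aᵀ) *ᵥ u = 0 → u = 0) : ND (A + Aᵀ) := by
  intro u hu
  refine hA u (funext fun i => ?_)
  have := hu (Pi.single i 1)
  unfold bf at this
  rwa [single_one_dotProduct] at this

/-- the matrix of `∑ x_i y_i` -/
def hyp (m : ℕ) (F : Type*) [Field F] : Matrix (Fin m ⊕ Fin m) (Fin m ⊕ Fin m) F := fromBlocks 0 1 0 0

theorem hyp_eq (m : ℕ) (v : Fin m ⊕ Fin m → F) : v ⬝ᵥ (hyp m F *ᵥ v) = ∑ i, v (.inl i) * v (.inr i) := by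
  unfold hyp
  rw [dotProduct, Fintype.sum_sum_type]
  simp only [fromBlocks_mulVec, _root_.Matrix.zero_mulVec, _root_.Matrix.one_mulVec, _root_.zero_add, _root_.add_zero, _root_.Sum.elim_inl, _root_.Function.comp_apply, _root_.Sum.elim_inr, _root_.Pi.zero_apply, _root_.MulZeroClass.mul_zero, _root_.Finset.sum_const_zero]

theorem od_plus (m : ℕ) : OD (Cfsg.quadFormPlus m F) (hyp m F) where
  eq := fun v => (hyp_eq m v).symm
  nd := nd_of fun u hu => by
    unfold hyp at hu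
    rw [fromBlocks_transpose, fromBlocks_add, fromBlocks_mulVec] at hu
    funext i
    rcases i with i | i
    · have := congrFun hu (.inr i)
      simpa using this
    · have := congrFun hu (.inl i)
      simpa using this

theorem od_odd (m : ℕ) (h2 : (2 : F) ≠ 0) :
    OD (Cfsg.quadFormOdd m F) (fromBlocks (1 : Matrix Unit Unit F) 0 0 (hyp m F)) where
  eq := fun v => by
    have h1 := hyp_eq m (fun i => v (.inr i))
    rw [dotProduct, Fintype.sum_sum_type]
    simp only [fromBlocks_mulVec]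
    unfold Cfsg.quadFormOdd
    simp only [Sum.elim_inl, Sum.elim_inr, zero_mulVec, one_mulVec, add_zero, zero_add, Function.comp_apply,
      Finset.univ_unique, PUnit.default_eq_unit, Finset.sum_singleton]
    rw [← h1, dotProduct, sq]
    rfl
  nd := nd_of fun u hu => by
    unfold hyp at hu
    simp only [fromBlocks_transpose, fromBlocks_add, fromBlocks_mulVec] at hu
    funext i
    rcases i with i | i | i
    · have := congrFun hu (.inl i)
      simp only [Sum.elim_inl, Pi.zero_apply, Pi.add_apply, transpose_one, transpose_zero, add_zero, zero_mulVec,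
        add_mulVec, one_mulVec, Function.comp_apply] at this
      rw [← two_mul] at this
      exact (mul_eq_zero.1 this).resolve_left h2
    · have := congrFun hu (.inr (.inr i))
      simpa [fromBlocks_mulVec, add_mulVec] using this
    · have := congrFun hu (.inr (.inl i))
      simpa [fromBlocks_mulVec, add_mulVec] using this

theorem od_minus [Fintype F] (m : ℕ) {a b : F}
    (hab : ∀ z₁ z₂ : F, z₁ ^ 2 + a * z₁ * z₂ + b * z₂ ^ 2 = 0 → z₁ = 0 ∧ z₂ = 0) :
    OD (Cfsg.quadFormMinus m F a b) (fromBlocks (hyp m F) 0 0 !![1, a; 0, b]) where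
  eq := fun v => by
    have h1 := hyp_eq m (fun i => v (.inl i))
    rw [dotProduct, Fintype.sum_sum_type]
    simp only [fromBlocks_mulVec]
    unfold Cfsg.quadFormMinus
    simp only [Sum.elim_inl, Sum.elim_inr, zero_mulVec, add_zero, zero_add, Function.comp_apply]
    rw [← h1, dotProduct, Fin.sum_univ_two]
    congr 1
    simp only [mulVec, dotProduct, Fin.sum_univ_two, _root_.Fin.isValue, _root_.Matrix.of_apply, _root_.Matrix.cons_val', _root_.Matrix.cons_val_fin_one, _root_.Matrix.cons_val_zero, _root_.Function.comp_apply, _root_.one_mul, _root_.Matrix.cons_val_one, _root_.MulZeroClass.zero_mul, _root_.zero_add]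
    ring
  nd := nd_of fun u hu => by
    unfold hyp at hu
    simp only [fromBlocks_transpose, fromBlocks_add, fromBlocks_mulVec] at hu
    have h0 := congrFun hu (.inr 0)
    have h1 := congrFun hu (.inr 1)
    simp only [_root_.Matrix.transpose_zero, _root_.add_zero, _root_.Matrix.zero_mulVec, _root_.Matrix.one_mulVec, _root_.zero_add, _root_.Matrix.transpose_one, _root_.Matrix.mulVec_fin_two, _root_.Nat.succ_eq_add_one, _root_.Nat.reduceAdd, _root_.Fin.isValue, _root_.Matrix.add_apply, _root_.Matrix.of_apply, _root_.Matrix.cons_val', _root_.Matrix.cons_val_zero, _root_.Matrix.cons_val_fin_one, _root_.Matrix.transpose_apply, _root_.Function.comp_apply, _root_.Matrix.cons_val_one, _root_.Sum.elim_inr, _root_.Pi.zero_apply] at h0 h1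
    have hz : u (.inr 0) = 0 ∧ u (.inr 1) = 0 := by
      by_cases h2 : (2 : F) = 0
      · have ha : a ≠ 0 := by
          intro ha
          have hchar : ringChar F = 2 := by
            have h3 : CharP F (ringChar F) := inferInstance
            have h4 : ringChar F ∣ 2 := (CharP.cast_eq_zero_iff F (ringChar F) 2).1 (by exact_mod_cast h2)
            exact (Nat.dvd_prime Nat.prime_two).1 h4 |>.resolve_left (CharP.ringChar_ne_one)
          obtain ⟨c, hc⟩ := FiniteField.isSquare_of_char_two hchar b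
          have := (hab c 1 (by rw [ha, hc]; linear_combination (c ^ 2) * h2)).2
          exact one_ne_zero this
        constructor
        · have : a * u (.inr 0) = 0 := by linear_combination h1 - (b * u (.inr 1)) * h2
          exact (mul_eq_zero.1 this).resolve_left ha
        · have : a * u (.inr 1) = 0 := by linear_combination h0 - (u (.inr 0)) * h2
          exact (mul_eq_zero.1 this).resolve_left ha
      · refine hab _ _ ?_
        have h3 : (2 : F) * (u (.inr 0) ^ 2 + a * u (.inr 0) * u (.inr 1) + b * u (.inr 1) ^ 2) = 0 := by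
          linear_combination (u (.inr 0)) * h0 + (u (.inr 1)) * h1
        exact (mul_eq_zero.1 h3).resolve_left h2
    funext i
    rcases i with (i | i) | i
    · have := congrFun hu (.inl (.inr i))
      simpa only [fromBlocks_mulVec, add_mulVec, _root_.Pi.zero_apply, _root_.Matrix.transpose_zero, _root_.add_zero, _root_.Matrix.zero_mulVec, _root_.Matrix.one_mulVec, _root_.zero_add, _root_.Matrix.transpose_one, _root_.Matrix.cons_mulVec, _root_.Matrix.cons_dotProduct, _root_.one_mul, _root_.Matrix.dotProduct_of_isEmpty, _root_.MulZeroClass.zero_mul, _root_.Matrix.empty_mulVec, _root_.Matrix.mulVec_fin_two, _root_.Nat.succ_eq_add_one, _root_.Nat.reduceAdd, _root_.Fin.isValue, _root_.Matrix.transpose_apply, _root_.Matrix.of_apply, _root_.Matrix.cons_val', _root_.Matrix.cons_val_zero, _root_.Matrix.cons_val_fin_one, _root_.Function.comp_apply, _root_.Matrix.cons_val_one, _root_.Matrix.add_cons, _root_.Matrix.head_cons, _root_.Matrix.tail_cons,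 _root_.Matrix.empty_add_empty, _root_.Sum.elim_inl, _root_.Sum.elim_inr] using this
    · have := congrFun hu (.inl (.inl i))
      simpa only [fromBlocks_mulVec, add_mulVec, _root_.Pi.zero_apply, _root_.Matrix.transpose_zero, _root_.add_zero, _root_.Matrix.zero_mulVec, _root_.Matrix.one_mulVec, _root_.zero_add, _root_.Matrix.transpose_one, _root_.Matrix.cons_mulVec, _root_.Matrix.cons_dotProduct, _root_.one_mul, _root_.Matrix.dotProduct_of_isEmpty, _root_.MulZeroClass.zero_mul, _root_.Matrix.empty_mulVec, _root_.Matrix.mulVec_fin_two, _root_.Nat.succ_eq_add_one, _root_.Nat.reduceAdd, _root_.Fin.isValue, _root_.Matrix.transpose_apply, _root_.Matrix.of_apply, _root_.Matrix.cons_val', _root_.Matrix.cons_val_zero, _root_.Matrix.cons_val_fin_one, _root_.Function.comp_apply, _root_.Matrix.cons_val_one, _root_.Matrix.add_cons, _root_.Matrix.head_cons, _root_.Matrix.tail_cons, _root_.Matrix.empty_add_empty, _root_.Sum.elim_inl] using this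
    · fin_cases i
      · exact hz.1
      · exact hz.2

theorem noCop_plus [Fintype F] {m : ℕ} (hm : 4 ≤ m) [IsSimpleGroup (Cfsg.POmega F (Cfsg.quadFormPlus m F))]
    (hna : ¬ IsMulCommutative (Cfsg.POmega F (Cfsg.quadFormPlus m F))) :
    NoCop (Cfsg.POmega F (Cfsg.quadFormPlus m F)) :=
  (od_plus m).noCop (by rw [Fintype.card_sum, Fintype.card_fin]; omega) hna

theorem noCop_odd [Fintype F] {m : ℕ} (hm : 3 ≤ m) (hF : Odd (Fintype.card F))
    [IsSimpleGroup (Cfsg.POmega F (Cfsg.quadFormOdd m F))]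
    (hna : ¬ IsMulCommutative (Cfsg.POmega F (Cfsg.quadFormOdd m F))) :
    NoCop (Cfsg.POmega F (Cfsg.quadFormOdd m F)) := by
  have h2 : (2 : F) ≠ 0 := by
    intro h2
    have h3 : CharP F (ringChar F) := inferInstance
    have h4 : ringChar F ∣ 2 := (CharP.cast_eq_zero_iff F (ringChar F) 2).1 (by exact_mod_cast h2)
    have hchar : ringChar F = 2 := (Nat.dvd_prime Nat.prime_two).1 h4 |>.resolve_left (CharP.ringChar_ne_one)
    have h5 := FiniteField.even_card_of_char_two hchar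
    rw [Nat.odd_iff] at hF
    omega
  exact (od_odd m h2).noCop (by
    rw [Fintype.card_sum, Fintype.card_sum, Fintype.card_fin, Fintype.card_unit]; omega) hna

theorem noCop_minus [Fintype F] {m : ℕ} {a b : F} (hm : 4 ≤ m)
    (hab : ∀ z₁ z₂ : F, z₁ ^ 2 + a * z₁ * z₂ + b * z₂ ^ 2 = 0 → z₁ = 0 ∧ z₂ = 0)
    [IsSimpleGroup (Cfsg.POmega F (Cfsg.quadFormMinus (m - 1) F a b))]
    (hna : ¬ IsMulCommutative (Cfsg.POmega F (Cfsg.quadFormMinus (m - 1) F a b))) :
    NoCop (Cfsg.POmega F (Cfsg.quadFormMinus (m - 1) F a b)) :=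
  (od_minus (m - 1) hab).noCop (by
    rw [Fintype.card_sum, Fintype.card_sum, Fintype.card_fin, Fintype.card_fin]; omega) hna

end Cfsg.Agent.H530.Om
end

-- part: H743/NoCopAlt
section
/-!
# Class sizes of alternating groups are not coprime (for helper530, S4158)
-/

set_option autoImplicit false

namespace Cfsg.Agent.H743.NoCopAlt

open Equiv.Perm Cfsg.Agent.H530.Cop

section
variable {α : Type*} [Fintype α] [DecidableEq α]

/-- number of arrows of `y` inside `T` -/
def arr (y : Equiv.Perm α) (T : Finset α) : ℤ := ∑ i ∈ T, ∑ j ∈ T, if y i = j then 1 else 0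

theorem arr_map (y c : Equiv.Perm α) (hc : c * y = y * c) (T : Finset α) :
    arr y (T.map c.toEmbedding) = arr y T := by
  unfold arr
  rw [Finset.sum_map]
  refine Finset.sum_congr rfl fun i _ => ?_
  rw [Finset.sum_map]
  refine Finset.sum_congr rfl fun j _ => ?_
  have h1 : y (c i) = c (y i) := by
    have := congrArg (fun g : Equiv.Perm α => g i) hc
    exact this.symm
  simp only [Equiv.coe_toEmbedding, h1, EmbeddingLike.apply_eq_iff_eq]

theorem arr_insert (y : Equiv.Perm α) {T : Finset α} {i : α} (hi : i ∉ T) :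
    arr y (insert i T) = arr y T + (if y i = i then 1 else 0) + (∑ j ∈ T, if y i = j then 1 else 0) +
      ∑ j ∈ T, if y j = i then 1 else 0 := by
  unfold arr
  rw [Finset.sum_insert hi, Finset.sum_insert hi, Finset.sum_congr rfl fun j _ => Finset.sum_insert hi,
    Finset.sum_add_distrib]
  ring

/-- the number of arrows is not constant -/
theorem exists_ne {y : Equiv.Perm α} (hy : y ≠ 1) (h5 : 5 ≤ Fintype.card α) {m : ℕ} (hm : 2 ≤ m)
    (hm2 : m + 2 ≤ Fintype.card α) (h : ∀ T T' : Finset α, T.card = m → T'.card = m → arr y T = arr y T') :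
    False := by
  obtain ⟨a, ha⟩ : ∃ a, y a ≠ a := by
    by_contra hcon
    push Not at hcon
    exact hy (Equiv.ext hcon)
  -- a point outside
  have out : ∀ S : Finset α, S.card < Fintype.card α → ∃ v, v ∉ S := by
    intro S hS
    by_contra hcon
    push Not at hcon
    rw [Finset.eq_univ_iff_forall.mpr hcon, Finset.card_univ] at hS
    exact lt_irrefl _ hS
  obtain ⟨v, hv⟩ := out {a, y a, y (y a)} ((Finset.card_le_three).trans_lt (by omega))
  simp only [Finset.mem_insert, Finset.mem_singleton, not_or] at hv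
  obtain ⟨hva, hvb, hvc⟩ := hv
  obtain ⟨s, hs⟩ := out {a, y a, v, y.symm a} ((Finset.card_le_four).trans_lt (by omega))
  simp only [Finset.mem_insert, Finset.mem_singleton, not_or] at hs
  obtain ⟨hsa, hsb, hsv, hsy⟩ := hs
  have hys : y s ≠ a := fun h => hsy (by rw [← h, Equiv.symm_apply_apply])
  have hvb' : y v ≠ y a := fun h => hva (y.injective h)
  -- the rest
  obtain ⟨R, hR, hRc⟩ : ∃ R ⊆ ({a, y a, v, s} : Finset α)ᶜ, R.card = m - 2 := by
    apply Finset.exists_subset_card_eq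
    rw [Finset.card_compl]
    have := Finset.card_le_four (a := a) (b := y a) (c := v) (d := s)
    omega
  have hR' : ∀ r ∈ R, r ≠ a ∧ r ≠ y a ∧ r ≠ v ∧ r ≠ s := by
    intro r hr
    have := hR hr
    simp only [Finset.mem_compl, Finset.mem_insert, Finset.mem_singleton, not_or] at this
    exact this
  have hRa : a ∉ R := fun h => (hR' a h).1 rfl
  have hRb : y a ∉ R := fun h => (hR' _ h).2.1 rfl
  have hRv : v ∉ R := fun h => (hR' _ h).2.2.1 rfl
  have hRs : s ∉ R := fun h => (hR' _ h).2.2.2 rfl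
  have cards : ∀ i j : α, i ≠ j → i ∉ R → j ∉ R → (insert i (insert j R)).card = m := by
    intro i j hij hi hj
    rw [Finset.card_insert_of_notMem (by simp [hij, hi]), Finset.card_insert_of_notMem hj]
    omega
  have expand : ∀ i j : α, i ≠ j → i ∉ R → j ∉ R → arr y (insert i (insert j R)) =
      arr y R + ((if y i = i then 1 else 0) + (∑ k ∈ R, if y i = k then 1 else 0) + ∑ k ∈ R, if y k = i then 1 else 0) +
      ((if y j = j then 1 else 0) + (∑ k ∈ R, if y j = k then 1 else 0) + ∑ k ∈ R, if y k = j then 1 else 0) +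
      ((if y i = j then 1 else 0) + (if y j = i then 1 else 0)) := by
    intro i j hij hi hj
    rw [arr_insert y (by simp [hij, hi]), arr_insert y hj, Finset.sum_insert hj, Finset.sum_insert hj]
    ring
  have e1 := h _ _ (cards a (y a) (fun h => ha h.symm) hRa hRb) (cards v (y a) hvb hRv hRb)
  have e2 := h _ _ (cards a s (fun h => hsa h.symm) hRa hRs) (cards v s (fun h => hsv h.symm) hRv hRs)
  rw [expand a (y a) (fun h => ha h.symm) hRa hRb, expand v (y a) hvb hRv hRb] at e1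
  rw [expand a s (fun h => hsa h.symm) hRa hRs, expand v s (fun h => hsv h.symm) hRv hRs] at e2
  simp only [if_neg hvb', if_neg hys, if_neg (fun h : y a = s => hsb h.symm), if_neg (fun h : y (y a) = v => hvc h.symm),
    if_true] at e1 e2
  have p1 : (0 : ℤ) ≤ if y (y a) = a then 1 else 0 := by split_ifs <;> norm_num
  have p2 : (0 : ℤ) ≤ if y v = s then 1 else 0 := by split_ifs <;> norm_num
  have p3 : (0 : ℤ) ≤ if y s = v then 1 else 0 := by split_ifs <;> norm_num
  linarith only [e1, e2, p1, p2, p3]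

/-- transitivity on subsets -/
theorem exists_map {m : ℕ} (hm2 : m + 2 ≤ Fintype.card α) {T₀ T : Finset α} (h0 : T₀.card = m) (h : T.card = m) :
    ∃ g : alternatingGroup α, T₀.map (g : Equiv.Perm α).toEmbedding = T := by
  have e : {x // x ∈ T₀} ≃ {x // x ∈ T} := Finset.equivOfCardEq (by rw [h0, h])
  set g : Equiv.Perm α := e.extendSubtype with hg
  have h1 : T₀.map g.toEmbedding = T := by
    apply Finset.eq_of_subset_of_card_le
    · intro x hx
      obtain ⟨y, hy, rfl⟩ := Finset.mem_map.mp hx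
      exact e.extendSubtype_mem y hy
    · rw [Finset.card_map, h0, h]
  rcases Int.units_eq_one_or (Equiv.Perm.sign g) with hs | hs
  · exact ⟨⟨g, Equiv.Perm.mem_alternatingGroup.mpr hs⟩, h1⟩
  · obtain ⟨u, hu, v, hv, huv⟩ := Finset.one_lt_card.mp (show 1 < (Tᶜ : Finset α).card by
      rw [Finset.card_compl]; omega)
    rw [Finset.mem_compl] at hu hv
    refine ⟨⟨Equiv.swap u v * g, Equiv.Perm.mem_alternatingGroup.mpr ?_⟩, ?_⟩
    · rw [Equiv.Perm.sign_mul, Equiv.Perm.sign_swap huv, hs]; rfl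
    · apply Finset.eq_of_subset_of_card_le
      · intro x hx
        obtain ⟨y, hy, rfl⟩ := Finset.mem_map.mp hx
        have h2 : g y ∈ T := e.extendSubtype_mem y hy
        have h3 : (Equiv.swap u v * g) y = g y := by
          rw [Equiv.Perm.mul_apply, Equiv.swap_apply_of_ne_of_ne]
          · rintro rfl; exact hu h2
          · rintro rfl; exact hv h2
        change (Equiv.swap u v * g) y ∈ T
        rw [h3]; exact h2
      · rw [Finset.card_map, h0, h]

/-- a permutation commuting with a cycle is a power of it on its support -/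
theorem exists_pow {x z : Equiv.Perm α} (hz : z.IsCycle) (hxz : x * z = z * x) :
    ∃ i : ℕ, ∀ a ∈ z.support, x a = (z ^ i) a := by
  obtain ⟨a, ha, ha'⟩ := hz
  have hc : ∀ b, x (z b) = z (x b) := fun b => congrArg (fun g : Equiv.Perm α => g b) hxz
  have hxa : z (x a) ≠ x a := by
    rw [← hc]
    exact fun h => ha (x.injective h)
  obtain ⟨i, hi⟩ := IsCycle.exists_pow_eq ⟨a, ha, ha'⟩ ha hxa
  refine ⟨i, fun b hb => ?_⟩
  rw [mem_support] at hb
  obtain ⟨j, rfl⟩ := IsCycle.exists_pow_eq ⟨a, ha, ha'⟩ ha hb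
  have h1 : ∀ j : ℕ, x ((z ^ j) a) = (z ^ j) (x a) := by
    intro j
    have : Commute x (z ^ j) := Commute.pow_right hxz j
    exact congrArg (fun g : Equiv.Perm α => g a) this
  rw [h1, ← hi, ← Equiv.Perm.mul_apply, ← Equiv.Perm.mul_apply, ← pow_add, ← pow_add, add_comm]

/-- a permutation of prime order commuting with a long cycle -/
theorem card_support {p : ℕ} (hp : p.Prime) (hp2 : Fintype.card α < 2 * p) (hpn : p + 2 ≤ Fintype.card α)
    {x z : Equiv.Perm α} (hz : orderOf z = p) (hx : (orderOf x).Prime) (hxz : x * z = z * x) :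
    2 ≤ x.support.card ∧ x.support.card + 2 ≤ Fintype.card α := by
  have hzc : z.IsCycle := isCycle_of_prime_order' (hz ▸ hp) (by rw [hz]; exact hp2)
  have hx1 : x ≠ 1 := by
    rintro rfl
    rw [orderOf_one] at hx
    exact Nat.not_prime_one hx
  refine ⟨two_le_card_support_of_ne_one hx1, ?_⟩
  obtain ⟨i, hi⟩ := exists_pow hzc hxz
  have hzs : z.support.card = p := by rw [← hzc.orderOf, hz]
  by_cases h : ∀ a ∈ z.support, x a = a
  · have h1 : x.support ⊆ (z.support)ᶜ := by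
      intro a ha
      rw [Finset.mem_compl]
      exact fun h2 => (mem_support.mp ha) (h a h2)
    have h2 := Finset.card_le_card h1
    rw [Finset.card_compl, hzs] at h2
    have := hp.two_le
    omega
  · push Not at h
    obtain ⟨a, ha, hxa⟩ := h
    have h1 : orderOf x = p := by
      by_contra hne
      have h2 : ∀ k : ℕ, (x ^ k) a = (z ^ (i * k)) a := by
        intro k
        induction k with
        | zero => simp
        | succ k ih =>
          rw [pow_succ', Equiv.Perm.mul_apply, ih, hi, ← Equiv.Perm.mul_apply, ← pow_add]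
          · congr 2; ring
          · rw [mem_support] at ha ⊢
            intro h3
            apply ha
            have h4 : z * z ^ (i * k) = z ^ (i * k) * z := (Commute.self_pow z _).eq
            have h5 : (z * z ^ (i * k)) a = (z ^ (i * k) * z) a := by rw [h4]
            rw [Equiv.Perm.mul_apply, h3, Equiv.Perm.mul_apply] at h5
            exact ((z ^ (i * k)).injective h5).symm
      have h3 := h2 (orderOf x)
      rw [pow_orderOf_eq_one, Equiv.Perm.one_apply] at h3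
      have h4 : z ^ (i * orderOf x) = 1 := hzc.pow_eq_one_iff.mpr ⟨a, mem_support.mp ha, h3.symm⟩
      have h5 : p ∣ i * orderOf x := hz ▸ orderOf_dvd_of_pow_eq_one h4
      rcases (hp.dvd_mul).mp h5 with h6 | h6
      · apply hxa
        rw [hi a ha]
        obtain ⟨k, rfl⟩ := h6
        rw [pow_mul, ← hz, pow_orderOf_eq_one, one_pow, Equiv.Perm.one_apply]
      · exact hne ((Nat.prime_dvd_prime_iff_eq hp hx).mp h6).symm
    have hxc : x.IsCycle := isCycle_of_prime_order' hx (by rw [h1]; exact hp2)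
    rw [← hxc.orderOf, h1]
    exact hpn

end

/-- **Task 210.** -/
theorem noCop_alt (n : ℕ) (hn : 5 ≤ n) : NoCop (alternatingGroup (Fin n)) := by
  have hcard : Fintype.card (Fin n) = n := Fintype.card_fin n
  have : Nontrivial (Fin n) := Fin.nontrivial_iff_two_le.mpr (by omega)
  have hs : IsSimpleGroup (alternatingGroup (Fin n)) :=
    alternatingGroup.isSimpleGroup (by rw [Nat.card_fin]; exact hn)
  have hna : ¬ IsMulCommutative (alternatingGroup (Fin n)) := by
    intro hc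
    have h1 : Subgroup.center (alternatingGroup (Fin n)) = ⊤ :=
      eq_top_iff.mpr fun a _ => Subgroup.mem_center_iff.mpr fun b => hc.1.1 b a
    rw [alternatingGroup.center_eq_bot (by rw [Nat.card_fin]; omega)] at h1
    exact bot_ne_top h1
  obtain ⟨p, hp, hp1, hp2⟩ := Nat.exists_prime_lt_and_le_two_mul (n / 2) (by omega)
  have hpo : p % 2 = 1 := by
    rcases hp.eq_two_or_odd with h | h
    · omega
    · exact h
  have : Fact p.Prime := ⟨hp⟩
  have hpG : p ∣ Nat.card (alternatingGroup (Fin n)) := by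
    have h1 : p ∣ 2 * Nat.card (alternatingGroup (Fin n)) := by
      rw [two_mul_nat_card_alternatingGroup, Nat.card_perm, Nat.card_fin]
      exact (hp.dvd_factorial).mpr (by omega)
    rcases (hp.dvd_mul).mp h1 with h2 | h2
    · have := (Nat.prime_dvd_prime_iff_eq hp Nat.prime_two).mp h2
      omega
    · exact h2
  obtain ⟨z, hz⟩ := exists_prime_orderOf_dvd_card' p hpG
  have hz' : orderOf (z : Equiv.Perm (Fin n)) = p := by rw [Subgroup.orderOf_coe, hz]
  by_cases hpn : p + 2 ≤ n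
  · refine noCop_of_char hna hp (Subgroup.zpowers z) (IsPGroup.of_card (n := 1) (by
      rw [pow_one, Nat.card_zpowers, hz])) ?_
    intro x y hx hy hxy hcop hpx hU
    have hxz : (x : Equiv.Perm (Fin n)) * z = z * x :=
      congrArg Subtype.val (hU z (Subgroup.mem_zpowers z)).symm
    have hy1 : (y : Equiv.Perm (Fin n)) ≠ 1 := by
      intro h
      rw [← Subgroup.orderOf_coe, h, orderOf_one] at hy
      exact Nat.not_prime_one hy
    obtain ⟨h2, h3⟩ := card_support hp (by rw [hcard]; omega) (by rw [hcard]; exact hpn) hz'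
      (x := (x : Equiv.Perm (Fin n))) (by rwa [Subgroup.orderOf_coe]) hxz
    refine exists_ne hy1 (by rw [hcard]; exact hn) h2 h3 ?_
    -- all subsets of this size are conjugate under `C(y)`
    have key : ∀ T : Finset (Fin n), T.card = (x : Equiv.Perm (Fin n)).support.card →
        arr (y : Equiv.Perm (Fin n)) T = arr (y : Equiv.Perm (Fin n)) (x : Equiv.Perm (Fin n)).support := by
      intro T hT
      obtain ⟨g, hg⟩ := exists_map h3 rfl hT
      obtain ⟨c, hc1, hc2⟩ := exists_conj hcop g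
      have h4 : (g : Equiv.Perm (Fin n)) * x * (g : Equiv.Perm (Fin n))⁻¹ = c * x * (c : Equiv.Perm (Fin n))⁻¹ :=
        congrArg Subtype.val hc2
      have h5 := congrArg Equiv.Perm.support h4
      rw [support_conj, support_conj] at h5
      rw [← hg, h5]
      exact arr_map _ _ (congrArg Subtype.val hc1) _
    intro T T' hT hT'
    rw [key T hT, key T' hT']
  · -- `n = p` or `n = p + 1`
    refine noCop_of_self hna (z := z) (by rw [hz]; exact hp) ?_
    have hzc : (z : Equiv.Perm (Fin n)).IsCycle := isCycle_of_prime_order' (hz'.symm ▸ hp) (by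
      rw [hz', hcard]; omega)
    have hzs : (z : Equiv.Perm (Fin n)).support.card = p := by rw [← hzc.orderOf, hz']
    have h1 : Subgroup.centralizer ({z} : Set (alternatingGroup (Fin n))) = Subgroup.zpowers z := by
      apply le_antisymm
      · intro w hw
        have hwz : (w : Equiv.Perm (Fin n)) * z = z * w := congrArg Subtype.val (mem_cent.mp hw)
        obtain ⟨i, hi⟩ := exists_pow hzc hwz
        refine ⟨i, ?_⟩
        change z ^ (i : ℤ) = w
        rw [zpow_natCast]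
        apply Subtype.ext
        apply Equiv.ext
        intro a
        change ((z : Equiv.Perm (Fin n)) ^ i) a = (w : Equiv.Perm (Fin n)) a
        by_cases ha : a ∈ (z : Equiv.Perm (Fin n)).support
        · exact (hi a ha).symm
        · have ha' : (z : Equiv.Perm (Fin n)) a = a := notMem_support.mp ha
          have h2 : (z : Equiv.Perm (Fin n)) ((w : Equiv.Perm (Fin n)) a) = (w : Equiv.Perm (Fin n)) a := by
            have := congrArg (fun g : Equiv.Perm (Fin n) => g a) hwz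
            simp only [Equiv.Perm.mul_apply, ha'] at this
            exact this.symm
          have h3 : (w : Equiv.Perm (Fin n)) a ∉ (z : Equiv.Perm (Fin n)).support := notMem_support.mpr h2
          have h4 : ((z : Equiv.Perm (Fin n)).support)ᶜ.card ≤ 1 := by
            rw [Finset.card_compl, hzs, hcard]; omega
          rw [Equiv.Perm.pow_apply_eq_self_of_apply_eq_self ha']
          exact Finset.card_le_one.mp h4 _ (Finset.mem_compl.mpr ha) _ (Finset.mem_compl.mpr h3)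
      · rw [Subgroup.zpowers_le, mem_cent]
    rw [h1, Nat.card_zpowers]

end Cfsg.Agent.H743.NoCopAlt
end

-- part: H743/NoCopPsl
section
/-!
# Class sizes of `PSL(2,q)` are not coprime (for helper530, S4158)
-/

set_option autoImplicit false

namespace Cfsg.Agent.H743.NoCopPsl

open Matrix Cfsg.Agent.ClassicalGeometry Cfsg.Agent.H530.Cop Cfsg.Agent.H260.Psl
open Cfsg.Agent.LieClassical.SLTwoUnipotent

variable {F : Type*} [Field F] [Fintype F]

/-- The centralizer of a root element. -/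
theorem cent_u {b : F} (hb : b ≠ 0) {x : ProjectiveSpecialLinearGroup (Fin 2) F}
    (h : x * pr F (u b) = pr F (u b) * x) : ∃ a : F, pr F (u a) = x := by
  obtain ⟨g, rfl⟩ := pr_surj x
  have h1 : PSL2Klein.mk (g * u b) = PSL2Klein.mk (u b * g) := h
  have hdet : (g : Matrix (Fin 2) (Fin 2) F) 0 0 * (g : Matrix (Fin 2) (Fin 2) F) 1 1 -
      (g : Matrix (Fin 2) (Fin 2) F) 0 1 * (g : Matrix (Fin 2) (Fin 2) F) 1 0 = 1 := by
    rw [← Matrix.det_fin_two]; exact g.2
  -- it is enough to show that `c = 0`, `a = d`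
  have key : (g : Matrix (Fin 2) (Fin 2) F) 1 0 = 0 →
      (g : Matrix (Fin 2) (Fin 2) F) 0 0 = (g : Matrix (Fin 2) (Fin 2) F) 1 1 → ∃ a : F, pr F (u a) = pr F g := by
    intro hc had
    rw [hc, mul_zero, sub_zero, had] at hdet
    have h2 : ((g : Matrix (Fin 2) (Fin 2) F) 1 1 - 1) * ((g : Matrix (Fin 2) (Fin 2) F) 1 1 + 1) = 0 := by
      linear_combination hdet
    rcases mul_eq_zero.mp h2 with h3 | h3
    · refine ⟨(g : Matrix (Fin 2) (Fin 2) F) 0 1, ?_⟩
      have : u ((g : Matrix (Fin 2) (Fin 2) F) 0 1) = g := by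
        apply ext_coe
        rw [coe_u]
        ext i j
        (revert i j; simp only [hc, had, sub_eq_zero.mp h3, _root_.Fin.forall_fin_succ, Fin.isValue, _root_.Matrix.of_apply, _root_.Matrix.cons_val', _root_.Matrix.cons_val_fin_one, _root_.Matrix.cons_val_zero, _root_.Matrix.cons_val_succ, _root_.Fin.succ_zero_eq_one, _root_.IsEmpty.forall_iff, _root_.and_true, _root_.and_self])
      rw [this]
    · refine ⟨-(g : Matrix (Fin 2) (Fin 2) F) 0 1, ?_⟩
      have : u (-(g : Matrix (Fin 2) (Fin 2) F) 0 1) = -g := by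
        apply ext_coe
        rw [coe_u]
        ext i j
        (revert i j; simp only [hc, had, eq_neg_of_add_eq_zero_left h3, _root_.Fin.forall_fin_succ, Fin.isValue, _root_.Matrix.of_apply, _root_.Matrix.cons_val', _root_.Matrix.cons_val_fin_one, _root_.Matrix.SpecialLinearGroup.coe_neg, _root_.Matrix.neg_apply, _root_.Matrix.cons_val_zero, _root_.Matrix.cons_val_succ, _root_.Fin.succ_zero_eq_one, _root_.IsEmpty.forall_iff, _root_.and_true, _root_.neg_neg, _root_.and_self, _root_.zero_eq_neg])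
      rw [this]
      exact PSL2Klein.mk_neg g
  rcases PSL2Klein.mk_eq_mk.mp h1 with h2 | h2
  · have h3 := congrArg (fun A : _root_.Matrix.SpecialLinearGroup (Fin 2) F => (A : Matrix (Fin 2) (Fin 2) F)) h2
    simp only [Cfsg.Agent.LieClassical.SLTwoUnipotent.coe_mul, coe_u] at h3
    have e0 := congrFun (congrFun h3 0) 0
    have e1 := congrFun (congrFun h3 0) 1
    simp only [Matrix.mul_apply, Fin.sum_univ_two, _root_.Fin.isValue, _root_.Matrix.of_apply, _root_.Matrix.cons_val', _root_.Matrix.cons_val_zero, _root_.Matrix.cons_val_fin_one, _root_.mul_one, _root_.Matrix.cons_val_one, _root_.MulZeroClass.mul_zero, _root_.add_zero, _root_.one_mul, _root_.left_eq_add, _root_.mul_eq_zero] at e0 e1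
    refine key ?_ ?_
    · rcases e0 with h4 | h4
      · exact absurd h4 hb
      · exact h4
    · apply mul_right_cancel₀ hb
      linear_combination e1
  · have h3 := congrArg (fun A : _root_.Matrix.SpecialLinearGroup (Fin 2) F => (A : Matrix (Fin 2) (Fin 2) F)) h2
    simp only [Cfsg.Agent.LieClassical.SLTwoUnipotent.coe_mul, coe_u, SpecialLinearGroup.coe_neg] at h3
    have e0 := congrFun (congrFun h3 0) 0
    have e1 := congrFun (congrFun h3 0) 1
    have e2 := congrFun (congrFun h3 1) 0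
    have e3 := congrFun (congrFun h3 1) 1
    simp only [Matrix.mul_apply, Fin.sum_univ_two, Matrix.vecMul, dotProduct, _root_.Fin.isValue, _root_.Matrix.of_apply, _root_.Matrix.cons_val', _root_.Matrix.cons_val_zero, _root_.Matrix.cons_val_fin_one, _root_.mul_one, _root_.Matrix.cons_val_one, _root_.MulZeroClass.mul_zero, _root_.add_zero, _root_.Matrix.cons_mul, _root_.Nat.succ_eq_add_one, _root_.Nat.reduceAdd, _root_.Matrix.empty_mul, _root_.Equiv.symm_apply_apply, _root_.Matrix.neg_apply, _root_.one_mul, _root_.MulZeroClass.zero_mul, _root_.zero_add, _root_.neg_add_rev] at e0 e1 e2 e3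
    by_cases h2 : (2 : F) = 0
    · have hc : (g : Matrix (Fin 2) (Fin 2) F) 1 0 = 0 := by
        have h4 : b * (g : Matrix (Fin 2) (Fin 2) F) 1 0 = 0 := by
          linear_combination e0 - (g : Matrix (Fin 2) (Fin 2) F) 0 0 * h2
        exact (mul_eq_zero.mp h4).resolve_left hb
      refine key hc ?_
      apply mul_left_cancel₀ hb
      linear_combination e1 - ((g : Matrix (Fin 2) (Fin 2) F) 0 1 + b * (g : Matrix (Fin 2) (Fin 2) F) 1 1) * h2
    · exfalso
      have hc : (g : Matrix (Fin 2) (Fin 2) F) 1 0 = 0 := by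
        have h4 : 2 * (g : Matrix (Fin 2) (Fin 2) F) 1 0 = 0 := by linear_combination e2
        exact (mul_eq_zero.mp h4).resolve_left h2
      have ha : (g : Matrix (Fin 2) (Fin 2) F) 0 0 = 0 := by
        have h4 : 2 * (g : Matrix (Fin 2) (Fin 2) F) 0 0 = 0 := by linear_combination e0 - b * hc
        exact (mul_eq_zero.mp h4).resolve_left h2
      rw [ha, hc, zero_mul, mul_zero, sub_zero] at hdet
      exact zero_ne_one hdet

/-- **Task 211.** -/
theorem noCop_psl2 (F : Type) [Field F] [Fintype F] (h : 4 ≤ Fintype.card F) :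
    NoCop (Matrix.ProjectiveSpecialLinearGroup (Fin 2) F) := by
  obtain ⟨p, hchar⟩ := CharP.exists F
  have hp : Fact p.Prime := ⟨CharP.char_is_prime F p⟩
  have hs : IsSimpleGroup (Matrix.ProjectiveSpecialLinearGroup (Fin 2) F) :=
    TwoFusion.SLTwoFacts.isSimpleGroup_psl (F := F) (by omega)
  have hna : ¬ IsMulCommutative (Matrix.ProjectiveSpecialLinearGroup (Fin 2) F) := by
    intro hc
    apply PSL2Solvable.not_isSolvable_psl F h
    exact Group.isSolvable_of_comm (fun a b => hc.1.1 a b)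
  refine noCop_of_char hna hp.out (P₀ F p : Subgroup _) (P₀ F p).2 ?_
  intro x y hx hy hxy hcop hpx hU
  have h1 : x * pr F (u (1 : F)) = pr F (u 1) * x := (hU _ ((mem_P₀ p _).mpr ⟨1, rfl⟩)).symm
  obtain ⟨a, rfl⟩ := cent_u one_ne_zero h1
  have ha : a ≠ 0 := by
    rintro rfl
    rw [u_zero, map_one, orderOf_one] at hx
    exact Nat.not_prime_one hx
  -- the centralizer is `P₀`
  have hC : Subgroup.centralizer ({pr F (u a)} : Set (Matrix.ProjectiveSpecialLinearGroup (Fin 2) F)) =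
      (P₀ F p : Subgroup _) := by
    apply le_antisymm
    · intro z hz
      rw [Subgroup.mem_centralizer_singleton_iff] at hz
      exact (mem_P₀ p _).mpr (cent_u ha hz)
    · intro z hz
      rw [Subgroup.mem_centralizer_singleton_iff]
      exact hU z hz
  have hcard := ci_mul_card (pr F (u a))
  obtain ⟨n, hn⟩ := IsPGroup.iff_card.mp (P₀ F p).2
  rw [hC, hn] at hcard
  have hy1 : y ≠ 1 := by
    rintro rfl
    rw [orderOf_one] at hy
    exact Nat.not_prime_one hy
  have h2 : ci y ∣ p ^ n := by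
    have h3 := ci_dvd_card y
    rw [← hcard] at h3
    exact hcop.symm.dvd_of_dvd_mul_left h3
  obtain ⟨k, -, hk⟩ := (Nat.dvd_prime_pow hp.out).mp h2
  exact ne_prime_pow hna hy1 hp.out hk

end Cfsg.Agent.H743.NoCopPsl
end

-- part: H931/CopPsu
section
/-!
# Coprime class sizes in `PSU_n(q)`: transitivity of `C(y)` on isotropic points (tasks 213, 214; for S4158)

* `form_of_comm` : `z ∈ SU` centralizing the Siegel group of the isotropic vector `e` is `w ↦ a w + b h(w,e) e`.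
* `trans` : if `x`, `y ∈ PSU` have coprime class sizes, `p ∤ |x^G|` and `Y` is a lift of `y` then elements of `SU`
  commuting with `Y` up to scalars are transitive on the isotropic points.
* `noCop_of_exists` : `NoCop (PSU n F q)` if every `Y` has an isotropic `v ≠ 0` with `h(v, Y v) = 0`.
-/

set_option autoImplicit false
set_option linter.unusedSectionVars false

namespace Cfsg.Agent.H931.CopPsu

open Matrix Subgroup Cfsg Cfsg.Agent.H530.Cop Cfsg.Agent.H530.LinTools
open Cfsg.Agent.LieClassical.HermBasic Cfsg.Agent.LieClassical.HermSiegel Cfsg.Agent.LieClassical.HermSimple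
open Cfsg.Agent.ClassicalGeometry.PSUAutBasic Cfsg.Agent.LieClassical.SUBasic

variable {F : Type} [Field F] [Fintype F] {n q : ℕ}

/-- expansion with respect to a hyperbolic pair -/
theorem eq_of_perp (hF : Fintype.card F = q ^ 2) {e f : Fin n → F} (hfe : hermForm n F q f e = 1)
    {x : Fin n → F}
    (h : ∀ y, hermForm n F q y e = 0 → hermForm n F q x y = 0) : x = hermForm n F q x f • e := by
  rw [← sub_eq_zero]
  apply herm_nondeg hF
  intro v
  have h1 := h (v - hermForm n F q v e • f) (by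
    rw [herm_sub_left, herm_smul_left, hfe, mul_one, sub_self])
  rw [herm_sub_right hF, herm_smul_right] at h1
  have h2 : hermForm n F q e v = hermForm n F q v e ^ q := herm_swap hF v e
  rw [herm_sub_left, herm_smul_left, h2]
  linear_combination h1

/-- the centralizer of the Siegel group -/
theorem form_of_comm (hF : Fintype.card F = q ^ 2) {e : Fin n → F} (he0 : e ≠ 0)
    (he : hermForm n F q e e = 0) {z : SU n F q} (hz : ∀ u ∈ siegG hF e he, u * z = z * u) :
    ∃ a b : F, ∀ w, act z w = a • w + (b * hermForm n F q w e) • e := by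
  obtain ⟨i, hi⟩ := Function.ne_iff.1 he0
  have hi' : e i ≠ 0 := hi
  have hcan : ∀ s t : F, s • e = t • e → s = t := by
    intro s t h
    have := congrFun h i
    rw [Pi.smul_apply, Pi.smul_apply, smul_eq_mul, smul_eq_mul] at this
    exact mul_right_cancel₀ hi' this
  obtain ⟨f, hf, hef⟩ := exists_partner hF he0 he
  have hfe : hermForm n F q f e = 1 := by rw [herm_swap hF e f, hef, one_pow]
  obtain ⟨κ, hκ0, hκ⟩ := exists_trace_zero_ne hF
  -- transvections
  have h1 : ∀ w, hermForm n F q (act z w) e • e = hermForm n F q w e • act z e := by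
    intro w
    have h := hz (siegel hF e 0 κ (isSiegel_zero he hκ)) (mem_siegG.2 ⟨0, κ, isSiegel_zero he hκ, rfl⟩)
    have h2 := congrArg (fun g => act g w) h
    simp only [act_mul] at h2
    rw [act_siegel, act_siegel, act_add, act_add, act_smul, act_smul] at h2
    simp only [smul_zero, add_zero, act_zero, herm_zero_right hF, sub_zero] at h2
    have h3 := add_left_cancel h2
    rw [mul_smul, mul_smul] at h3
    exact smul_right_injective _ hκ0 h3
  set a := hermForm n F q (act z f) e with ha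
  have hze : act z e = a • e := by
    have := h1 f
    rw [hfe, one_smul] at this
    exact this.symm
  have h2 : ∀ w, hermForm n F q (act z w) e = a * hermForm n F q w e := by
    intro w
    have := h1 w
    rw [hze, smul_smul] at this
    rw [hcan _ _ this, mul_comm]
  -- Siegel transformations
  have h3 : ∀ y, hermForm n F q y e = 0 → ∀ w, hermForm n F q w e • (act z y - a • y) =
      (a * hermForm n F q w y - hermForm n F q (act z w) y) • e := by
    intro y hy w
    obtain ⟨μ, hμ⟩ := exists_trace_eq hF (c := -hermForm n F q y y) (by rw [neg_pow_q hF, herm_self_pow hF])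
    have hS : IsSiegel q e y μ := ⟨he, hy, by rw [hμ, neg_add_cancel]⟩
    have h := hz (siegel hF e y μ hS) (mem_siegG.2 ⟨y, μ, hS, rfl⟩)
    have h4 := congrArg (fun g => act g w) h
    simp only [act_mul] at h4
    rw [act_siegel, act_siegel, act_add, act_add, act_smul, act_smul, hze, h2 w] at h4
    rw [add_assoc, add_assoc] at h4
    have h5 := add_left_cancel h4
    have h6 : hermForm n F q w e • (act z y - a • y) - (a * hermForm n F q w y - hermForm n F q (act z w) y) • e =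
        (hermForm n F q w e • act z y + (μ * hermForm n F q w e - hermForm n F q w y) • a • e) -
        ((a * hermForm n F q w e) • y + (μ * (a * hermForm n F q w e) - hermForm n F q (act z w) y) • e) := by
      module
    rw [← sub_eq_zero, h6, ← h5, sub_self]
  obtain ⟨lam, hlam⟩ := exists_not_fixed hF
  have h4 : ∀ y, hermForm n F q y e = 0 → act z y = a • y := by
    intro y hy
    have e1 := h3 y hy f
    have e2 := h3 (lam • y) (by rw [herm_smul_left, hy, mul_zero]) f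
    rw [hfe, one_smul] at e1 e2
    rw [act_smul, herm_smul_right, herm_smul_right] at e2
    have e3 : act z y = a • y + (a * hermForm n F q f y - hermForm n F q (act z f) y) • e := by
      rw [← e1]; abel
    set m := a * hermForm n F q f y - hermForm n F q (act z f) y with hm
    rw [e3] at e2
    have e4 : (lam * m) • e = (lam ^ q * m) • e := by
      calc (lam * m) • e = lam • (a • y + m • e) - a • lam • y := by module
        _ = (a * (lam ^ q * hermForm n F q f y) - lam ^ q * hermForm n F q (act z f) y) • e := e2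
        _ = _ := by rw [hm]; module
    have e5 := hcan _ _ e4
    have e6 : (lam ^ q - lam) * m = 0 := by linear_combination -e5
    have e7 : m = 0 := (mul_eq_zero.1 e6).resolve_left (sub_ne_zero.2 hlam)
    rw [e3, e7, zero_smul, add_zero]
  have h5 : ∀ y, hermForm n F q y e = 0 → ∀ w, hermForm n F q (act z w) y = a * hermForm n F q w y := by
    intro y hy w
    have e1 := h3 y hy w
    rw [h4 y hy, sub_self, smul_zero] at e1
    have e2 : (a * hermForm n F q w y - hermForm n F q (act z w) y) = 0 := by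
      apply hcan
      rw [← e1, zero_smul]
    linear_combination -e2
  have h6 : act z f - a • f = hermForm n F q (act z f - a • f) f • e := by
    apply eq_of_perp hF hfe
    intro y hy
    rw [herm_sub_left, herm_smul_left, h5 y hy, sub_self]
  refine ⟨a, hermForm n F q (act z f - a • f) f, fun w => ?_⟩
  have h7 := h4 (w - hermForm n F q w e • f) (by rw [herm_sub_left, herm_smul_left, hfe, mul_one, sub_self])
  rw [act_sub, act_smul] at h7
  have h8 : act z f = a • f + hermForm n F q (act z f - a • f) f • e := by rw [← h6]; abel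
  have h9 : act z w = a • (w - hermForm n F q w e • f) + hermForm n F q w e • act z f := by rw [← h7]; abel
  rw [h9]
  nth_rewrite 1 [h8]
  module

/-- a common orthogonal vector -/
theorem exists_perp (hn : 3 ≤ n) (u v : Fin n → F) :
    ∃ w : Fin n → F, w ≠ 0 ∧ hermForm n F q w u = 0 ∧ hermForm n F q w v = 0 := by
  obtain ⟨w, hw, h1, h2⟩ := exists_ne_of_card (ι := Fin n) (by rwa [Fintype.card_fin]) (fun i => u i ^ q)
    (fun i => v i ^ q)
  exact ⟨w, hw, h1, h2⟩

/-- **transitivity on isotropic points** -/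
theorem trans (hF : Fintype.card F = q ^ 2) (hn : 3 ≤ n) {p : ℕ} [Fact p.Prime] [CharP F p] {x y : PSU n F q}
    (hx1 : x ≠ 1) (hc : (ci x).Coprime (ci y)) (hpx : ¬ p ∣ ci x) {Y : SU n F q} (hY : pr n F q Y = y)
    {v v' : Fin n → F} (hv0 : v ≠ 0) (hv : hermForm n F q v v = 0) (hv0' : v' ≠ 0)
    (hv' : hermForm n F q v' v' = 0) :
    ∃ (C : SU n F q) (s r : F), s ≠ 0 ∧ r ^ n = 1 ∧ r ^ (q + 1) = 1 ∧ act C v = s • v' ∧
      ∀ w, act C (act Y w) = r • act Y (act C w) := by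
  have hpp : p.Prime := Fact.out
  let O := {o : Fin n → F // o ≠ 0 ∧ hermForm n F q o o = 0}
  let V : O → Subgroup (PSU n F q) := fun o => (siegG hF o.1 o.2.2).map (pr n F q)
  have hV : ∀ o, IsPGroup p (V o) := fun o => (isPGroup_siegG hF p o.2.2).map _
  have hZ : ∀ z ∈ center (SU n F q), ∀ k : ℕ, z ^ p ^ k = 1 → z = 1 :=
    fun z hz k hk => eq_one_of_center_of_pow hF hn hz hk
  have form : ∀ (o : O) (z : SU n F q), (∀ u ∈ V o, u * (pr n F q z) = pr n F q z * u) →
      pr n F q z ≠ 1 → ∃ a b : F, b ≠ 0 ∧ ∀ w, act z w = a • w + (b * hermForm n F q w o.1) • o.1 := by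
    intro o z hz hz1
    obtain ⟨a, b, hab⟩ := form_of_comm hF (z := z) o.2.1 o.2.2 (by
      intro u hu
      obtain ⟨w, μ, h, rfl⟩ := mem_siegG.1 hu
      obtain ⟨k, hk⟩ := siegel_pow_prime_pow hF p h
      refine comm_of_comm hZ hk ?_
      exact hz _ (mem_map_of_mem _ hu))
    refine ⟨a, b, ?_, hab⟩
    rintro rfl
    apply hz1
    rw [pr_eq_one_iff]
    exact mem_center_of_act (c := a) fun v => by rw [hab, zero_mul, zero_smul, add_zero]
  obtain ⟨z, c, hcy, ⟨g, hzg⟩, hz, hz'⟩ := exists_pair hpp hc hpx V hV ⟨v, hv0, hv⟩ ⟨v', hv0', hv'⟩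
  obtain ⟨Z, rfl⟩ := pr_surjective z
  obtain ⟨C, rfl⟩ := pr_surjective c
  have hz1 : pr n F q Z ≠ 1 := by
    rw [hzg]
    intro h
    apply hx1
    have : x = g⁻¹ * (g * x * g⁻¹) * g := by group
    rw [this, h]; group
  have hz1' : pr n F q (C * Z * C⁻¹) ≠ 1 := by
    intro h
    apply hz1
    rw [map_mul, map_mul, map_inv, mul_inv_eq_one] at h
    exact mul_eq_left.1 h
  obtain ⟨a, b, hb, hab⟩ := form _ Z hz hz1
  obtain ⟨a', b', hb', hab'⟩ := form _ (C * Z * C⁻¹) (by
    intro u hu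
    rw [map_mul, map_mul, map_inv]
    exact hz' u hu) hz1'
  change ∀ w, act Z w = a • w + (b * hermForm n F q w v) • v at hab
  change ∀ w, act (C * Z * C⁻¹) w = a' • w + (b' * hermForm n F q w v') • v' at hab'
  have e1 : ∀ w, a • act C w + (b * hermForm n F q w v) • act C v =
      a' • act C w + (b' * hermForm n F q (act C w) v') • v' := by
    intro w
    rw [← hab', ← act_mul, inv_mul_cancel_right, act_mul, hab, act_add, act_smul, act_smul]
  have haa : a = a' := by
    obtain ⟨w, hw0, hw1, hw2⟩ := exists_perp (q := q) hn v (act C⁻¹ v')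
    have h1 := e1 w
    rw [herm_act_left C w v', hw1, hw2, mul_zero, mul_zero, zero_smul, zero_smul, add_zero, add_zero] at h1
    by_contra hne
    have h2 : (a - a') • act C w = 0 := by rw [sub_smul, h1, sub_self]
    rw [smul_eq_zero, sub_eq_zero] at h2
    exact hw0 ((act_eq_zero C).1 (h2.resolve_left hne))
  have e2 : ∀ w, (b * hermForm n F q w v) • act C v = (b' * hermForm n F q (act C w) v') • v' := by
    intro w
    have := e1 w
    rw [haa] at this
    exact add_left_cancel this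
  obtain ⟨f, hf, hvf⟩ := exists_partner hF hv0 hv
  have hfv : hermForm n F q f v = 1 := by rw [herm_swap hF v f, hvf, one_pow]
  obtain ⟨s, hs⟩ : ∃ s : F, act C v = s • v' := by
    have h1 := congrArg (fun t => b⁻¹ • t) (e2 f)
    simp only [hfv, mul_one, smul_smul] at h1
    rw [inv_mul_cancel₀ hb, one_smul] at h1
    exact ⟨_, h1⟩
  have hs0 : s ≠ 0 := by
    rintro rfl
    rw [zero_smul, act_eq_zero] at hs
    exact hv0 hs
  subst hY
  obtain ⟨ζ, hζ, hζ'⟩ := exists_zeta (K := SU n F q) (a := C) (b := Y) hcy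
  obtain ⟨r, hrn, hrq, rfl⟩ := (mem_center_SU_iff hF hn ζ).1 hζ
  refine ⟨C, s, r, hs0, hrn, hrq, hs, fun w => ?_⟩
  rw [← act_mul, hζ', act_mul, act_suScalar, act_mul]

/-- the value `h(v, Y v)` vanishes for all isotropic `v ≠ 0` or for none -/
theorem herm_eq_zero_of_trans {Y C : SU n F q} {s r : F} (hs : s ≠ 0)
    (hr : r ^ (q + 1) = 1) {v v' : Fin n → F} (h1 : act C v = s • v')
    (h2 : ∀ w, act C (act Y w) = r • act Y (act C w)) (h0 : hermForm n F q v (act Y v) = 0) :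
    hermForm n F q v' (act Y v') = 0 := by
  have hr0 : r ≠ 0 := by
    rintro rfl
    rw [zero_pow (by omega)] at hr
    exact zero_ne_one hr
  have h3 : hermForm n F q (act C v) (act C (act Y v)) = 0 := by rw [herm_act, h0]
  rw [h2, h1, act_smul, herm_smul_left, herm_smul_right, herm_smul_right] at h3
  have hsq : s ^ q ≠ 0 := pow_ne_zero _ hs
  have hrq : r ^ q ≠ 0 := pow_ne_zero _ hr0
  rcases mul_eq_zero.1 h3 with h | h
  · exact absurd h hs
  rcases mul_eq_zero.1 h with h | h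
  · exact absurd h hrq
  rcases mul_eq_zero.1 h with h | h
  · exact absurd h hsq
  · exact h

/-- **No two classes of coprime sizes**, if every `Y` has an isotropic `v ≠ 0` with `h(v, Y v) = 0`. -/
theorem noCop_of_exists (hF : Fintype.card F = q ^ 2) (hn : 3 ≤ n) (h32 : ¬ (n = 3 ∧ q = 2))
    (H : ∀ Y : SU n F q, ∃ v : Fin n → F, v ≠ 0 ∧ hermForm n F q v v = 0 ∧ hermForm n F q v (act Y v) = 0) :
    NoCop (PSU n F q) := by
  obtain ⟨p, hp⟩ := CharP.exists F
  have hpp : Fact p.Prime := ⟨CharP.char_is_prime F p⟩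
  have hfin : Finite (PSU n F q) := Quotient.finite _
  have hsimple : IsSimpleGroup (PSU n F q) :=
    isSimpleGroup_of_perfect hF hn (LieClassical.HermPerfect.commutator_SU_eq_top hF hn h32)
  have hna : ¬ IsMulCommutative (PSU n F q) := by
    intro hcomm
    have h1 : commutator (SU n F q) ≤ center (SU n F q) := by
      rw [commutator_def, Subgroup.commutator_le]
      intro g _ h _
      rw [← pr_eq_one_iff, commutatorElement_def, map_mul, map_mul, map_mul, map_inv, map_inv]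
      have := hcomm.is_comm.comm (pr n F q g) (pr n F q h)
      rw [this]
      group
    rw [LieClassical.HermPerfect.commutator_SU_eq_top hF hn h32, top_le_iff] at h1
    exact center_ne_top hF hn h1
  refine noCop_of_char hna hpp.out ⊥ IsPGroup.of_bot ?_
  intro x y hx hy _ hc hpx _
  have hx1 : x ≠ 1 := fun h => by rw [h, orderOf_one] at hx; exact Nat.not_prime_one hx
  have hy1 : y ≠ 1 := fun h => by rw [h, orderOf_one] at hy; exact Nat.not_prime_one hy
  obtain ⟨Y, hY⟩ := pr_surjective y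
  obtain ⟨v, hv0, hv, hvY⟩ := H Y
  have hall : ∀ u : Fin n → F, hermForm n F q u u = 0 → hermForm n F q u (act Y u) = 0 := by
    intro u hu
    by_cases hu0 : u = 0
    · rw [hu0, herm_zero_left]
    obtain ⟨C, s, r, hs, -, hr, h1, h2⟩ := trans hF hn hx1 hc hpx hY hv0 hv hu0 hu
    exact herm_eq_zero_of_trans hs hr h1 h2 hvY
  obtain ⟨d, hd⟩ := scalar_of_fix_iso hF hn (fix_of_orth hF hall)
  apply hy1
  rw [← hY, pr_eq_one_iff]
  exact mem_center_of_act hd

end Cfsg.Agent.H931.CopPsu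
end

-- part: H307/CopPsuMain
section
/-!
# No coprime class sizes in `PSU_n(q)`, `n ≥ 3` (for S4158)
-/

set_option autoImplicit false

namespace Cfsg.Agent.H307.CopPsuMain

open Matrix Subgroup Cfsg Cfsg.Agent.H530.Cop Cfsg.Agent.H307.HermCW Cfsg.Agent.H931.CopPsu
open Cfsg.Agent.LieClassical.HermBasic Cfsg.Agent.LieClassical.HermSiegel Cfsg.Agent.LieClassical.HermSimple
open Cfsg.Agent.ClassicalGeometry.PSUAutBasic Cfsg.Agent.LieClassical.SUBasic

variable {F : Type} [Field F] [Fintype F] {n q : ℕ}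

theorem herm_eq_qf (hF : Fintype.card F = q ^ 2) (Y : SU n F q) (v : Fin n → F) :
    hermForm n F q v (act Y v) = qf q (fun i j => mat Y i j ^ q) v := by
  unfold hermForm qf
  refine Finset.sum_congr rfl fun i _ => ?_
  rw [act_def, mulVec, dotProduct, HermCW.sum_pow_q hF, Finset.mul_sum]
  refine Finset.sum_congr rfl fun j _ => ?_
  ring

theorem qf_smul_pow (hF : Fintype.card F = q ^ 2) (a : F) (A : Fin n → Fin n → F) (v : Fin n → F) :
    a * qf q A v + (a * qf q A v) ^ q = qf q (fun i j => a * A i j + (a * A j i) ^ q) v := by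
  have h1 : (a * qf q A v) ^ q = qf q (fun i j => (a * A j i) ^ q) v := by
    have h2 : (a * qf q A v) ^ q = ∑ i, ∑ j, (a * A i j) ^ q * v i ^ q * v j := by
      unfold qf
      rw [Finset.mul_sum, HermCW.sum_pow_q hF]
      refine Finset.sum_congr rfl fun i _ => ?_
      rw [Finset.mul_sum, HermCW.sum_pow_q hF]
      refine Finset.sum_congr rfl fun j _ => ?_
      rw [mul_pow, mul_pow, mul_pow, mul_pow, HermCW.pow_q_q hF]
      ring
    rw [h2, Finset.sum_comm]
    unfold qf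
    refine Finset.sum_congr rfl fun i _ => Finset.sum_congr rfl fun j _ => by ring
  rw [h1]
  unfold qf
  rw [Finset.mul_sum, ← Finset.sum_add_distrib]
  refine Finset.sum_congr rfl fun i _ => ?_
  rw [Finset.mul_sum, ← Finset.sum_add_distrib]
  refine Finset.sum_congr rfl fun j _ => ?_
  ring

theorem exists_vec (hF : Fintype.card F = q ^ 2) {κ : Type*} [Fintype κ] (a : κ → F)
    (hk : Fintype.card κ + 1 < n) (Y : SU n F q) :
    ∃ v : Fin n → F, v ≠ 0 ∧ hermForm n F q v v = 0 ∧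
      ∀ k, a k * hermForm n F q v (act Y v) + (a k * hermForm n F q v (act Y v)) ^ q = 0 := by
  let M : Option κ → Fin n → Fin n → F := fun k => match k with
    | none => fun i j => if i = j then 1 else 0
    | some k => fun i j => a k * mat Y i j ^ q + (a k * mat Y j i ^ q) ^ q
  obtain ⟨v, hv, h⟩ := exists_common hF M (by
    rintro (_ | k) i j
    · change (if i = j then (1 : F) else 0) ^ q = if j = i then 1 else 0
      by_cases hij : i = j
      · rw [if_pos hij, if_pos hij.symm, one_pow]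
      · rw [if_neg hij, if_neg (Ne.symm hij), zero_pow (by have := HermCW.one_lt hF; omega)]
    · change (a k * mat Y i j ^ q + (a k * mat Y j i ^ q) ^ q) ^ q =
        a k * mat Y j i ^ q + (a k * mat Y i j ^ q) ^ q
      rw [HermCW.add_pow_q hF, HermCW.pow_q_q hF, add_comm]) (by
    rw [Fintype.card_option, Fintype.card_fin]; exact hk)
  refine ⟨v, hv, ?_, fun k => ?_⟩
  · have h1 := h none
    rw [← h1]
    unfold hermForm qf
    refine Finset.sum_congr rfl fun i _ => ?_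
    change v i * v i ^ q = ∑ j, (if i = j then (1 : F) else 0) * v i * v j ^ q
    rw [Finset.sum_eq_single i (fun j _ hj => by rw [if_neg (Ne.symm hj)]; ring)
      (fun h => absurd (Finset.mem_univ i) h), if_pos rfl, one_mul]
  · have h1 := h (some k)
    rw [herm_eq_qf hF, qf_smul_pow hF]
    exact h1

/-- `θ ^ (q - 1)` has order `q + 1` -/
theorem exists_theta (hF : Fintype.card F = q ^ 2) {k : ℕ} (hk : 0 < k) (hkq : k < q + 1) :
    ∃ θ : F, θ ≠ 0 ∧ (θ ^ (q - 1)) ^ k ≠ 1 := by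
  obtain ⟨γ, hγ⟩ := IsCyclic.exists_generator (α := Fˣ)
  have hq := HermCW.one_lt hF
  have hord : orderOf γ = (q - 1) * (q + 1) := by
    rw [orderOf_eq_card_of_forall_mem_zpowers hγ, Nat.card_units, Nat.card_eq_fintype_card, hF]
    obtain ⟨r, rfl⟩ : ∃ r, q = r + 1 := ⟨q - 1, by omega⟩
    rw [show (r + 1) ^ 2 = r * (r + 1 + 1) + 1 by ring]
    simp only [_root_.add_tsub_cancel_right]
  refine ⟨γ, γ.ne_zero, fun h => ?_⟩
  have h1 : (γ ^ (q - 1)) ^ k = 1 := by
    apply Units.ext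
    rw [Units.val_pow_eq_pow_val, Units.val_pow_eq_pow_val, h, Units.val_one]
  rw [← pow_mul] at h1
  have h2 := orderOf_dvd_of_pow_eq_one h1
  rw [hord] at h2
  have h3 := Nat.dvd_of_mul_dvd_mul_left (by omega) h2
  have := Nat.le_of_dvd hk h3
  omega

/-- the ratio -/
theorem pow_eq_of_trace {q : ℕ} (hq : 1 < q) {a B : F} (ha : a ≠ 0) (hB : B ≠ 0) (h : a * B + (a * B) ^ q = 0) :
    a ^ (q - 1) * B ^ (q - 1) = -1 := by
  have h1 : (a * B) ^ (q - 1) * (a * B) = (a * B) ^ q := by rw [← pow_succ, Nat.sub_add_cancel hq.le]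
  rw [← mul_pow]
  have h2 : (1 + (a * B) ^ (q - 1)) * (a * B) = 0 := by rw [add_mul, one_mul, h1, h]
  have h3 := (mul_eq_zero.1 h2).resolve_right (mul_ne_zero ha hB)
  linear_combination h3

theorem noCop_psu_four (hF : Fintype.card F = q ^ 2) (hn : 4 ≤ n) : NoCop (PSU n F q) := by
  refine noCop_of_exists hF (by omega) (by omega) fun Y => ?_
  obtain ⟨θ, hθ0, hθ⟩ := exists_theta hF (k := 1) one_pos (by have := HermCW.one_lt hF; omega)
  obtain ⟨v, hv0, hv, h⟩ := exists_vec hF (κ := Fin 2) ![1, θ] (by rw [Fintype.card_fin]; omega) Y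
  refine ⟨v, hv0, hv, ?_⟩
  by_contra hB
  have h1 := pow_eq_of_trace (HermCW.one_lt hF) one_ne_zero hB (h 0)
  have h2 := pow_eq_of_trace (HermCW.one_lt hF) hθ0 hB (h 1)
  rw [one_pow, one_mul] at h1
  rw [h1] at h2
  apply hθ
  rw [pow_one]
  linear_combination -h2

theorem noCop_psu_three (hF : Fintype.card F = q ^ 2) (hq : q ≠ 2) : NoCop (PSU 3 F q) := by
  have hq1 := HermCW.one_lt hF
  have hn : 3 ≤ 3 := le_rfl
  have h32 : ¬ (3 = 3 ∧ q = 2) := fun h => hq h.2
  obtain ⟨p, hp⟩ := CharP.exists F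
  have hpp : Fact p.Prime := ⟨CharP.char_is_prime F p⟩
  have hfin : Finite (PSU 3 F q) := Quotient.finite _
  have hsimple : IsSimpleGroup (PSU 3 F q) :=
    isSimpleGroup_of_perfect hF hn (LieClassical.HermPerfect.commutator_SU_eq_top hF hn h32)
  have hna : ¬ IsMulCommutative (PSU 3 F q) := by
    intro hcomm
    have h1 : commutator (SU 3 F q) ≤ center (SU 3 F q) := by
      rw [commutator_def, Subgroup.commutator_le]
      intro g _ h _
      rw [← pr_eq_one_iff, commutatorElement_def, map_mul, map_mul, map_mul, map_inv, map_inv]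
      have := hcomm.is_comm.comm (pr 3 F q g) (pr 3 F q h)
      rw [this]
      group
    rw [LieClassical.HermPerfect.commutator_SU_eq_top hF hn h32, top_le_iff] at h1
    exact center_ne_top hF hn h1
  refine noCop_of_char hna hpp.out ⊥ IsPGroup.of_bot ?_
  intro x y hx hy _ hc hpx _
  have hx1 : x ≠ 1 := fun h => by rw [h, orderOf_one] at hx; exact Nat.not_prime_one hx
  have hy1 : y ≠ 1 := fun h => by rw [h, orderOf_one] at hy; exact Nat.not_prime_one hy
  obtain ⟨Y, hY⟩ := pr_surjective y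
  -- no isotropic vector with `h(v, Y v) = 0`
  have hno : ∀ v : Fin 3 → F, v ≠ 0 → hermForm 3 F q v v = 0 → hermForm 3 F q v (act Y v) ≠ 0 := by
    intro v hv0 hv hvY
    have hall : ∀ u : Fin 3 → F, hermForm 3 F q u u = 0 → hermForm 3 F q u (act Y u) = 0 := by
      intro u hu
      by_cases hu0 : u = 0
      · rw [hu0, herm_zero_left]
      obtain ⟨C, s, r, hs, -, hr, h1, h2⟩ := _root_.Cfsg.Agent.H931.CopPsu.trans hF hn hx1 hc hpx hY hv0 hv hu0 hu
      exact herm_eq_zero_of_trans hs hr h1 h2 hvY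
    obtain ⟨d, hd⟩ := scalar_of_fix_iso hF hn (fix_of_orth hF hall)
    apply hy1
    rw [← hY, pr_eq_one_iff]
    exact mem_center_of_act hd
  -- the two vectors
  obtain ⟨θ, hθ0, hθ⟩ := exists_theta hF (k := 3) (by norm_num) (by omega)
  obtain ⟨v₁, hv₁, hi₁, h₁⟩ := exists_vec hF (κ := Fin 1) ![1] (by rw [Fintype.card_fin]; omega) Y
  obtain ⟨v₂, hv₂, hi₂, h₂⟩ := exists_vec hF (κ := Fin 1) ![θ] (by rw [Fintype.card_fin]; omega) Y
  have e₁ := pow_eq_of_trace hq1 one_ne_zero (hno v₁ hv₁ hi₁) (h₁ 0)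
  have e₂ := pow_eq_of_trace hq1 hθ0 (hno v₂ hv₂ hi₂) (h₂ 0)
  rw [one_pow, one_mul] at e₁
  obtain ⟨C, s, r, hs, hr3, hr, hC, hCY⟩ := _root_.Cfsg.Agent.H931.CopPsu.trans hF hn hx1 hc hpx hY hv₁ hi₁ hv₂ hi₂
  have h3 : hermForm 3 F q v₁ (act Y v₁) = s * (r ^ q * (s ^ q * hermForm 3 F q v₂ (act Y v₂))) := by
    rw [← herm_act C v₁ (act Y v₁), hCY, hC, act_smul, herm_smul_left, herm_smul_right, herm_smul_right]
  set B₁ := hermForm 3 F q v₁ (act Y v₁)
  set B₂ := hermForm 3 F q v₂ (act Y v₂)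
  -- `s ^ ((q + 1) (q - 1)) = 1`
  have hs1 : (s * s ^ q) ^ (q - 1) = 1 := by
    rw [← pow_succ', ← pow_mul]
    have h4 : (q + 1) * (q - 1) = Fintype.card F - 1 := by
      rw [hF]
      obtain ⟨t, rfl⟩ : ∃ t, q = t + 1 := ⟨q - 1, by omega⟩
      rw [show (t + 1) ^ 2 = (t + 1 + 1) * t + 1 by ring]
      simp only [_root_.add_tsub_cancel_right]
    rw [h4]
    exact FiniteField.pow_card_sub_one_eq_one s hs
  have h5 : B₁ ^ (q - 1) = (r ^ q) ^ (q - 1) * B₂ ^ (q - 1) := by
    rw [h3, show s * (r ^ q * (s ^ q * B₂)) = (s * s ^ q) * (r ^ q * B₂) by ring, mul_pow, hs1, one_mul, mul_pow]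
  rw [e₁] at h5
  have h6 : θ ^ (q - 1) = (r ^ q) ^ (q - 1) := by
    have h7 : B₂ ^ (q - 1) ≠ 0 := pow_ne_zero _ (hno v₂ hv₂ hi₂)
    apply mul_right_cancel₀ h7
    rw [← h5]
    exact e₂
  apply hθ
  rw [h6, ← pow_mul, ← pow_mul, show q * ((q - 1) * 3) = 3 * (q * (q - 1)) by ring, pow_mul, hr3, one_pow]

/-- `PSU_n(q)`, `n ≥ 3`, `(n, q) ≠ (3, 2)` -/
theorem noCop_psu (hF : Fintype.card F = q ^ 2) (hn : 3 ≤ n) (h32 : ¬ (n = 3 ∧ q = 2)) : NoCop (PSU n F q) := by
  rcases Nat.lt_or_ge n 4 with h | h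
  · obtain rfl : n = 3 := by omega
    exact noCop_psu_three hF fun hq => h32 ⟨rfl, hq⟩
  · exact noCop_psu_four hF h

end Cfsg.Agent.H307.CopPsuMain
end

-- part: H307/CopOne
section
set_option autoImplicit false

/-!
# No coprime class sizes in the Suzuki and Ree groups (for S4158)
-/

namespace Cfsg.Agent.H307.CopOne

open Subgroup Cfsg.Agent.H530.Cop

variable {G : Type*} [Group G]

/-- if the class size of `x` is divisible by all primes but `p` whenever it is prime to `p` -/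
theorem noCop_of_primes [Finite G] [IsSimpleGroup G] (hna : ¬ IsMulCommutative G) {p : ℕ} (hp : p.Prime)
    (H : ∀ x : G, x ≠ 1 → ¬ p ∣ ci x → ∀ t : ℕ, t.Prime → t ≠ p → t ∣ Nat.card G → t ∣ ci x) : NoCop G := by
  have key : ∀ x y : G, x ≠ 1 → y ≠ 1 → (ci x).Coprime (ci y) → ¬ p ∣ ci x → False := by
    intro x y hx hy hc hpx
    have h1 : ∀ t : ℕ, t.Prime → t ∣ ci y → t = p := by
      intro t ht hty
      by_contra hne
      have h2 := H x hx hpx t ht hne (hty.trans (ci_dvd_card y))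
      have h3 := Nat.dvd_gcd h2 hty
      rw [hc] at h3
      exact ht.one_lt.ne' (Nat.dvd_one.1 h3)
    have h2 := Nat.eq_prime_pow_of_unique_prime_dvd (ci_ne_zero y) (fun {t} ht htd => h1 t ht htd)
    exact ne_prime_pow hna hy hp h2
  intro x y hx hy hc
  by_cases hd : p ∣ ci x
  · refine key y x hy hx hc.symm fun h2 => ?_
    have h3 := Nat.dvd_gcd hd h2
    rw [hc] at h3
    exact hp.one_lt.ne' (Nat.dvd_one.1 h3)
  · exact key x y hx hy hc hd

/-- if the centralizers of the `p`-central elements of order `p` are `p`-groups -/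
theorem noCop_of_pgroup [Finite G] [IsSimpleGroup G] (hna : ¬ IsMulCommutative G) {p : ℕ} (hp : p.Prime)
    (hpG : p ∣ Nat.card G)
    (H : ∀ x : G, orderOf x = p → ¬ p ∣ ci x → IsPGroup p ↥(centralizer ({x} : Set G))) : NoCop G := by
  have : Fact p.Prime := ⟨hp⟩
  refine noCop_of_primes hna hp fun x hx hpx t ht htp htG => ?_
  -- it is enough that the centralizer of a conjugate is a p-group
  suffices h : ∃ g : G, IsPGroup p ↥(centralizer ({g * x * g⁻¹} : Set G)) by
    obtain ⟨g, hg⟩ := h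
    rw [← ci_conj g x]
    have h1 := ci_mul_card (g * x * g⁻¹)
    rw [← h1] at htG
    rcases ht.dvd_mul.1 htG with h2 | h2
    · exact h2
    · exfalso
      obtain ⟨k, hk⟩ := IsPGroup.iff_card.1 hg
      rw [hk] at h2
      exact htp ((Nat.prime_dvd_prime_iff_eq ht hp).1 (ht.dvd_of_dvd_pow h2))
  obtain ⟨P⟩ : Nonempty (Sylow p G) := inferInstance
  obtain ⟨g, hg⟩ := exists_conj_le hp hpx P.2
  refine ⟨g, ?_⟩
  have hcard : p ∣ Nat.card (P : Subgroup G) := P.dvd_card_of_dvd_card hpG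
  have hnt : Nontrivial (P : Subgroup G) := by
    by_contra hcon
    rw [not_nontrivial_iff_subsingleton] at hcon
    rw [Nat.card_unique] at hcard
    exact hp.one_lt.ne' (Nat.dvd_one.1 hcard)
  have hZ : Nontrivial (center (P : Subgroup G)) := P.2.center_nontrivial
  have hZp : IsPGroup p (center (P : Subgroup G)) := P.2.to_subgroup _
  have hZc : p ∣ Nat.card (center (P : Subgroup G)) := by
    obtain ⟨k, hk⟩ := IsPGroup.iff_card.1 hZp
    have h1 := Finite.one_lt_card_iff_nontrivial.2 hZ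
    rw [hk] at h1 ⊢
    have : k ≠ 0 := by rintro rfl; simp at h1
    exact dvd_pow_self p this
  obtain ⟨z, hz⟩ := exists_prime_orderOf_dvd_card' p hZc
  set w : G := ((z : (P : Subgroup G)) : G) with hw
  have how : orderOf w = p := by rw [hw, orderOf_coe, orderOf_coe, hz]
  have hPw : ∀ u ∈ (P : Subgroup G), u * w = w * u := by
    intro u hu
    have := mem_center_iff.1 z.2 ⟨u, hu⟩
    exact congrArg Subtype.val this
  -- elements centralized by P have class size prime to p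
  have hcen : ∀ a : G, (∀ u ∈ (P : Subgroup G), u * a = a * u) → ¬ p ∣ ci a := by
    intro a ha hd
    have hle : (P : Subgroup G) ≤ centralizer ({a} : Set G) := fun u hu => mem_cent.2 (ha u hu)
    exact P.not_dvd_index (hd.trans (index_dvd_of_le hle))
  have h1 := H w how (hcen w hPw)
  set x' := g * x * g⁻¹ with hx'
  have hx'w : x' ∈ centralizer ({w} : Set G) := by
    rw [mem_cent]
    exact (hg w (z : (P : Subgroup G)).2).symm
  obtain ⟨k, hk⟩ := h1 ⟨x', hx'w⟩
  have hk' : x' ^ p ^ k = 1 := congrArg Subtype.val hk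
  have hx'1 : x' ≠ 1 := by
    intro h
    apply hx
    have : x = g⁻¹ * x' * g := by rw [hx']; group
    rw [this, h]; group
  obtain ⟨j, hj⟩ := exists_pow_prime hx'1
  have hjp : orderOf (x' ^ j) = p := by
    have h2 : orderOf (x' ^ j) ∣ p ^ k := by
      refine (orderOf_pow_dvd j).trans (orderOf_dvd_of_pow_eq_one hk')
    exact (Nat.prime_dvd_prime_iff_eq hj hp).1 (hj.dvd_of_dvd_pow h2)
  have h3 := H (x' ^ j) hjp (hcen _ (by
    intro u hu
    have h4 : Commute u x' := hg u hu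
    exact h4.pow_right j))
  refine h3.to_le ?_
  intro a ha
  rw [mem_cent] at ha ⊢
  have h4 : Commute a x' := ha
  exact h4.pow_right j

/-- a commutative simple group has prime order -/
theorem prime_of_comm [Finite G] [IsSimpleGroup G] (h : IsMulCommutative G) : (Nat.card G).Prime := by
  let _ : CommGroup G := { ‹Group G› with mul_comm := fun a b => h.is_comm.comm a b }
  exact IsSimpleGroup.prime_card

/-- the Suzuki groups -/
theorem noCop_sz (h : Cfsg.Lie.IsoSuzuki G) : NoCop G := by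
  obtain ⟨F, i1, i2, m, hm, hF, ⟨e⟩⟩ := h
  refine NoCop.congr e.symm ?_
  have hs : IsSimpleGroup ↥(Cfsg.Lie.Sz F (2 ^ (m + 1))) := S1162.result hm hF
  have hc := (S1163.result hm hF).1
  have hfin : Finite ↥(Cfsg.Lie.Sz F (2 ^ (m + 1))) := inferInstance
  have h4 : 4 ∣ Nat.card ↥(Cfsg.Lie.Sz F (2 ^ (m + 1))) := by
    rw [hc]
    refine Dvd.dvd.mul_right (Dvd.dvd.mul_right ?_ _) _
    exact pow_dvd_pow_of_dvd (dvd_pow_self 2 (by omega)) 2
  have hna : ¬ IsMulCommutative ↥(Cfsg.Lie.Sz F (2 ^ (m + 1))) := by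
    intro hcm
    have hp := prime_of_comm hcm
    have h2 : 2 ∣ Nat.card ↥(Cfsg.Lie.Sz F (2 ^ (m + 1))) := Dvd.dvd.trans (by norm_num) h4
    have h3 := (Nat.prime_dvd_prime_iff_eq Nat.prime_two hp).1 h2
    rw [← h3] at h4
    norm_num at h4
  exact noCop_of_pgroup hna Nat.prime_two (Dvd.dvd.trans (by norm_num) h4) fun _ hx _ =>
    SignalizersComponents.BalEndSz.isPGroup_centralizer_suzuki ⟨F, i1, i2, m, hm, hF, ⟨MulEquiv.refl _⟩⟩ hx

/-- the spectrum of the Ree groups gives three components -/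
theorem apart_of_spec [Finite G] {A B : ℕ → Prop} {a b : ℕ} (ha : a.Prime) (hb : b.Prime)
    (hda : a ∣ Nat.card G) (hdb : b ∣ Nat.card G)
    (hA : ∀ t : ℕ, t.Prime → (t = a ∨ ∃ g : G, orderOf g = t * a) → A t)
    (hB : ∀ t : ℕ, t.Prime → (t = b ∨ ∃ g : G, orderOf g = t * b) → B t)
    (hAB : ∀ t : ℕ, t.Prime → A t → B t → False) : Apart G a b := by
  refine apart_of ha hb hda hdb fun g z w hg hz hw hgz hgw => ?_
  obtain ⟨j, hj⟩ := exists_pow_prime hg
  have key : ∀ (v : G), (orderOf v).Prime → g * v = v * g →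
      (orderOf (g ^ j) = orderOf v ∨ ∃ c : G, orderOf c = orderOf (g ^ j) * orderOf v) := by
    intro v hv hgv
    by_cases he : orderOf (g ^ j) = orderOf v
    · exact Or.inl he
    · right
      refine ⟨g ^ j * v, ?_⟩
      have hc : Commute (g ^ j) v := (show Commute g v from hgv).pow_left j
      exact hc.orderOf_mul_eq_mul_orderOf_of_coprime ((Nat.coprime_primes hj hv).2 he)
  refine hAB _ hj (hA _ hj ?_) (hB _ hj ?_)
  · have := key z (by rw [hz]; exact ha) hgz
    rwa [hz] at this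
  · have := key w (by rw [hw]; exact hb) hgw
    rwa [hw] at this

/-- the Ree groups -/
theorem noCop_ree (h : Cfsg.Lie.IsoRee G) : NoCop G := by
  obtain ⟨K, i1, i2, m, hm, hK, ⟨e⟩⟩ := h
  refine NoCop.congr e.symm ?_
  have hfin : Finite ↥(Cfsg.Lie.twistedG2 K (3 ^ m)) := inferInstance
  set q : ℕ := 3 ^ (2 * m + 1) with hq
  set r : ℕ := 3 ^ (m + 1) with hr
  have hspec := S1159.result hm hK
  have hfac : (q - r + 1) * (q + r + 1) = q ^ 2 - q + 1 := Walter.ReeTorus.factor m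
  have hrq : r < q := Nat.pow_lt_pow_right (by norm_num) (by omega)
  have pf := fun (p : ℕ) (hp : p.Prime) (hd : p ∣ q ^ 2 - q + 1) =>
    Walter.ReeTorus.prime_facts (n := 2 * m + 1) (by omega) hp hd
  have hne1 : q - r + 1 ≠ 1 := by
    have h1 : 0 < q - r := Nat.sub_pos_of_lt hrq
    intro h2
    rw [Nat.add_eq_right] at h2
    exact h1.ne' h2
  have hne2 : q + r + 1 ≠ 1 := by
    have h1 : 0 < q + r := Nat.add_pos_left (pow_pos (by norm_num) _) _
    intro h2
    rw [Nat.add_eq_right] at h2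
    exact h1.ne' h2
  obtain ⟨a, ha, haA⟩ := Nat.exists_prime_and_dvd hne1
  obtain ⟨b, hb, hbB⟩ := Nat.exists_prime_and_dvd hne2
  have fA : ∀ t : ℕ, t.Prime → t ∣ q - r + 1 → t ≠ 2 ∧ t ≠ 3 ∧ ¬ t ∣ q ∧ ¬ t ∣ q - 1 ∧ ¬ t ∣ q + 1 :=
    fun t ht hd => pf t ht (hd.trans (Dvd.intro _ hfac))
  have fB : ∀ t : ℕ, t.Prime → t ∣ q + r + 1 → t ≠ 2 ∧ t ≠ 3 ∧ ¬ t ∣ q ∧ ¬ t ∣ q - 1 ∧ ¬ t ∣ q + 1 :=
    fun t ht hd => pf t ht (hd.trans (Dvd.intro_left _ hfac))
  -- no common prime
  have hcop : ∀ t : ℕ, t.Prime → t ∣ q - r + 1 → t ∣ q + r + 1 → False := by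
    intro t ht h1 h2
    have h3 : t ∣ (q + r + 1) - (q - r + 1) := Nat.dvd_sub h2 h1
    have h4 : (q + r + 1) - (q - r + 1) = 2 * r := by omega
    rw [h4, hr] at h3
    rcases ht.dvd_mul.1 h3 with h5 | h5
    · exact (fA t ht h1).1 ((Nat.prime_dvd_prime_iff_eq ht Nat.prime_two).1 h5)
    · exact (fA t ht h1).2.1 ((Nat.prime_dvd_prime_iff_eq ht Nat.prime_three).1 (ht.dvd_of_dvd_pow h5))
  have hhalf : ∀ d : ℕ, d ∣ (q + 1) / 2 → d ∣ q + 1 := by
    intro d hd
    have hodd : Odd q := Odd.pow (by decide)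
    have h2 : 2 ∣ q + 1 := (hodd.add_one).two_dvd
    exact hd.trans (Nat.div_dvd_of_dvd h2)
  have hcard : ∀ p : ℕ, (∃ g : ↥(Cfsg.Lie.twistedG2 K (3 ^ m)), orderOf g = p) →
      p ∣ Nat.card ↥(Cfsg.Lie.twistedG2 K (3 ^ m)) := by
    rintro p ⟨g, rfl⟩
    exact _root_.orderOf_dvd_natCard g
  have ca := hcard a ((hspec a).2 (Or.inr (Or.inr (Or.inr (Or.inr (Or.inl haA))))))
  have cb := hcard b ((hspec b).2 (Or.inr (Or.inr (Or.inr (Or.inr (Or.inr hbB))))))
  have c3 := hcard 3 ((hspec 3).2 (Or.inl (by norm_num)))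
  have n6 : ∀ t : ℕ, t.Prime → t ≠ 2 → t ≠ 3 → ¬ t ∣ 6 ∧ ¬ t ∣ 9 := by
    intro t ht h2 h3
    constructor
    · intro h
      rcases ht.dvd_mul.1 (show t ∣ 2 * 3 from h) with h5 | h5
      · exact h2 ((Nat.prime_dvd_prime_iff_eq ht Nat.prime_two).1 h5)
      · exact h3 ((Nat.prime_dvd_prime_iff_eq ht Nat.prime_three).1 h5)
    · intro h
      exact h3 ((Nat.prime_dvd_prime_iff_eq ht Nat.prime_three).1 (ht.dvd_of_dvd_pow (show t ∣ 3 ^ 2 from h)))
  have HA : ∀ t : ℕ, t.Prime → (t = a ∨ ∃ g : ↥(Cfsg.Lie.twistedG2 K (3 ^ m)), orderOf g = t * a) →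
      t ∣ q - r + 1 := by
    rintro t ht (rfl | hg)
    · exact haA
    · have f := fA a ha haA
      have n := n6 a ha f.1 f.2.1
      rcases (hspec (t * a)).1 hg with h | h | h | h | h | h
      · exact absurd ((dvd_mul_left a t).trans h) n.1
      · exact absurd ((dvd_mul_left a t).trans h) n.2
      · exact absurd ((dvd_mul_left a t).trans h) f.2.2.2.1
      · exact absurd ((dvd_mul_left a t).trans (hhalf _ h)) f.2.2.2.2
      · exact (dvd_mul_right t a).trans h
      · exact absurd ((dvd_mul_left a t).trans h) (fun h' => hcop a ha haA h')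
  have HB : ∀ t : ℕ, t.Prime → (t = b ∨ ∃ g : ↥(Cfsg.Lie.twistedG2 K (3 ^ m)), orderOf g = t * b) →
      t ∣ q + r + 1 := by
    rintro t ht (rfl | hg)
    · exact hbB
    · have f := fB b hb hbB
      have n := n6 b hb f.1 f.2.1
      rcases (hspec (t * b)).1 hg with h | h | h | h | h | h
      · exact absurd ((dvd_mul_left b t).trans h) n.1
      · exact absurd ((dvd_mul_left b t).trans h) n.2
      · exact absurd ((dvd_mul_left b t).trans h) f.2.2.2.1
      · exact absurd ((dvd_mul_left b t).trans (hhalf _ h)) f.2.2.2.2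
      · exact absurd ((dvd_mul_left b t).trans h) (fun h' => hcop b hb h' hbB)
      · exact (dvd_mul_right t b).trans h
  have hm3 : ∀ n : ℕ, ¬ 3 ∣ 3 ^ (n + 1) + 1 := by
    intro n h
    have : 3 ∣ 3 ^ (n + 1) := dvd_pow_self 3 (by omega)
    have := (Nat.dvd_add_right this).1 h
    omega
  have HC : ∀ t : ℕ, t.Prime → (t = 3 ∨ ∃ g : ↥(Cfsg.Lie.twistedG2 K (3 ^ m)), orderOf g = t * 3) →
      t = 2 ∨ t = 3 := by
    rintro t ht (rfl | hg)
    · exact Or.inr rfl
    · have h3q : 3 ∣ q := dvd_pow_self 3 (by omega)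
      have h3r : 3 ∣ r := dvd_pow_self 3 (by omega)
      rcases (hspec (t * 3)).1 hg with h | h | h | h | h | h
      · left
        have : t ∣ 2 := Nat.dvd_of_mul_dvd_mul_right (by norm_num : 0 < 3) (show t * 3 ∣ 2 * 3 from h)
        exact (Nat.prime_dvd_prime_iff_eq ht Nat.prime_two).1 this
      · right
        have : t ∣ 3 := Nat.dvd_of_mul_dvd_mul_right (by norm_num : 0 < 3) (show t * 3 ∣ 3 * 3 from h)
        exact (Nat.prime_dvd_prime_iff_eq ht Nat.prime_three).1 this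
      · exfalso
        have h1 : 3 ∣ q - 1 := (dvd_mul_left 3 t).trans h
        have h2 : 0 < q := pow_pos (by norm_num) _
        have h4 : 3 ∣ q - (q - 1) := Nat.dvd_sub h3q h1
        rw [Nat.sub_sub_self h2] at h4
        norm_num at h4
      · exfalso
        have h1 : 3 ∣ q + 1 := (dvd_mul_left 3 t).trans (hhalf _ h)
        have h4 := (Nat.dvd_add_right h3q).1 h1
        norm_num at h4
      · exfalso
        have h1 : 3 ∣ q - r + 1 := (dvd_mul_left 3 t).trans h
        have h4 := (Nat.dvd_add_right (Nat.dvd_sub h3q h3r)).1 h1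
        norm_num at h4
      · exfalso
        have h1 : 3 ∣ q + r + 1 := (dvd_mul_left 3 t).trans h
        have h4 := (Nat.dvd_add_right (dvd_add h3q h3r)).1 h1
        norm_num at h4
  refine noCop_of_apart ha hb Nat.prime_three
    (apart_of_spec ha hb ca cb HA HB hcop)
    (apart_of_spec hb Nat.prime_three cb c3 HB HC ?_)
    (apart_of_spec ha Nat.prime_three ca c3 HA HC ?_)
  · rintro t ht h1 (rfl | rfl)
    · exact (fB _ ht h1).1 rfl
    · exact (fB _ ht h1).2.1 rfl
  · rintro t ht h1 (rfl | rfl)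
    · exact (fA _ ht h1).1 rfl
    · exact (fA _ ht h1).2.1 rfl

end Cfsg.Agent.H307.CopOne
end

-- part: H530/Final
section
/-!
# No coprime class sizes: reduction to the exceptional and the sporadic groups (helper530, for S4158)
-/

set_option autoImplicit false
set_option linter.style.haveILetI false

namespace Cfsg.Agent.H530.Final

open Cfsg Cfsg.Agent.H530.Cop

universe u

theorem transfer {G : Type u} [Group G] [IsSimpleGroup G] (hna : ¬ IsMulCommutative G) {H : Type} [Group H]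
    (e : G ≃* H) (h : ∀ [IsSimpleGroup H], ¬ IsMulCommutative H → NoCop H) : NoCop G := by
  have hs : IsSimpleGroup H := by
    have : Nontrivial H := e.symm.toEquiv.nontrivial
    exact IsSimpleGroup.isSimpleGroup_of_surjective e.toMonoidHom e.surjective
  refine NoCop.congr e.symm (h fun hc => hna ⟨⟨fun a b => e.injective ?_⟩⟩)
  rw [map_mul, map_mul]
  exact hc.is_comm.comm _ _

theorem noCop_of_known {G : Type u} [Group G] [Finite G] [IsSimpleGroup G] (hna : ¬ IsMulCommutative G)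
    (h : IsKnownSimple' G) (hexc : IsExceptionalLieType G → NoCop G) (hspor : IsSporadicGroup G → NoCop G) :
    NoCop G := by
  rcases h with h | h | h | h | h | h | h | h | h | h
  · exfalso
    apply hna
    have h1 : Fact (Nat.card G).Prime := ⟨h⟩
    have h2 : IsCyclic G := isCyclic_of_prime_card (p := Nat.card G) rfl
    exact IsCyclic.isMulCommutative
  · obtain ⟨n, hn, ⟨e⟩⟩ := h
    exact NoCop.congr e.symm (H743.NoCopAlt.noCop_alt n hn)
  · obtain ⟨F, _, _, n, h2, h4, ⟨e⟩⟩ := h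
    rcases Nat.lt_or_ge n 3 with hn | hn
    · obtain rfl : n = 2 := by omega
      exact NoCop.congr e.symm (H743.NoCopPsl.noCop_psl2 F (h4 rfl))
    · exact transfer hna e fun hc => Psl.noCop hn hc
  · obtain ⟨F, _, _, m, h2, h3, ⟨e⟩⟩ := h
    exact transfer hna e fun hc => Sp.noCop h2 hc
  · obtain ⟨F, _, _, n, q, hF, hn, h32, ⟨e⟩⟩ := h
    exact NoCop.congr e.symm (H307.CopPsuMain.noCop_psu hF hn h32)
  · obtain ⟨F, _, _, m, h2, h3, ⟨e⟩⟩ := h
    exact transfer hna e fun hc => Om.noCop_odd h2 h3 hc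
  · obtain ⟨F, _, _, m, h2, ⟨e⟩⟩ := h
    exact transfer hna e fun hc => Om.noCop_plus h2 hc
  · obtain ⟨F, _, _, m, a, b, h2, h3, ⟨e⟩⟩ := h
    exact transfer hna e fun hc => Om.noCop_minus h2 h3 hc
  · exact hexc h
  · exact hspor h

end Cfsg.Agent.H530.Final
end

-- part: H530/ExcUntw
section
/-!
# No coprime class sizes: `G₂(q)`, `F₄(q)`, `E₈(q)`, `E₇(q)` (helper530, for S4158)
-/

set_option autoImplicit false

namespace Cfsg.Agent.H530.ExcUntw

open Cfsg Cfsg.Agent.H129 Cfsg.Agent.Nodes.RGDChev Cfsg.Agent.H129.TorusTw Cfsg.Agent.H129.RealT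
open Cfsg.Agent.H530.Cop Cfsg.Agent.H530.ExcTor

/-! ### arithmetic -/

theorem one_of {r : ℕ} (hr : r.Prime) (h : (r : ℤ) ∣ 1) : False :=
  hr.one_lt.ne' (Nat.dvd_one.1 (by exact_mod_cast h))

theorem eq_of {r s : ℕ} (hr : r.Prime) (hs : s.Prime) (h : (r : ℤ) ∣ (s : ℤ)) : r = s :=
  (Nat.prime_dvd_prime_iff_eq hr hs).1 (by exact_mod_cast h)

theorem coprime_bez {N N' : ℕ} {u v : ℤ} (h : u * N + v * N' = 1) : N.Coprime N' := by
  rw [← Nat.isCoprime_iff_coprime]
  exact ⟨u, v, h⟩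

theorem coprime_bez2 {N N' : ℕ} {u v : ℤ} (h : u * N + v * N' = 2) (h2 : ¬ 2 ∣ N ∨ ¬ 2 ∣ N') : N.Coprime N' := by
  have hd : N.gcd N' ∣ 2 := by
    have h1 : ((N.gcd N' : ℕ) : ℤ) ∣ 2 := by
      rw [← h]
      exact dvd_add ((Int.natCast_dvd_natCast.2 (Nat.gcd_dvd_left _ _)).mul_left _)
        ((Int.natCast_dvd_natCast.2 (Nat.gcd_dvd_right _ _)).mul_left _)
    exact_mod_cast h1
  rcases (Nat.dvd_prime Nat.prime_two).1 hd with h1 | h1
  · exact h1
  · exfalso
    rcases h2 with h2 | h2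
    · exact h2 (h1 ▸ Nat.gcd_dvd_left _ _)
    · exact h2 (h1 ▸ Nat.gcd_dvd_right _ _)

/-- a prime divisor of `q² + q + 1` -/
theorem exists_prime3 {q : ℕ} (hq : 2 ≤ q) : ∃ r : ℕ, r.Prime ∧ r ∣ q ^ 2 + q + 1 ∧ r ≠ 2 ∧ r ≠ 3 := by
  have hN : ((q ^ 2 + q + 1 : ℕ) : ℤ) = (q : ℤ) ^ 2 + q + 1 := by push_cast; ring
  have hz : ∀ n : ℕ, n ∣ q ^ 2 + q + 1 → ((q : ZMod n) ^ 2 + (q : ZMod n) + 1 = 0) := by
    intro n h
    have := zmod_of_dvd hN h
    push_cast at this
    exact this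
  refine exists_prime_of ?_ ?_ ?_
  · intro h
    have h3 := hz 2 h
    generalize (q : ZMod 2) = x at h3; revert h3; revert x; decide
  · intro h
    have h3 := hz 9 h
    generalize (q : ZMod 9) = x at h3; revert h3; revert x; decide
  · nlinarith only [hq]

/-- a prime divisor of `q⁴ + 1` -/
theorem exists_prime8 {q : ℕ} (hq : 2 ≤ q) : ∃ r : ℕ, r.Prime ∧ r ∣ q ^ 4 + 1 ∧ r ≠ 2 ∧ r ≠ 3 := by
  have hN : ((q ^ 4 + 1 : ℕ) : ℤ) = (q : ℤ) ^ 4 + 1 := by push_cast; ring
  have hz : ∀ n : ℕ, n ∣ q ^ 4 + 1 → ((q : ZMod n) ^ 4 + 1 = 0) := by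
    intro n h
    have := zmod_of_dvd hN h
    push_cast at this
    exact this
  have h4 : ¬ 4 ∣ q ^ 4 + 1 := by
    intro h
    have h3 := hz 4 h
    generalize (q : ZMod 4) = x at h3; revert h3; revert x; decide
  have h3' : ¬ 3 ∣ q ^ 4 + 1 := by
    intro h
    have h3 := hz 3 h
    generalize (q : ZMod 3) = x at h3; revert h3; revert x; decide
  have h16 : 16 ≤ q ^ 4 := by
    calc 16 = 2 ^ 4 := by norm_num
      _ ≤ q ^ 4 := Nat.pow_le_pow_left hq 4
  by_contra hno
  push Not at hno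
  have h1 : ∀ r : ℕ, r.Prime → r ∣ q ^ 4 + 1 → r = 2 := fun r hr hrq => by
    by_contra h2
    exact h3' ((hno r hr hrq h2) ▸ hrq)
  have h4' : q ^ 4 + 1 = 2 ^ (q ^ 4 + 1).primeFactorsList.length :=
    Nat.eq_prime_pow_of_unique_prime_dvd (by omega) fun {d} hd hd' => h1 d hd hd'
  have h5 : (q ^ 4 + 1).primeFactorsList.length < 2 := by
    by_contra h6
    have h6' : 2 ≤ (q ^ 4 + 1).primeFactorsList.length := by omega
    apply h4
    rw [h4']
    exact pow_dvd_pow 2 h6'
  have h7 : 2 ^ (q ^ 4 + 1).primeFactorsList.length ≤ 2 := by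
    interval_cases (q ^ 4 + 1).primeFactorsList.length <;> norm_num
  omega

/-- the characteristic does not divide the orders of the tori -/
theorem not_dvd_of_coprime {F : Type*} [Field F] [Fintype F] {p q N c : ℕ} [CharP F p] [hp : Fact p.Prime]
    (hF : Fintype.card F = q) (h : q.Coprime N) (hc : c ∣ N) : ¬ p ∣ c := by
  intro h1
  have h2 : p ∣ q := by
    rw [← hF]
    exact (CharP.cast_eq_zero_iff F p (Fintype.card F)).1 (FiniteField.cast_card_eq_zero F)
  have h3 : p ∣ q.gcd N := Nat.dvd_gcd h2 (h1.trans hc)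
  rw [h] at h3
  exact hp.out.one_lt.ne' (Nat.dvd_one.1 h3)

/-! ### the tori -/

universe u

variable {F : Type u} [Field F] [Fintype F]

theorem tor_G2 {q : ℕ} (hF : Fintype.card F = q) : ∃ (r : ℕ) (T : Subgroup ↥(Cfsg.Lie.chevG2.group F)),
    TorAt r T ∧ Nat.card ↥T ∣ q ^ 2 + q + 1 := by
  have hq2 : 2 ≤ q := by rw [← hF]; exact Fintype.one_lt_card
  have hp : IsType Cfsg.Lie.chevG2 2 CoxeterMatrix.G₂ := by simp
  have hW : Nat.card CoxeterMatrix.G₂.Group = 12 :=
    Cfsg.Agent.S1092.result (⟨2, CoxeterMatrix.G₂⟩, 12) (by simp)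
  have : Finite CoxeterMatrix.G₂.Group := Nat.finite_of_card_ne_zero (by rw [hW]; norm_num)
  obtain ⟨r, hr, hrN, hr2, hr3⟩ := exists_prime3 hq2
  have hN : ((q ^ 2 + q + 1 : ℕ) : ℤ) = 1 + (q : ℤ) + (q : ℤ) ^ 2 := by push_cast; ring
  have hrq : (r : ℤ) ∣ 1 + (q : ℤ) + (q : ℤ) ^ 2 := by rw [← hN]; exact Int.natCast_dvd_natCast.2 hrN
  have hrW : ¬ r ∣ Nat.card CoxeterMatrix.G₂.Group := by
    rw [hW]
    intro h
    have h2 : (12 : ℕ) = 2 ^ 2 * 3 := by norm_num
    rw [h2] at h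
    rcases (Nat.Prime.dvd_mul hr).1 h with h | h
    · exact hr2 ((Nat.prime_dvd_prime_iff_eq hr Nat.prime_two).1 (hr.dvd_of_dvd_pow h))
    · exact hr3 ((Nat.prime_dvd_prime_iff_eq hr Nat.prime_three).1 h)
  have hG : ∀ s, ¬ (r : ℤ) ∣ Gq DataG2.B (q : ℤ) (DataG2.R s) := by
    intro s hs
    rcases DataG2.dvd_of_G hrq s hs with h1 | h1
    · exact one_of hr h1
    · exact hr3 (eq_of hr Nat.prime_three h1)
  obtain ⟨T, h1, h3, h4, h5, h6⟩ := UntwT.untw_T hp CoxeterMatrix.G₂.toCoxeterSystem (by norm_num) hF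
    TorusChar.invC_G2 one_ne_zero DataG2.hA DataG2.chainOK DataG2.cycOK DataG2.rootOK (N := q ^ 2 + q + 1)
    (by rw [DataG2.fN_eq, hN]) (UntwData.coprime_of_eq (a := (q : ℤ) + 1) (by rw [hN]; ring)) (d := 1) (Or.inl rfl)
  exact ⟨r, T, ⟨hr, dvd_of_dvd_mul hr hrN (fun h => hr.one_lt.ne' (Nat.dvd_one.1 h)) h4, h5 r hr hrW hG⟩, h3⟩

theorem tor_G2h {q : ℕ} (hF : Fintype.card F = q) (hq3 : 3 ≤ q) :
    ∃ (r : ℕ) (T : Subgroup ↥(Cfsg.Lie.chevG2.group F)), TorAt r T ∧ Nat.card ↥T ∣ q ^ 2 - q + 1 := by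
  have hp : IsType Cfsg.Lie.chevG2 2 CoxeterMatrix.G₂ := by simp
  have hW : Nat.card CoxeterMatrix.G₂.Group = 12 :=
    Cfsg.Agent.S1092.result (⟨2, CoxeterMatrix.G₂⟩, 12) (by simp)
  have : Finite CoxeterMatrix.G₂.Group := Nat.finite_of_card_ne_zero (by rw [hW]; norm_num)
  obtain ⟨r, hr, hrN, hr2, hr3⟩ := exists_prime6 hq3
  have hle : q ≤ q ^ 2 := by nlinarith only []
  have hN : ((q ^ 2 - q + 1 : ℕ) : ℤ) = 1 - (q : ℤ) + (q : ℤ) ^ 2 := by push_cast [Nat.cast_sub hle]; ring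
  have hrq : (r : ℤ) ∣ 1 - (q : ℤ) + (q : ℤ) ^ 2 := by rw [← hN]; exact Int.natCast_dvd_natCast.2 hrN
  have hrW : ¬ r ∣ Nat.card CoxeterMatrix.G₂.Group := by
    rw [hW]
    intro h
    have h2 : (12 : ℕ) = 2 ^ 2 * 3 := by norm_num
    rw [h2] at h
    rcases (Nat.Prime.dvd_mul hr).1 h with h | h
    · exact hr2 ((Nat.prime_dvd_prime_iff_eq hr Nat.prime_two).1 (hr.dvd_of_dvd_pow h))
    · exact hr3 ((Nat.prime_dvd_prime_iff_eq hr Nat.prime_three).1 h)
  have hG : ∀ s, ¬ (r : ℤ) ∣ Gq DataG2h.B (q : ℤ) (DataG2h.R s) := by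
    intro s hs
    rcases DataG2h.dvd_of_G hrq s hs with h1 | h1
    · exact one_of hr h1
    · exact hr3 (eq_of hr Nat.prime_three h1)
  obtain ⟨T, h1, h3, h4, h5, h6⟩ := UntwT.untw_T hp CoxeterMatrix.G₂.toCoxeterSystem (by norm_num) hF
    TorusChar.invC_G2 one_ne_zero DataG2h.hA DataG2h.chainOK DataG2h.cycOK DataG2h.rootOK (N := q ^ 2 - q + 1)
    (by rw [DataG2h.fN_eq, hN]) (UntwData.coprime_of_eq (a := (q : ℤ) - 1) (by rw [hN]; ring)) (d := 1) (Or.inl rfl)
  exact ⟨r, T, ⟨hr, dvd_of_dvd_mul hr hrN (fun h => hr.one_lt.ne' (Nat.dvd_one.1 h)) h4, h5 r hr hrW hG⟩, h3⟩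

theorem tor_F4 {q : ℕ} (hF : Fintype.card F = q) : ∃ (r : ℕ) (T : Subgroup ↥(Cfsg.Lie.chevF4.group F)),
    TorAt r T ∧ Nat.card ↥T ∣ q ^ 4 + 1 := by
  have hq2 : 2 ≤ q := by rw [← hF]; exact Fintype.one_lt_card
  have hp : IsType Cfsg.Lie.chevF4 4 CoxeterMatrix.F₄ := by simp
  have hW : Nat.card CoxeterMatrix.F₄.Group = 1152 :=
    Cfsg.Agent.S1092.result (⟨4, CoxeterMatrix.F₄⟩, 1152) (by simp)
  have : Finite CoxeterMatrix.F₄.Group := Nat.finite_of_card_ne_zero (by rw [hW]; norm_num)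
  obtain ⟨r, hr, hrN, hr2, hr3⟩ := exists_prime8 hq2
  have hN : ((q ^ 4 + 1 : ℕ) : ℤ) = 1 + (q : ℤ) ^ 4 := by push_cast; ring
  have hrq : (r : ℤ) ∣ 1 + (q : ℤ) ^ 4 := by rw [← hN]; exact Int.natCast_dvd_natCast.2 hrN
  have hrW : ¬ r ∣ Nat.card CoxeterMatrix.F₄.Group := by
    rw [hW]
    intro h
    have h2 : (1152 : ℕ) = 2 ^ 7 * 3 ^ 2 := by norm_num
    rw [h2] at h
    rcases (Nat.Prime.dvd_mul hr).1 h with h | h
    · exact hr2 ((Nat.prime_dvd_prime_iff_eq hr Nat.prime_two).1 (hr.dvd_of_dvd_pow h))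
    · exact hr3 ((Nat.prime_dvd_prime_iff_eq hr Nat.prime_three).1 (hr.dvd_of_dvd_pow h))
  have hG : ∀ s, ¬ (r : ℤ) ∣ Gq DataF4.B (q : ℤ) (DataF4.R s) := by
    intro s hs
    rcases DataF4.dvd_of_G hrq s hs with h1 | h1
    · exact one_of hr h1
    · exact hr2 (eq_of hr Nat.prime_two h1)
  obtain ⟨T, h1, h3, h4, h5, h6⟩ := UntwT.untw_T hp CoxeterMatrix.F₄.toCoxeterSystem (by norm_num) hF
    TorusChar.invC_F4 one_ne_zero DataF4.hA DataF4.chainOK DataF4.cycOK DataF4.rootOK (N := q ^ 4 + 1)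
    (by rw [DataF4.fN_eq, hN]) (UntwData.coprime_of_eq (a := (q : ℤ) ^ 3) (by rw [hN]; ring)) (d := 1)
    (Or.inl rfl)
  exact ⟨r, T, ⟨hr, dvd_of_dvd_mul hr hrN (fun h => hr.one_lt.ne' (Nat.dvd_one.1 h)) h4, h5 r hr hrW hG⟩, h3⟩

theorem tor_F4h {q : ℕ} (hF : Fintype.card F = q) : ∃ (r : ℕ) (T : Subgroup ↥(Cfsg.Lie.chevF4.group F)),
    TorAt r T ∧ Nat.card ↥T ∣ q ^ 4 - q ^ 2 + 1 := by
  have hq2 : 2 ≤ q := by rw [← hF]; exact Fintype.one_lt_card
  have hp : IsType Cfsg.Lie.chevF4 4 CoxeterMatrix.F₄ := by simp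
  have hW : Nat.card CoxeterMatrix.F₄.Group = 1152 :=
    Cfsg.Agent.S1092.result (⟨4, CoxeterMatrix.F₄⟩, 1152) (by simp)
  have : Finite CoxeterMatrix.F₄.Group := Nat.finite_of_card_ne_zero (by rw [hW]; norm_num)
  have h0 : q ^ 2 ≤ q ^ 4 := Nat.pow_le_pow_right (by omega) (by norm_num)
  have hN : ((q ^ 4 - q ^ 2 + 1 : ℕ) : ℤ) = 1 - (q : ℤ) ^ 2 + (q : ℤ) ^ 4 := by
    push_cast [Nat.cast_sub h0]; ring
  obtain ⟨r, hr, hrq, hr2, hr3, hr5, hr7⟩ := S2373.exists_prime hq2
  have hrN : r ∣ q ^ 4 - q ^ 2 + 1 := by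
    have h1 := hrq
    rw [← hN] at h1
    exact Int.natCast_dvd_natCast.1 h1
  have hrW : ¬ r ∣ Nat.card CoxeterMatrix.F₄.Group := by
    rw [hW, show (1152 : ℕ) = 2 ^ 7 * 3 ^ 2 * 5 ^ 0 * 7 ^ 0 by norm_num]
    exact not_dvd_of hr hr2 hr3 hr5 hr7
  have hG : ∀ s, ¬ (r : ℤ) ∣ Gq DataF4h.B (q : ℤ) (DataF4h.R s) := by
    intro s hs
    rcases DataF4h.dvd_of_G hrq s hs with h1 | h1
    · exact one_of hr h1
    · exact hr2 (eq_of hr Nat.prime_two h1)
  obtain ⟨T, h1, h3, h4, h5, h6⟩ := UntwT.untw_T hp CoxeterMatrix.F₄.toCoxeterSystem (by norm_num) hF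
    TorusChar.invC_F4 one_ne_zero DataF4h.hA DataF4h.chainOK DataF4h.cycOK DataF4h.rootOK (N := q ^ 4 - q ^ 2 + 1)
    (by rw [DataF4h.fN_eq, hN]) (UntwData.coprime_of_eq (a := -(q : ℤ) + (q : ℤ) ^ 3) (by rw [hN]; ring)) (d := 1)
    (Or.inl rfl)
  exact ⟨r, T, ⟨hr, dvd_of_dvd_mul hr hrN (fun h => hr.one_lt.ne' (Nat.dvd_one.1 h)) h4, h5 r hr hrW hG⟩, h3⟩

theorem cardW_E8 : Nat.card CoxeterMatrix.E₈.Group = 696729600 :=
  Cfsg.Agent.S1093.result (⟨8, CoxeterMatrix.E₈⟩, 696729600) (by simp)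

theorem not_dvd_W8 {r : ℕ} (hr : r.Prime) (h2 : r ≠ 2) (h3 : r ≠ 3) (h5 : r ≠ 5) (h7 : r ≠ 7) :
    ¬ r ∣ Nat.card CoxeterMatrix.E₈.Group := by
  rw [cardW_E8, show (696729600 : ℕ) = 2 ^ 14 * 3 ^ 5 * 5 ^ 2 * 7 ^ 1 by norm_num]
  exact not_dvd_of hr h2 h3 h5 h7

theorem tor_E8 {q : ℕ} (hF : Fintype.card F = q) : ∃ (r : ℕ) (T : Subgroup ↥(Cfsg.Lie.chevE8.group F)) (N : ℕ),
    TorAt r T ∧ Nat.card ↥T ∣ N ∧
      (N : ℤ) = 1 + (q : ℤ) - (q : ℤ) ^ 3 - (q : ℤ) ^ 4 - (q : ℤ) ^ 5 + (q : ℤ) ^ 7 + (q : ℤ) ^ 8 := by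
  have hq2 : 2 ≤ q := by rw [← hF]; exact Fintype.one_lt_card
  have hp : IsType Cfsg.Lie.chevE8 8 CoxeterMatrix.E₈ := by simp
  have : Finite CoxeterMatrix.E₈.Group := Nat.finite_of_card_ne_zero (by rw [cardW_E8]; norm_num)
  obtain ⟨N, hN, hN1⟩ := exists_N30 hq2
  obtain ⟨r, hr, hrN⟩ := Nat.exists_prime_and_dvd hN1
  have hz : ∀ n : ℕ, n ∣ N → (1 + (q : ZMod n) - (q : ZMod n) ^ 3 - (q : ZMod n) ^ 4 - (q : ZMod n) ^ 5 +
      (q : ZMod n) ^ 7 + (q : ZMod n) ^ 8 = 0) := by
    intro n h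
    have := zmod_of_dvd hN h
    push_cast at this
    exact this
  have hrq : (r : ℤ) ∣ 1 + (q : ℤ) - (q : ℤ) ^ 3 - (q : ℤ) ^ 4 - (q : ℤ) ^ 5 + (q : ℤ) ^ 7 + (q : ℤ) ^ 8 := by
    rw [← hN]; exact Int.natCast_dvd_natCast.2 hrN
  have hr2 : r ≠ 2 := by
    rintro rfl
    have h3 := hz 2 hrN
    generalize (q : ZMod 2) = x at h3; revert h3; revert x; decide
  have hr3 : r ≠ 3 := by
    rintro rfl
    have h3 := hz 3 hrN
    generalize (q : ZMod 3) = x at h3; revert h3; revert x; decide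
  have hr5 : r ≠ 5 := by
    rintro rfl
    have h3 := hz 5 hrN
    generalize (q : ZMod 5) = x at h3; revert h3; revert x; decide
  have hr7 : r ≠ 7 := by
    rintro rfl
    have h3 := hz 7 hrN
    generalize (q : ZMod 7) = x at h3; revert h3; revert x; decide
  have hrW := not_dvd_W8 hr hr2 hr3 hr5 hr7
  have hG : ∀ s, ¬ (r : ℤ) ∣ Gq DataE8.B (q : ℤ) (DataE8.R s) := by
    intro s hs
    exact one_of hr (DataE8.dvd_of_G hrq s hs)
  obtain ⟨T, h1, h3, h4, h5, h6⟩ := UntwT.untw_T hp CoxeterMatrix.E₈.toCoxeterSystem (by norm_num) hF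
    TorusChar.invC_E8 one_ne_zero DataE8.hA DataE8.chainOK DataE8.cycOK DataE8.rootOK (N := N)
    (by rw [DataE8.fN_eq, hN]) (UntwData.coprime_of_eq
      (a := 1 - (q : ℤ) ^ 2 - (q : ℤ) ^ 3 - (q : ℤ) ^ 4 + (q : ℤ) ^ 6 + (q : ℤ) ^ 7) (by rw [hN]; ring)) (d := 1)
    (Or.inl rfl)
  exact ⟨r, T, N, ⟨hr, dvd_of_dvd_mul hr hrN (fun h => hr.one_lt.ne' (Nat.dvd_one.1 h)) h4, h5 r hr hrW hG⟩, h3, hN⟩

theorem tor_E8c {q : ℕ} (hF : Fintype.card F = q) : ∃ (r : ℕ) (T : Subgroup ↥(Cfsg.Lie.chevE8.group F)),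
    TorAt r T ∧ Nat.card ↥T ∣ q ^ 8 - q ^ 4 + 1 := by
  have hq2 : 2 ≤ q := by rw [← hF]; exact Fintype.one_lt_card
  have hp : IsType Cfsg.Lie.chevE8 8 CoxeterMatrix.E₈ := by simp
  have : Finite CoxeterMatrix.E₈.Group := Nat.finite_of_card_ne_zero (by rw [cardW_E8]; norm_num)
  have h0 : q ^ 4 ≤ q ^ 8 := Nat.pow_le_pow_right (by omega) (by norm_num)
  have hN : ((q ^ 8 - q ^ 4 + 1 : ℕ) : ℤ) = 1 - (q : ℤ) ^ 4 + (q : ℤ) ^ 8 := by
    push_cast [Nat.cast_sub h0]; ring
  have hN1 : q ^ 8 - q ^ 4 + 1 ≠ 1 := by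
    have h2 : q ^ 8 = q ^ 4 * q ^ 4 := by ring
    have h3 : 2 ≤ q ^ 4 := by
      calc 2 ≤ 2 ^ 4 := by norm_num
        _ ≤ q ^ 4 := Nat.pow_le_pow_left hq2 4
    have h4 : 2 * q ^ 4 ≤ q ^ 8 := by rw [h2]; exact Nat.mul_le_mul_right _ h3
    omega
  obtain ⟨r, hr, hrN⟩ := Nat.exists_prime_and_dvd hN1
  have hz : ∀ n : ℕ, n ∣ q ^ 8 - q ^ 4 + 1 → (1 - (q : ZMod n) ^ 4 + (q : ZMod n) ^ 8 = 0) := by
    intro n h
    have := zmod_of_dvd hN h
    push_cast at this
    exact this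
  have hrq : (r : ℤ) ∣ 1 - (q : ℤ) ^ 4 + (q : ℤ) ^ 8 := by
    rw [← hN]; exact Int.natCast_dvd_natCast.2 hrN
  have hr2 : r ≠ 2 := by
    rintro rfl
    have h3 := hz 2 hrN
    generalize (q : ZMod 2) = x at h3; revert h3; revert x; decide
  have hr3 : r ≠ 3 := by
    rintro rfl
    have h3 := hz 3 hrN
    generalize (q : ZMod 3) = x at h3; revert h3; revert x; decide
  have hr5 : r ≠ 5 := by
    rintro rfl
    have h3 := hz 5 hrN
    generalize (q : ZMod 5) = x at h3; revert h3; revert x; decide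
  have hr7 : r ≠ 7 := by
    rintro rfl
    have h3 := hz 7 hrN
    generalize (q : ZMod 7) = x at h3; revert h3; revert x; decide
  have hrW := not_dvd_W8 hr hr2 hr3 hr5 hr7
  have hG : ∀ s, ¬ (r : ℤ) ∣ Gq DataE8c.B (q : ℤ) (DataE8c.R s) := by
    intro s hs
    rcases DataE8c.dvd_of_G hrq s hs with h1 | h1 | h1
    · exact one_of hr h1
    · exact hr2 (eq_of hr Nat.prime_two h1)
    · exact hr3 (eq_of hr Nat.prime_three h1)
  obtain ⟨T, h1, h3, h4, h5, h6⟩ := UntwT.untw_T hp CoxeterMatrix.E₈.toCoxeterSystem (by norm_num) hF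
    TorusChar.invC_E8 one_ne_zero DataE8c.hA DataE8c.chainOK DataE8c.cycOK DataE8c.rootOK (N := q ^ 8 - q ^ 4 + 1)
    (by rw [DataE8c.fN_eq, hN]) (UntwData.coprime_of_eq
      (a := - (q : ℤ) ^ 3 + (q : ℤ) ^ 7) (by rw [hN]; ring)) (d := 1)
    (Or.inl rfl)
  exact ⟨r, T, ⟨hr, dvd_of_dvd_mul hr hrN (fun h => hr.one_lt.ne' (Nat.dvd_one.1 h)) h4, h5 r hr hrW hG⟩, h3⟩

/-- the two tori of `E₇(q)` -/
theorem tor_E7 {q : ℕ} (hF : Fintype.card F = q) : ∃ (r r' : ℕ) (T T' : Subgroup ↥(Cfsg.Lie.chevE7.group F)),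
    TorAt r T ∧ TorAt r' T' ∧ Nat.card ↥T ∣ (q ^ 6 - q ^ 3 + 1) * (q + 1) ∧
      Nat.card ↥T' ∣ (q ^ 6 + q ^ 3 + 1) * (q - 1) ∧ (Nat.card ↥T).Coprime (Nat.card ↥T') := by
  have hq2 : 2 ≤ q := by rw [← hF]; exact Fintype.one_lt_card
  have hp : IsType Cfsg.Lie.chevE7 7 CoxeterMatrix.E₇ := by simp
  have : Finite CoxeterMatrix.E₇.Group := Nat.finite_of_card_ne_zero (by rw [cardW_E7]; norm_num)
  have h0 : q ^ 3 ≤ q ^ 6 := Nat.pow_le_pow_right (by omega) (by norm_num)
  have hN18 : (((q ^ 6 - q ^ 3 + 1) * (q + 1) : ℕ) : ℤ) =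
      1 + (q : ℤ) - (q : ℤ) ^ 3 - (q : ℤ) ^ 4 + (q : ℤ) ^ 6 + (q : ℤ) ^ 7 := by
    push_cast [Nat.cast_sub h0]; ring
  have hN9 : (((q ^ 6 + q ^ 3 + 1) * (q - 1) : ℕ) : ℤ) =
      -1 + (q : ℤ) - (q : ℤ) ^ 3 + (q : ℤ) ^ 4 - (q : ℤ) ^ 6 + (q : ℤ) ^ 7 := by
    push_cast [Nat.cast_sub (show 1 ≤ q by omega)]; ring
  have hodd18 : ¬ 2 ∣ q ^ 6 - q ^ 3 + 1 := by
    rw [← even_iff_two_dvd, Nat.not_even_iff_odd]
    refine (Nat.even_sub h0 |>.2 ?_).add_one
    simp only [Nat.even_pow, _root_.ne_eq, _root_.OfNat.ofNat_ne_zero, _root_.not_false_eq_true, _root_.and_true]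
  have hodd9 : ¬ 2 ∣ q ^ 6 + q ^ 3 + 1 := by
    rw [← even_iff_two_dvd, Nat.not_even_iff_odd]
    refine (Nat.even_add.2 ?_).add_one
    simp only [Nat.even_pow, _root_.ne_eq, _root_.OfNat.ofNat_ne_zero, _root_.not_false_eq_true, _root_.and_true]
  have hq18 : q.Coprime ((q ^ 6 - q ^ 3 + 1) * (q + 1)) :=
    UntwData.coprime_of_eq (a := 1 - (q : ℤ) ^ 2 - (q : ℤ) ^ 3 + (q : ℤ) ^ 5 + (q : ℤ) ^ 6) (by rw [hN18]; ring)
  have hq9 : q.Coprime ((q ^ 6 + q ^ 3 + 1) * (q - 1)) :=
    coprime_of_neg (a := 1 - (q : ℤ) ^ 2 + (q : ℤ) ^ 3 - (q : ℤ) ^ 5 + (q : ℤ) ^ 6) (by rw [hN9]; ring)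
  obtain ⟨r, hr, hr18, hrq, hr2, hr3, hr5, hr7⟩ := exists_prime18 hq2
  obtain ⟨s, hs, hs9, hsq, hs2, hs3, hs5, hs7⟩ := exists_prime9 hq2
  have hrW := not_dvd_W7 hr hr2 hr3 hr5 hr7
  have hsW := not_dvd_W7 hs hs2 hs3 hs5 hs7
  have hrG : ∀ s, ¬ (r : ℤ) ∣ Gq DataE7h.B (q : ℤ) (DataE7h.R s) := by
    intro s hs
    rcases DataE7h.dvd_of_G hrq s hs with h1 | h1
    · exact one_of hr h1
    · exact hr3 (eq_of hr Nat.prime_three h1)
  have hsG : ∀ t, ¬ (s : ℤ) ∣ Gq DataE7n.B (q : ℤ) (DataE7n.R t) := by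
    intro t ht
    rcases DataE7n.dvd_of_G hsq t ht with h1 | h1
    · exact one_of hs h1
    · exact hs3 (eq_of hs Nat.prime_three h1)
  have hbez : (-1 - (q : ℤ) - (q : ℤ) ^ 2) * (((q ^ 6 + q ^ 3 + 1) * (q - 1) : ℕ) : ℤ) +
      (1 - (q : ℤ) + (q : ℤ) ^ 2) * (((q ^ 6 - q ^ 3 + 1) * (q + 1) : ℕ) : ℤ) = 2 := by
    rw [hN9, hN18]; ring
  rcases Nat.even_or_odd q with he | ho
  · -- `q` even
    obtain ⟨T, h1, h3, h4, h5, h6⟩ := UntwT.untw_T hp CoxeterMatrix.E₇.toCoxeterSystem (by norm_num) hF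
      TorusChar.invC_E7 (by norm_num) DataE7h.hA DataE7h.chainOK DataE7h.cycOK DataE7h.rootOK
      (N := (q ^ 6 - q ^ 3 + 1) * (q + 1))
      (by rw [DataE7h.fN_eq, hN18]) hq18 (d := 1) (Or.inr ⟨rfl, sq_surj hF he⟩)
    obtain ⟨T', h1', h3', h4', h5', h6'⟩ := UntwT.untw_T hp CoxeterMatrix.E₇.toCoxeterSystem (by norm_num) hF
      TorusChar.invC_E7 (by norm_num) DataE7n.hA DataE7n.chainOK DataE7n.cycOK DataE7n.rootOK
      (N := (q ^ 6 + q ^ 3 + 1) * (q - 1))
      (by rw [DataE7n.fN_eq, hN9]) hq9 (d := 1) (Or.inr ⟨rfl, sq_surj hF he⟩)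
    refine ⟨r, s, T, T', ⟨hr, dvd_of_dvd_mul hr (hr18.mul_right _) (fun h => hr.one_lt.ne' (Nat.dvd_one.1 h)) h4,
      h5 r hr hrW hrG⟩, ⟨hs, dvd_of_dvd_mul hs (hs9.mul_right _) (fun h => hs.one_lt.ne' (Nat.dvd_one.1 h)) h4',
      h5' s hs hsW hsG⟩, h3, h3', ?_⟩
    have h7 : ((q ^ 6 + q ^ 3 + 1) * (q - 1)).Coprime ((q ^ 6 - q ^ 3 + 1) * (q + 1)) := by
      refine coprime_bez2 hbez (Or.inr fun h => ?_)
      rcases (Nat.Prime.dvd_mul Nat.prime_two).1 h with h | h
      · exact hodd18 h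
      · obtain ⟨m, hm⟩ := he
        (clear * - h hm; omega)
    exact (Nat.Coprime.coprime_dvd_left h3' (Nat.Coprime.coprime_dvd_right h3 h7)).symm
  · obtain ⟨T, h1, h3, h5, h6⟩ := HalfT.half_E7 hF ho hp DataE7h.hA DataE7h.chainOK DataE7h.cycOK DataE7h.rootOK
      (N := (q ^ 6 - q ^ 3 + 1) * (q + 1)) (by rw [DataE7h.fN_eq, hN18]) hq18
    obtain ⟨T', h1', h3', h5', h6'⟩ := HalfT.half_E7 hF ho hp DataE7n.hA DataE7n.chainOK DataE7n.cycOK DataE7n.rootOK
      (N := (q ^ 6 + q ^ 3 + 1) * (q - 1)) (by rw [DataE7n.fN_eq, hN9]) hq9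
    have hd : Nat.card ↥T ∣ (q ^ 6 - q ^ 3 + 1) * (q + 1) := by rw [← h3]; exact dvd_mul_left _ _
    have hd' : Nat.card ↥T' ∣ (q ^ 6 + q ^ 3 + 1) * (q - 1) := by rw [← h3']; exact dvd_mul_left _ _
    refine ⟨r, s, T, T', ⟨hr, dvd_of_dvd_mul hr (hr18.mul_right (q + 1)) (d := 2) (fun h =>
        hr2 ((Nat.prime_dvd_prime_iff_eq hr Nat.prime_two).1 h)) (by rw [h3]),
      h5 r hr hrW hrG⟩, ⟨hs, dvd_of_dvd_mul hs (hs9.mul_right (q - 1)) (d := 2) (fun h =>
        hs2 ((Nat.prime_dvd_prime_iff_eq hs Nat.prime_two).1 h)) (by rw [h3']),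
      h5' s hs hsW hsG⟩, hd, hd', ?_⟩
    have h8 : (-1 - (q : ℤ) - (q : ℤ) ^ 2) * ((Nat.card ↥T' : ℕ) : ℤ) +
        (1 - (q : ℤ) + (q : ℤ) ^ 2) * ((Nat.card ↥T : ℕ) : ℤ) = 1 := by
      rw [← h3, ← h3'] at hbez
      push_cast at hbez
      linarith only [hbez]
    exact (coprime_bez h8).symm

end Cfsg.Agent.H530.ExcUntw
end

private theorem dce_bc33ea8bed71 : _root_.True := by
  try have : _root_.True := by simp only [_root_.Cfsg.Agent.H530.Om.OD.sie.congr_simp]
  try have : _root_.True := by simp only [_root_.Cfsg.Agent.H530.Psl.tv.congr_simp]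
  try have : _root_.True := by simp only [_root_.Cfsg.Agent.H530.Om.OD.si.congr_simp]
  try have : _root_.True := by simp only [_root_.Cfsg.Agent.H530.Sp.sg.congr_simp]
  try have : _root_.True := by simp only [_root_.Cfsg.Agent.H530.Om.OD.re.congr_simp]
  try have : _root_.True := by simp only [_root_.Cfsg.Agent.H743.NoCopAlt.arr.congr_simp]
  try have : _root_.True := by simp only [_root_.Cfsg.Agent.H530.Form.two.congr_simp]
  exact _root_.True.intro
end

-- part: H995/CopSporadic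
section
set_option linter.all false
open scoped Cfsg.Agent.FastGrp

-- part: H995/CopTh
section
/-!
# No two classes of coprime sizes in `Th` (helper995, for S4158)
-/

set_option autoImplicit false

namespace Cfsg.Agent.H995.CopTwo

open Subgroup Cfsg.Agent.H530.Cop

theorem noCop_th {G : Type*} [Group G] (h : Cfsg.Spor.IsoTh G) : NoCop G := by
  obtain ⟨e⟩ := h
  have hf : Finite Cfsg.Spor.Th := Cfsg.Agent.KFacts.Th.Main.finite
  have hs : IsSimpleGroup Cfsg.Spor.Th := Cfsg.Agent.Th.Main1700.isTh.1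
  have hc : Nat.card Cfsg.Spor.Th = 90745943887872000 := Cfsg.Agent.Th.Main1700.isTh.2
  refine NoCop.congr e.symm ?_
  exact noCop_of_large (not_comm_of_card (by rw [hc]; norm_num)) (Cfsg.Agent.KFacts.Th.Main.large Cfsg.Agent.KFacts.Th.Main.ctx)
    90745943887872000 92897280 hc
    (dvd_of_eq Cfsg.Agent.MonsterX.ThOneClass.card_a)
    [(3, 10), (5, 3), (7, 2), (13, 1), (19, 1), (31, 1)] (by decide +kernel) (by norm_num) ⟨15, by decide +kernel⟩

end Cfsg.Agent.H995.CopTwo
end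

-- part: H995/CopFi24
section
/-!
# No two classes of coprime sizes in `Fi24'` (helper995, for S4158)
-/

set_option autoImplicit false

namespace Cfsg.Agent.H995.CopTwo

open Subgroup Cfsg Cfsg.Agent.H530.Cop Cfsg.Agent.KFacts.FiTF

theorem noCop_fi24 {G : Type*} [Group G] [Finite G] [IsSimpleGroup G] (h : Spor.IsoFi24' G) : NoCop G := by
  obtain ⟨e⟩ := h
  have hc : Nat.card Spor.Fi24' = 1255205709190661721292800 := NotCT.Orders.fi24 ⟨MulEquiv.refl _⟩
  have : Finite Spor.Fi24' := Finite.of_equiv G e.toEquiv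
  have : Nontrivial Spor.Fi24' := e.symm.toEquiv.nontrivial
  have : IsSimpleGroup Spor.Fi24' := IsSimpleGroup.isSimpleGroup_of_surjective e.toMonoidHom e.surjective
  refine NoCop.congr e.symm ?_
  refine noCop_of_large (not_comm_of_card (by rw [hc]; norm_num)) (H16.NunFi24.largeK frame)
    1255205709190661721292800 321052999680 hc ?_
    [(3, 8), (5, 2), (7, 2), (11, 1), (13, 1), (17, 1), (23, 1), (29, 1)] (by decide +kernel) (by norm_num)
    ⟨22, by decide +kernel⟩
  rw [← Order.card, ← card_map_of_injective (commutator Spor.Fi24).subtype_injective]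
  refine card_dvd_of_le ?_
  rintro _ ⟨g, hg, rfl⟩
  rw [mem_centralizer_singleton_iff]
  exact congrArg Subtype.val (mem_centralizer_singleton_iff.1 hg)

end Cfsg.Agent.H995.CopTwo
end

-- part: H995/CopJ4
section
/-!
# No two classes of coprime sizes in `J4` (helper995, for S4158)
-/

set_option autoImplicit false

namespace Cfsg.Agent.H995.CopTwo

open Subgroup Cfsg Cfsg.Agent.H530.Cop

theorem noCop_j4 {G : Type*} [Group G] (h : Spor.IsoJ4 G) : NoCop G := by
  obtain ⟨e⟩ := h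
  refine NoCop.congr e.symm ?_
  have hf : Finite Spor.J4 := Cfsg.Agent.H858.FixJ4.facts.1
  have hs : IsSimpleGroup Spor.J4 := Cfsg.Agent.H859.BigPrime.isJ4.1
  have hc : Nat.card Spor.J4 = 86775571046077562880 := Cfsg.Agent.H858.FixJ4.card_J4
  refine noCop_of_r (r := 43) (by norm_num) (by rw [hc]; norm_num) (by rw [hc]; norm_num) fun x hx => ?_
  have h1 := (Cfsg.Agent.H859.BigNum.data43 (P := zpowers x) (by rw [Nat.card_zpowers, hx])).1
  rwa [H729.PairBase.centralizer_zpowers_eq] at h1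

end Cfsg.Agent.H995.CopTwo
end

-- part: H30/CopSpor
section
/-!
# S4158: no coprime class sizes in `HS`, `He`, `Ru` (helper30)

`noCop_of_central` : a Sylow 2-subgroup has a 2-group as centralizer, all 2-central involutions are conjugate, and
for one of them the order of the centralizer has no full odd Sylow part.
-/

set_option autoImplicit false

namespace Cfsg.Agent.H30.CopSpor

open Subgroup Cfsg Cfsg.Agent.H530.Cop Cfsg.Agent.H995.CopTwo

variable {G : Type*} [Group G]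

theorem not_comm_of_card [IsSimpleGroup G] (h : ¬ (Nat.card G).Prime) : ¬ IsMulCommutative G := by
  intro hc
  let _ : CommGroup G := { ‹Group G› with mul_comm := hc.is_comm.comm }
  exact h IsSimpleGroup.prime_card

theorem two_of_prime_of_isPGroup {C : Subgroup G} (h : IsPGroup 2 C) {x : G} (hx : x ∈ C) (hp : (orderOf x).Prime) :
    orderOf x = 2 := by
  obtain ⟨k, hk⟩ := h ⟨x, hx⟩
  have h1 : x ^ 2 ^ k = 1 := congrArg Subtype.val hk
  exact (Nat.prime_dvd_prime_iff_eq hp Nat.prime_two).1 (hp.dvd_of_dvd_pow (orderOf_dvd_of_pow_eq_one h1))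

theorem noCop_of_central [Finite G] [IsSimpleGroup G] (hna : ¬ IsMulCommutative G) (hct : H633.CentTwo.CT G)
    (hcen : HoltZ.TwoGen.Central G) {z : G} (hz : orderOf z = 2) (N c : ℕ) (hN : Nat.card G = N)
    (hc : Nat.card (centralizer ({z} : Set G)) = c) (hodd : Odd (centralizer ({z} : Set G)).index)
    (L : List (ℕ × ℕ)) (hL : chk N c L = true) (hp' : ∀ a ∈ L, a.1.Prime)
    (hk : ∃ k, N ∣ (2 * (L.map Prod.fst).prod) ^ k) : NoCop G := by
  have hf : Fact (Nat.Prime 2) := ⟨Nat.prime_two⟩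
  have hz2 : IsTwoCentralInvolution z := by
    obtain ⟨h1, h2⟩ := HoltZ.Crit.orderOf_two hz
    obtain ⟨S, hS⟩ := KFacts.HS.exists_sylow_le _ hodd
    exact HoltZ.Crit.twoCentral h1 h2 ⟨S, fun s hs => mem_cent.1 (hS hs)⟩
  obtain ⟨T⟩ : Nonempty (Sylow 2 G) := inferInstance
  refine noCop_of_card hna Nat.prime_two (T : Subgroup G) T.2 N c hN (fun x hx hxT => ?_) L hL hp' hk
  have hxc : x ∈ centralizer ((T : Subgroup G) : Set G) := mem_centralizer_iff.2 fun u hu => hxT u hu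
  have hx2 := two_of_prime_of_isPGroup (hct T) hxc hx
  obtain ⟨h1, h2⟩ := HoltZ.Crit.orderOf_two hx2
  have hx3 : IsTwoCentralInvolution x := HoltZ.Crit.twoCentral h1 h2 ⟨T, fun s hs => hxT s hs⟩
  have h3 := SmallSimple.ClassDvd.card_centralizer_conj (hcen x z hx3 hz2)
  rw [← hc, h3]

/-- **He** -/
theorem noCop_he {G : Type*} [Group G] [Finite G] (h : Spor.IsoHe G) : NoCop G := by
  obtain ⟨e⟩ := h
  have hf : Finite Spor.He := Finite.of_equiv _ e.toEquiv
  have hs : IsSimpleGroup Spor.He := KFacts.He.Cent.simpleHe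
  have hcard : Nat.card Spor.He = 4030387200 := KFacts.He.Cent.card_He
  have hna := not_comm_of_card (G := Spor.He) (by rw [hcard]; norm_num)
  refine NoCop.congr e.symm (noCop_of_central hna (H633.CentTwo.he ⟨MulEquiv.refl _⟩) HoltZ.CentHe.central
    (z := KFacts.He.Bound.z) ?_ 4030387200 21504 hcard KFacts.He.Cent.card_cent ?_ [(3, 2), (5, 1), (7, 2), (17, 1)]
    (by decide +kernel) (by decide) ⟨11, by norm_num⟩)
  · exact HoltZ.Crit.two_orderOf (by rw [← KFacts.He.Hyp.hyp.map_zz, ← map_mul, show SporadicRecognition.HeldModel.zC * SporadicRecognition.HeldModel.zC = 1 from Subtype.ext KFacts.TwoSix.Facts.zz_sq, map_one]) KFacts.He.Hyp.z_ne_one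
  · have h1 := card_mul_index (centralizer ({KFacts.He.Bound.z} : Set Spor.He))
    rw [KFacts.He.Cent.card_cent, hcard] at h1
    rw [show (centralizer ({KFacts.He.Bound.z} : Set Spor.He)).index = 187425 by omega]
    decide

theorem not_prime_four {u z x : G} (hu : u * u = z) (hz : z * z = 1) (h1 : z ≠ 1) (hx : x = u) :
    ¬ (orderOf x).Prime := by
  subst hx
  intro hp
  have h4 : x ^ 4 = 1 := by
    rw [show (4 : ℕ) = 2 * 2 by norm_num, pow_mul, pow_two x, hu, pow_two, hz]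
  have h2 : orderOf x ∣ 2 ^ 2 := orderOf_dvd_of_pow_eq_one h4
  have h3 := (Nat.prime_dvd_prime_iff_eq hp Nat.prime_two).1 (hp.dvd_of_dvd_pow h2)
  apply h1
  rw [← hu, ← pow_two, ← h3, pow_orderOf_eq_one]

/-- **HS** -/
theorem noCop_hs {G : Type*} [Group G] [Finite G] (h : Spor.IsoHS G) : NoCop G := by
  have hs : IsSimpleGroup G := Omega.TwoF.RowHS.simple h
  obtain ⟨D⟩ := KFacts.HS.exists_mod h
  have hna := not_comm_of_card (G := G) (by rw [D.card]; norm_num)
  refine noCop_of_card hna Nat.prime_two D.R D.isPGroup_R 44352000 7680 D.card (fun x hx hxT => ?_)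
    [(3, 2), (5, 2), (7, 1), (11, 1)] (by decide +kernel) (by decide) ⟨9, by norm_num⟩
  have hxz : x * D.z = D.z * x := (hxT _ D.zR).symm
  rcases D.cR' x hxz (fun r hr => (hxT r hr).symm) with h1 | h1 | h1 | h1
  · rw [h1, orderOf_one] at hx
    exact absurd hx Nat.not_prime_one
  · rw [h1, D.card_centralizer]
  · exact absurd hx (not_prime_four D.uu D.zz D.z1 h1)
  · rw [h1, orderOf_inv] at hx
    exact absurd hx (not_prime_four D.uu D.zz D.z1 rfl)

/-- **Ru** -/
theorem noCop_ru {G : Type*} [Group G] [Finite G] (h : Spor.IsoRu G) : NoCop G := by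
  obtain ⟨C, -⟩ := KFacts.Ru.exists_core h
  have hcard : Nat.card G = 145926144000 := NotCT.Orders.ru h
  have hs : IsSimpleGroup G := RuC.Trans.isSimple_of_isoRu h
  have hna := not_comm_of_card (G := G) (by rw [hcard]; norm_num)
  have hcen : HoltZ.TwoGen.Central G := HoltZ.Crit.central_of_z1 (OddHalf.D4.Spor.RuIso.sheet_of_core h C).z1
  refine noCop_of_central hna (H633.CentTwo.ru h) hcen (z := C.z 1) ?_ 145926144000 245760 hcard
    (Ru127.Sg.card_cent C) ?_ [(3, 2), (5, 2), (7, 1), (13, 1), (29, 1)] (by decide +kernel) (by decide) ⟨14, by norm_num⟩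
  · exact HoltZ.Crit.two_orderOf (C.z_sq _) (fun h => one_ne_zero (C.z_eq_one h))
  · have h1 := card_mul_index (centralizer ({C.z 1} : Set G))
    rw [Ru127.Sg.card_cent C, hcard] at h1
    rw [show (centralizer ({C.z 1} : Set G)).index = 593775 by omega]
    decide

end Cfsg.Agent.H30.CopSpor
end

-- part: H981/CopHN
section
/-!
# Coprime class sizes: the Harada-Norton group (helper981, for S4158)
-/

set_option autoImplicit false

namespace Cfsg.Agent.H981.CopHN

open Subgroup Cfsg.Agent.H530.Cop Cfsg.Agent.H995.CopTwo Cfsg.Agent.KFacts.HN Cfsg.Agent.HN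

/-- a finite simple group of non-prime order is not abelian -/
theorem hna_of {G : Type*} [Group G] [Finite G] [IsSimpleGroup G] {N : ℕ} (h : Nat.card G = N) (hN : ¬ N.Prime) :
    ¬ IsMulCommutative G := by
  intro hc
  let inst : CommGroup G := { (inferInstance : Group G) with mul_comm := hc.is_comm.comm }
  exact hN (h ▸ IsSimpleGroup.prime_card (α := G))

theorem noCop : NoCop Cfsg.Spor.HN := by
  haveI : IsSimpleGroup Cfsg.Spor.HN := Cfsg.Agent.HN.XWords.simple_HN
  haveI : Finite Cfsg.Spor.HN := Cfsg.Agent.HN.Index.finite_HN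
  refine noCop_of_large (hna_of Classes.card_HN (by norm_num)) large 273030912000000 3686400 Classes.card_HN
    (PCard.card_centralizer).dvd [(3,3),(5,3),(7,1),(11,1),(19,1)] (by decide +kernel) (by decide) ?_
  exact ⟨14, by norm_num⟩

/-- **The row for HN.** -/
theorem noCop_hn {G : Type*} [Group G] [Finite G] (h : Cfsg.Spor.IsoHN G) : Cfsg.Agent.H530.Cop.NoCop G := by
  obtain ⟨e⟩ := h
  exact noCop.congr e.symm

end Cfsg.Agent.H981.CopHN
end

-- part: H981/CopSuz
section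
/-!
# Coprime class sizes: the Suzuki group (helper981, for S4158)
-/

set_option autoImplicit false

namespace Cfsg.Agent.H981.CopSuz

open Subgroup Cfsg.Agent.H530.Cop Cfsg.Agent.H995.CopTwo

theorem noCop : NoCop Cfsg.Spor.Suz := by
  haveI : IsSimpleGroup Cfsg.Spor.Suz := Cfsg.Agent.SporadicRecognition.SuzOrder.simple
  have hc : Nat.card Cfsg.Spor.Suz = 448345497600 := Cfsg.Agent.SporadicRecognition.SuzOrder.card_Suz
  haveI : Finite Cfsg.Spor.Suz := Nat.finite_of_card_ne_zero (by rw [hc]; norm_num)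
  have hna : ¬ IsMulCommutative Cfsg.Spor.Suz := by
    intro h
    let inst : CommGroup Cfsg.Spor.Suz :=
      { (inferInstance : Group Cfsg.Spor.Suz) with mul_comm := h.is_comm.comm }
    have h2 : (448345497600 : ℕ).Prime := hc ▸ IsSimpleGroup.prime_card (α := Cfsg.Spor.Suz)
    revert h2
    norm_num
  refine noCop_of_large hna Cfsg.Agent.KFacts.SuzLarge.large 448345497600 3317760 hc
    (Cfsg.Agent.SuzThree.CentCard.card_C1).dvd [(3,5),(5,2),(7,1),(11,1),(13,1)] (by decide +kernel) (by decide) ?_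
  exact ⟨13, by norm_num⟩

/-- **The row for Suz.** -/
theorem noCop_suz {G : Type*} [Group G] [Finite G] (h : Cfsg.Spor.IsoSuz G) : Cfsg.Agent.H530.Cop.NoCop G := by
  obtain ⟨e⟩ := h
  exact noCop.congr e.symm

end Cfsg.Agent.H981.CopSuz
end

-- part: H995/CopSporadic
section
/-!
# No two classes of coprime sizes in the sporadic groups (helpers 995, 845, 30, 981, 461, 604; for S4158)

`noCop_sporadic`: the Monster and the Baby Monster use the classification (`AllKnown`: every finite simple group is known).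
-/

set_option autoImplicit false

namespace Cfsg.Agent.H995.CopTwo

open Cfsg Cfsg.Agent.H530.Cop Cfsg.Agent.H995.CopEngine

theorem noCop_sporadic (hK : AllKnown.{0}) {G : Type*} [Group G] [Finite G] [IsSimpleGroup G]
    (h : IsSporadicGroup G) : NoCop G := by
  rcases h with h | h | h | h | h | h | h | h | h | h | h | h | h | h | h | h | h | h | h | h | h | h | h | h | h | h
  · exact noCop_m11 h
  · exact noCop_m12 h
  · exact noCop_m22 h
  · exact noCop_m23 h
  · exact noCop_m24 h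
  · exact noCop_j1 h
  · exact noCop_j2 h
  · exact noCop_j3 h
  · exact noCop_j4 h
  · exact H604.Cop.Conway.noCop_co1 h
  · exact H604.Cop.Conway.noCop_co2 h
  · exact H604.Cop.Conway.noCop_co3 h
  · exact H461.Cop.noCop_mcl h
  · exact H30.CopSpor.noCop_hs h
  · exact H981.CopSuz.noCop_suz h
  · exact H30.CopSpor.noCop_he h
  · exact H30.CopSpor.noCop_ru h
  · exact H461.Cop.noCop_on h
  · exact H845.CopLy.noCop_ly h
  · exact noCop_fi22 h
  · exact noCop_fi23 h
  · exact noCop_fi24 h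
  · exact H981.CopHN.noCop_hn h
  · exact noCop_th h
  · exact noCop_b hK h
  · exact noCop_m hK h

end Cfsg.Agent.H995.CopTwo
end
end
end
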