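import Mathlib
import Cfsg.Agent.H530.KulBase
import Cfsg.Agent.Transfer.TausskyTwoGroup
set_option linter.all false

/-!
# Cyclic maximal subgroups and maximal subgroups of maximal class, modulo `p` (helper530)

* `dvd_card_cyclic`: the number of cyclic maximal subgroups of a noncyclic `p`-group of order at least
  `p ^ 3` (for `p = 2`: with `|G : G'| ≠ 4`) is divisible by `p`.
* `structure_of_index_four`: a 2-group of order at least 16 with `|G : G'| = 4` has one cyclic maximal
  subgroup, and `|M : M'| = 4` for the other maximal subgroups `M`.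
* `two_dvd_card_index_four`: in a noncyclic 2-group with `|G : G'| ≠ 4` of order at least 16 the number of
  maximal subgroups `M` with `|M : M'| = 4` is even.
-/

set_option autoImplicit false
set_option linter.style.haveILetI false

namespace Cfsg.Agent.H530.Kul

open Subgroup
open scoped commutatorElement

variable {G : Type*} [Group G] [Finite G] {p : ℕ} [hp : Fact p.Prime]

/-- In a noncyclic group of order `p ^ m` every element has order dividing `p ^ (m - 1)`. -/
theorem pow_eq_one_of_not_isCyclic {m : ℕ} (hm : Nat.card G = p ^ m) (hnc : ¬ IsCyclic G) (x : G) :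
    x ^ p ^ (m - 1) = 1 := by
  have h1 : orderOf x ∣ p ^ m := hm ▸ orderOf_dvd_natCard x
  obtain ⟨j, hj, hj'⟩ := (Nat.dvd_prime_pow hp.out).1 h1
  have hjm : j ≠ m := by
    rintro rfl
    exact hnc (isCyclic_of_orderOf_eq_card x (by rw [hj', hm]))
  rw [← orderOf_dvd_iff_pow_eq_one, hj']
  exact pow_dvd_pow p (by omega)

/-- For noncyclic 2-groups `4` divides the index of the derived subgroup. -/
theorem four_dvd_index_commutator {G : Type*} [Group G] [Finite G] (hG : IsPGroup 2 G)
    (hnc : ¬ IsCyclic G) : 4 ∣ (commutator G).index := by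
  haveI : Group.IsNilpotent G := hG.isNilpotent
  have h2 : ¬ IsCyclic (G ⧸ commutator G) := by
    intro h
    have h1 := Cfsg.Agent.Transfer.TausskyTwoGroup.commutator_eq_bot_of_isCyclic_quotient h
    apply hnc
    have e : G ≃* G ⧸ commutator G :=
      (QuotientGroup.quotientBot (G := G)).symm.trans (QuotientGroup.quotientMulEquivOfEq h1.symm)
    exact isCyclic_of_surjective e.symm e.symm.surjective
  obtain ⟨j, hj⟩ := IsPGroup.iff_card.1 (hG.to_quotient (commutator G))
  have hj2 : 2 ≤ j := by
    by_contra hlt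
    apply h2
    have : j = 0 ∨ j = 1 := by omega
    rcases this with rfl | rfl
    · rw [pow_zero] at hj
      haveI := (Nat.card_eq_one_iff_unique.1 hj).1
      infer_instance
    · rw [pow_one] at hj
      exact isCyclic_of_prime_card (p := 2) hj
  rw [Subgroup.index, hj]
  exact pow_dvd_pow 2 hj2

/-- The power map to the exponent `p ^ (m - 2)` is multiplicative. -/
theorem mul_pow_of_cyclic_index {m : ℕ} (hm : Nat.card G = p ^ m) (hm3 : 3 ≤ m)
    (hnc : ¬ IsCyclic G) (h2 : p = 2 → (commutator G).index ≠ 4) (C : Subgroup G)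
    (hCi : C.index = p) (hC : IsCyclic C) (x y : G) :
    (x * y) ^ p ^ (m - 2) = x ^ p ^ (m - 2) * y ^ p ^ (m - 2) := by
  have hG : IsPGroup p G := IsPGroup.of_card hm
  by_cases hp2 : p = 2
  · subst hp2
    obtain ⟨j, hj⟩ : ∃ j, m = j + 3 := ⟨m - 3, by omega⟩
    subst hj
    have hCn : C.Normal := Subgroup.normal_of_index_eq_two hCi
    have hcomm : ∀ a ∈ C, ∀ b ∈ C, a * b = b * a := by
      intro a ha b hb
      let _ := IsCyclic.commGroup (α := C)
      exact congrArg Subtype.val (mul_comm (⟨a, ha⟩ : C) ⟨b, hb⟩)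
    have hG'C : commutator G ≤ C := by
      rw [← Subgroup.Normal.quotient_commutative_iff_commutator_le]
      have hc : IsCyclic (G ⧸ C) := isCyclic_of_prime_card (p := 2) hCi
      exact IsCyclic.isMulCommutative
    have h8 : Nat.card (commutator G) ∣ 2 ^ j := by
      have h4 := four_dvd_index_commutator hG hnc
      have h5 := (commutator G).card_mul_index
      obtain ⟨i, hi⟩ := IsPGroup.iff_card.1 (hG.to_subgroup (commutator G))
      obtain ⟨l, hl, hl'⟩ := (Nat.dvd_prime_pow Nat.prime_two).1
        ((hm ▸ (commutator G).index_dvd_card : (commutator G).index ∣ 2 ^ (j + 3)))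
      rw [hm, hi, hl', ← pow_add] at h5
      have h6 : i + l = j + 3 := Nat.pow_right_injective le_rfl h5
      have h7 : 2 ≤ l := by
        rw [hl'] at h4
        have : (2 : ℕ) ^ 2 ∣ 2 ^ l := by norm_num; exact h4
        exact (Nat.pow_dvd_pow_iff_le_right (by norm_num)).1 this
      have h9 : l ≠ 2 := by
        rintro rfl
        exact h2 rfl hl'
      rw [hi]
      exact pow_dvd_pow 2 (by omega)
    have hx2 : ∀ z : G, z ^ 2 ∈ C := fun z => by
      have := C.pow_index_mem z
      rwa [hCi] at this
    have key : (x * y) ^ 2 = x ^ 2 * ((x⁻¹ * y * x * y⁻¹) * y ^ 2) := by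
      rw [pow_two, pow_two, pow_two]; group
    have hc : x⁻¹ * y * x * y⁻¹ ∈ commutator G := by
      have : x⁻¹ * y * x * y⁻¹ = ⁅x⁻¹, y⁆ := by rw [commutatorElement_def]; group
      rw [this]
      exact Subgroup.commutator_mem_commutator (mem_top _) (mem_top _)
    have hcpow : (x⁻¹ * y * x * y⁻¹) ^ 2 ^ j = 1 := by
      rw [← orderOf_dvd_iff_pow_eq_one]
      refine dvd_trans ?_ h8
      have := orderOf_dvd_natCard (⟨_, hc⟩ : commutator G)
      rwa [Subgroup.orderOf_mk] at this
    have hexp : (2 : ℕ) ^ (j + 3 - 2) = 2 * 2 ^ j := by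
      rw [show j + 3 - 2 = j + 1 by omega, pow_succ, mul_comm]
    rw [hexp, pow_mul, pow_mul, pow_mul, key]
    have c1 : Commute (x ^ 2) ((x⁻¹ * y * x * y⁻¹) * y ^ 2) :=
      hcomm _ (hx2 x) _ (C.mul_mem (hG'C hc) (hx2 y))
    have c2 : Commute (x⁻¹ * y * x * y⁻¹) (y ^ 2) := hcomm _ (hG'C hc) _ (hx2 y)
    rw [c1.mul_pow, c2.mul_pow, hcpow, one_mul]
  · have h1 : ∀ j : ℕ, (x * y) ^ p ^ j = x ^ p ^ j * y ^ p ^ j := by
      intro j
      induction j with
      | zero => simp
      | succ j ih =>
        rw [pow_succ, pow_mul, pow_mul, pow_mul, ih]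
        exact Cfsg.Agent.PLocal.CyclicIndexP.mul_pow_prime hp2 hG hC hCi _ _
    exact h1 _

/-- The number of cyclic maximal subgroups. -/
theorem dvd_card_cyclic {m : ℕ} (hm : Nat.card G = p ^ m) (hm3 : 3 ≤ m)
    (hnc : ¬ IsCyclic G) (h2 : p = 2 → (commutator G).index ≠ 4) :
    p ∣ Nat.card {M : {M : Subgroup G // M.index = p} // IsCyclic M.1} := by
  have hG : IsPGroup p G := IsPGroup.of_card hm
  by_cases hex : ∃ C : Subgroup G, C.index = p ∧ IsCyclic C
  swap
  · have : IsEmpty {M : {M : Subgroup G // M.index = p} // IsCyclic M.1} :=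
      ⟨fun M => hex ⟨M.1.1, M.1.2, M.2⟩⟩
    rw [Nat.card_of_isEmpty]
    exact dvd_zero p
  obtain ⟨C, hCi, hC⟩ := hex
  obtain ⟨j, hj⟩ : ∃ j, m = j + 3 := ⟨m - 3, by omega⟩
  subst hj
  have hcardM : ∀ M : Subgroup G, M.index = p → Nat.card M = p ^ (j + 2) := by
    intro M hM
    have h1 := M.card_mul_index
    rw [hM, hm, show j + 3 = (j + 2) + 1 by omega, pow_succ] at h1
    exact Nat.eq_of_mul_eq_mul_right hp.out.pos h1
  let θ : G →* G :=
    { toFun := fun x => x ^ p ^ (j + 1)
      map_one' := one_pow _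
      map_mul' := fun x y => by
        have := mul_pow_of_cyclic_index hm hm3 hnc h2 C hCi hC x y
        rwa [show j + 3 - 2 = j + 1 by omega] at this }
  have hθ : ∀ x, θ x = x ^ p ^ (j + 1) := fun x => rfl
  -- a generator of `C` is not in the kernel
  have hnot : ∀ M : Subgroup G, M.index = p → IsCyclic M → ∃ b ∈ M, θ b ≠ 1 := by
    intro M hM hc
    obtain ⟨b, hb⟩ := hc.exists_generator
    refine ⟨b, b.2, ?_⟩
    rw [hθ]
    intro h
    have h1 : orderOf (b : G) = p ^ (j + 2) := by
      rw [Subgroup.orderOf_coe, orderOf_eq_card_of_forall_mem_zpowers hb, hcardM M hM]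
    have h3 := orderOf_dvd_of_pow_eq_one h
    rw [h1] at h3
    have h4 := (Nat.pow_dvd_pow_iff_le_right hp.out.one_lt).1 h3
    omega
  have hindex : θ.ker.index = p := by
    rw [Subgroup.index_ker]
    -- the range is contained in the elements of order dividing `p` of `C`
    have hsub : (θ.range : Set G) ⊆ (fun z : C => (z : G)) '' {z : C | z ^ p = 1} := by
      rintro _ ⟨x, rfl⟩
      have hxC : x ^ p ∈ C := Cfsg.Agent.PLocal.CyclicIndexP.pow_mem hG hCi x
      have hmem : θ x ∈ C := by
        rw [hθ, pow_succ', pow_mul]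
        exact C.pow_mem hxC _
      refine ⟨⟨θ x, hmem⟩, ?_, rfl⟩
      apply Subtype.ext
      change (θ x) ^ p = 1
      rw [hθ, ← pow_mul, ← pow_succ]
      have := pow_eq_one_of_not_isCyclic hm hnc x
      rwa [show j + 3 - 1 = j + 1 + 1 by omega] at this
    have hle : Nat.card θ.range ≤ p := by
      have h3 : Nat.card {z : C | z ^ p = 1} = p := by
        refine Cfsg.Agent.PLocal.CyclicIndexP.card_pow_eq_one_of_isCyclic (hG.to_subgroup C) ?_
        rw [hcardM C hCi]
        exact (Nat.one_lt_pow (by omega) hp.out.one_lt).ne'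
      calc Nat.card θ.range = (θ.range : Set G).ncard := rfl
        _ ≤ ((fun z : C => (z : G)) '' {z : C | z ^ p = 1}).ncard :=
          Set.ncard_le_ncard hsub (Set.toFinite _)
        _ ≤ ({z : C | z ^ p = 1}).ncard := Set.ncard_image_le (Set.toFinite _)
        _ = p := h3
    have hne : θ.range ≠ ⊥ := by
      obtain ⟨b, -, hb⟩ := hnot C hCi hC
      intro h
      apply hb
      have : θ b ∈ θ.range := ⟨b, rfl⟩
      rwa [h, Subgroup.mem_bot] at this
    have h1 : p ∣ Nat.card θ.range := by
      have := (hG.to_subgroup θ.range).card_eq_or_dvd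
      refine this.resolve_left fun h => hne (Subgroup.card_eq_one.1 h)
    exact le_antisymm hle (Nat.le_of_dvd Nat.card_pos h1)
  -- a maximal subgroup is cyclic iff it is not the kernel
  have hiff : ∀ M : {M : Subgroup G // M.index = p}, IsCyclic M.1 ↔ ¬ M = ⟨θ.ker, hindex⟩ := by
    intro M
    constructor
    · intro hc h
      obtain ⟨b, hb, hb1⟩ := hnot M.1 M.2 hc
      rw [h] at hb
      exact hb1 hb
    · intro h
      have hnle : ¬ M.1 ≤ θ.ker := by
        intro hle
        apply h
        apply Subtype.ext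
        refine Subgroup.eq_of_le_of_card_ge hle ?_
        rw [hcardM _ M.2, hcardM _ hindex]
      obtain ⟨x, hx, hx'⟩ := SetLike.not_le_iff_exists.1 hnle
      have h3 : orderOf (⟨x, hx⟩ : M.1) ∣ p ^ (j + 2) := by
        rw [← hcardM M.1 M.2]; exact orderOf_dvd_natCard _
      obtain ⟨i, hi, hi'⟩ := (Nat.dvd_prime_pow hp.out).1 h3
      have h4 : i = j + 2 := by
        by_contra hne
        apply hx'
        rw [MonoidHom.mem_ker, hθ, ← orderOf_dvd_iff_pow_eq_one]
        rw [Subgroup.orderOf_mk] at hi'
        rw [hi']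
        exact pow_dvd_pow p (by omega)
      exact isCyclic_of_orderOf_eq_card (⟨x, hx⟩ : M.1) (by rw [hi', h4, hcardM M.1 M.2])
  have hsplit := card_split (fun M : {M : Subgroup G // M.index = p} => M = ⟨θ.ker, hindex⟩)
  have h1 : Nat.card {M : {M : Subgroup G // M.index = p} // M = ⟨θ.ker, hindex⟩} = 1 := by simp
  have h3 : Nat.card {M : {M : Subgroup G // M.index = p} // ¬ M = ⟨θ.ker, hindex⟩} =
      Nat.card {M : {M : Subgroup G // M.index = p} // IsCyclic M.1} :=
    Nat.card_congr (Equiv.subtypeEquivRight fun M => (hiff M).symm)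
  rw [h1, h3] at hsplit
  have hnt : Nontrivial G := by
    by_contra h
    rw [not_nontrivial_iff_subsingleton] at h
    exact hnc inferInstance
  have h4 := card_index_modEq hG hnt
  rw [← hsplit] at h4
  rw [← Nat.modEq_zero_iff_dvd]
  exact Nat.ModEq.add_left_cancel' 1 h4

/-! ### 2-groups -/

section two

variable {G : Type*} [Group G] [Finite G]

/-- The number of elements of a subgroup of index two and the derived subgroup. -/
theorem card_of_index_two {H : Type*} [Group H] [Finite H] {m : ℕ} (hm : Nat.card H = 2 ^ (m + 1))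
    (M : Subgroup H) (hM : M.index = 2) : Nat.card M = 2 ^ m := by
  have h1 := M.card_mul_index
  rw [hM, hm, pow_succ] at h1
  exact Nat.eq_of_mul_eq_mul_right (by norm_num) h1

omit [Finite G] in
theorem commutator_le_of_index_two (M : Subgroup G) (hM : M.index = 2) : commutator G ≤ M := by
  have hn : M.Normal := Subgroup.normal_of_index_eq_two hM
  rw [← Subgroup.Normal.quotient_commutative_iff_commutator_le]
  have hc : IsCyclic (G ⧸ M) := isCyclic_of_prime_card (p := 2) hM
  exact IsCyclic.isMulCommutative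

/-- **2-groups with `|G : G'| = 4`, order at least 16.** -/
theorem structure_of_index_four {m : ℕ} (hm : Nat.card G = 2 ^ m) (hm4 : 4 ≤ m)
    (h4 : (commutator G).index = 4) :
    ∃ C : Subgroup G, C.index = 2 ∧ IsCyclic C ∧
      ∀ M : Subgroup G, M.index = 2 → M ≠ C → ¬ IsCyclic M ∧ (commutator M).index = 4 := by
  have hG : IsPGroup 2 G := IsPGroup.of_card hm
  obtain ⟨C, hC, hCi⟩ := Cfsg.Agent.Transfer.TausskyTwoGroup.exists_isCyclic_index_two m hm h4
  have hZ := Cfsg.Agent.Transfer.TausskyTwoGroup.card_center_of_index_commutator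
    (by omega : 3 ≤ m) hm h4
  obtain ⟨j, hj⟩ : ∃ j, m = j + 4 := ⟨m - 4, by omega⟩
  subst hj
  refine ⟨C, hCi, hC, ?_⟩
  have hCn : C.Normal := Subgroup.normal_of_index_eq_two hCi
  have hcomm : ∀ a ∈ C, ∀ b ∈ C, a * b = b * a := by
    intro a ha b hb
    let _ := IsCyclic.commGroup (α := C)
    exact congrArg Subtype.val (mul_comm (⟨a, ha⟩ : C) ⟨b, hb⟩)
  -- an element of `C` commuting with an element outside `C` is central
  have hcent : ∀ x : G, x ∉ C → ∀ c ∈ C, c * x = x * c → c ∈ center G := by
    intro x hx c hc hcx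
    rw [mem_center_iff]
    intro g
    by_cases hg : g ∈ C
    · exact hcomm g hg c hc
    · have h1 : g * x⁻¹ ∈ C := by
        have := (Subgroup.mul_mem_iff_of_index_two hCi (a := g) (b := x⁻¹)).2
        exact this (by simp [hg, hx])
      have h2 := hcomm _ h1 c hc
      have h3 : g = (g * x⁻¹) * x := by group
      calc g * c = (g * x⁻¹) * (x * c) := by group
        _ = (g * x⁻¹) * c * x := by rw [← hcx]; group
        _ = c * (g * x⁻¹) * x := by rw [h2]
        _ = c * g := by group
  -- elements outside `C` have order dividing `4`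
  have hpow : ∀ x : G, x ∉ C → x ^ 4 = 1 := by
    intro x hx
    have h1 : x ^ 2 ∈ C := by
      have := C.pow_index_mem x
      rwa [hCi] at this
    have h2 : x ^ 2 ∈ center G := hcent x hx _ h1 (by rw [← pow_succ, ← pow_succ'])
    have h3 : (⟨x ^ 2, h2⟩ : center G) ^ Nat.card (center G) = 1 := pow_card_eq_one'
    rw [hZ] at h3
    have h4 : (x ^ 2) ^ 2 = 1 := congrArg Subtype.val h3
    rw [← pow_mul] at h4
    exact h4
  intro M hM hMC
  have hMcard : Nat.card M = 2 ^ (j + 3) := card_of_index_two hm M hM
  have hCcard : Nat.card C = 2 ^ (j + 3) := card_of_index_two hm C hCi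
  have hnle : ¬ M ≤ C := fun h => hMC (Subgroup.eq_of_le_of_card_ge h (by rw [hMcard, hCcard]))
  obtain ⟨x, hxM, hxC⟩ := SetLike.not_le_iff_exists.1 hnle
  have hMnc : ¬ IsCyclic M := by
    intro hc
    obtain ⟨b, hb⟩ := hc.exists_generator
    have hbC : (b : G) ∉ C := by
      intro hbC
      apply hnle
      intro y hy
      obtain ⟨i, hi⟩ := Subgroup.mem_zpowers_iff.1 (hb ⟨y, hy⟩)
      have : (b : G) ^ i = y := congrArg Subtype.val hi
      rw [← this]
      exact C.zpow_mem hbC i
    have h1 := hpow _ hbC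
    have h2 : orderOf (b : G) = 2 ^ (j + 3) := by
      rw [Subgroup.orderOf_coe, orderOf_eq_card_of_forall_mem_zpowers hb, hMcard]
    have h3 := orderOf_dvd_of_pow_eq_one h1
    rw [h2, show (4 : ℕ) = 2 ^ 2 by norm_num] at h3
    have h5 := (Nat.pow_dvd_pow_iff_le_right (by norm_num : 1 < 2)).1 h3
    omega
  refine ⟨hMnc, ?_⟩
  have hfour := four_dvd_index_commutator (hG.to_subgroup M) hMnc
  -- the commutators `[c, x]`
  let D : Subgroup G := M ⊓ C
  have hDcard : Nat.card D = 2 ^ (j + 2) := by
    have h1 : D.relIndex M = 2 := by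
      change (M ⊓ C).relIndex M = 2
      rw [Subgroup.inf_relIndex_left]
      have h2 : C.relIndex M ∣ 2 := hCi ▸ Subgroup.relIndex_dvd_index_of_normal C M
      rcases (Nat.dvd_prime Nat.prime_two).1 h2 with h3 | h3
      · exact absurd (Subgroup.relIndex_eq_one.1 h3) hnle
      · exact h3
    have h2 := Subgroup.card_mul_index (D.subgroupOf M)
    rw [hMcard] at h2
    change Nat.card (D.subgroupOf M) * D.relIndex M = _ at h2
    rw [h1, Nat.card_congr (Subgroup.subgroupOfEquivOfLe (inf_le_left : D ≤ M)).toEquiv,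
      pow_succ] at h2
    exact Nat.eq_of_mul_eq_mul_right (by norm_num) h2
  let f : D →* G :=
    { toFun := fun c => (c : G) * (x * (c : G)⁻¹ * x⁻¹)
      map_one' := by simp
      map_mul' := fun a b => by
        have h1 : x * (a : G)⁻¹ * x⁻¹ ∈ C := hCn.conj_mem _ (C.inv_mem a.2.2) x
        have h2 : (b : G) * (x * (b : G)⁻¹ * x⁻¹) ∈ C :=
          C.mul_mem b.2.2 (hCn.conj_mem _ (C.inv_mem b.2.2) x)
        have h3 := hcomm _ h1 _ h2
        push_cast
        calc (a : G) * b * (x * ((a : G) * b)⁻¹ * x⁻¹)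
            = a * (((b : G) * (x * (b : G)⁻¹ * x⁻¹)) * (x * (a : G)⁻¹ * x⁻¹)) := by group
          _ = a * ((x * (a : G)⁻¹ * x⁻¹) * ((b : G) * (x * (b : G)⁻¹ * x⁻¹))) := by rw [h3]
          _ = a * (x * (a : G)⁻¹ * x⁻¹) * (b * (x * (b : G)⁻¹ * x⁻¹)) := by group }
  have hf : ∀ c : D, f c = ⁅(c : G), x⁆ := by
    intro c
    change (c : G) * (x * (c : G)⁻¹ * x⁻¹) = _
    rw [commutatorElement_def]; group
  have hker : Nat.card f.ker ≤ 2 := by
    rw [← hZ]
    refine Nat.card_le_card_of_injective
      (fun c : f.ker => (⟨(c : D), hcent x hxC _ c.1.2.2 ?_⟩ : center G)) ?_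
    · have h1 : f c.1 = 1 := c.2
      rw [hf, commutatorElement_eq_one_iff_mul_comm] at h1
      exact h1
    · intro a b hab
      apply Subtype.ext
      apply Subtype.ext
      exact congrArg (fun z : center G => (z : G)) hab
  have hrange : f.range ≤ (commutator M).map M.subtype := by
    rintro _ ⟨c, rfl⟩
    rw [hf]
    refine ⟨⁅(⟨c, c.2.1⟩ : M), ⟨x, hxM⟩⁆, ?_, ?_⟩
    · exact Subgroup.commutator_mem_commutator (mem_top _) (mem_top _)
    · simp
  have hcardr : Nat.card f.range * Nat.card f.ker = 2 ^ (j + 2) := by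
    rw [← hDcard, ← Subgroup.index_ker, mul_comm]
    exact f.ker.card_mul_index
  have hle1 : Nat.card f.range ≤ Nat.card (commutator M) := by
    rw [← Subgroup.card_map_of_injective M.subtype_injective (K := commutator M)]
    exact Nat.le_of_dvd Nat.card_pos (Subgroup.card_dvd_of_le hrange)
  have hci := (commutator M).card_mul_index
  rw [hMcard] at hci
  have hle4 : (commutator M).index ≤ 4 := by
    by_contra hlt
    push Not at hlt
    have h1 : 2 ^ (j + 2) ≤ 2 * Nat.card (commutator M) := by
      rw [← hcardr, mul_comm]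
      exact Nat.mul_le_mul hker hle1
    have h2 : Nat.card (commutator M) * 4 < Nat.card (commutator M) * (commutator M).index :=
      Nat.mul_lt_mul_of_pos_left hlt Nat.card_pos
    rw [hci] at h2
    have h3 : (2 : ℕ) ^ (j + 3) = 2 * 2 ^ (j + 2) := by ring
    omega
  have hne0 : (commutator M).index ≠ 0 := Subgroup.index_ne_zero_of_finite
  exact le_antisymm hle4 (Nat.le_of_dvd (Nat.pos_of_ne_zero hne0) hfour)

/-- In a group of order 16 with derived subgroup of order 2, a maximal subgroup is commutative iff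
it contains the centre. -/
theorem center_index_of_card_sixteen {H : Type*} [Group H] [Finite H] (hH : Nat.card H = 16)
    (h2 : Nat.card (commutator H) = 2) : (center H).index = 4 := by
  have hH' : IsPGroup 2 H := IsPGroup.of_card (n := 4) (by rw [hH]; norm_num)
  -- centralizers have index at most two
  have hcen : ∀ x : H, x ∉ center H → Nat.card (centralizer ({x} : Set H)) = 8 := by
    intro x hx
    have h1 : (centralizer ({x} : Set H)).index ≤ 2 := by
      have e : Nat.card (H ⧸ centralizer ({x} : Set H)) ≤ Nat.card (commutator H) := by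
        refine Nat.card_le_card_of_injective
          (fun q => Quotient.liftOn' q (fun h : H => (⟨h * x * h⁻¹ * x⁻¹, ?_⟩ : commutator H)) ?_) ?_
        · have : h * x * h⁻¹ * x⁻¹ = ⁅h, x⁆ := by rw [commutatorElement_def]
          rw [this]
          exact Subgroup.commutator_mem_commutator (mem_top _) (mem_top _)
        · intro a b hab
          have h3 : a⁻¹ * b ∈ centralizer ({x} : Set H) := QuotientGroup.leftRel_apply.1 hab
          rw [mem_centralizer_singleton_iff] at h3
          apply Subtype.ext
          change a * x * a⁻¹ * x⁻¹ = b * x * b⁻¹ * x⁻¹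
          have h4 : a * x * a⁻¹ = b * x * b⁻¹ := by
            calc a * x * a⁻¹ = a * (x * (a⁻¹ * b)) * b⁻¹ := by group
              _ = a * ((a⁻¹ * b) * x) * b⁻¹ := by rw [h3]
              _ = b * x * b⁻¹ := by group
          rw [h4]
        · intro q₁ q₂
          refine Quotient.inductionOn₂' q₁ q₂ fun a b hab => ?_
          have h4 : a * x * a⁻¹ * x⁻¹ = b * x * b⁻¹ * x⁻¹ := congrArg Subtype.val hab
          have h5 : a * x * a⁻¹ = b * x * b⁻¹ := mul_right_cancel h4
          apply Quotient.sound'
          rw [QuotientGroup.leftRel_apply, mem_centralizer_singleton_iff]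
          calc a⁻¹ * b * x = a⁻¹ * (b * x * b⁻¹) * b := by group
            _ = a⁻¹ * (a * x * a⁻¹) * b := by rw [h5]
            _ = x * (a⁻¹ * b) := by group
      rw [h2] at e
      exact e
    have h3 : (centralizer ({x} : Set H)).index ≠ 1 := by
      rw [Ne, Subgroup.index_eq_one]
      intro h
      apply hx
      rw [mem_center_iff]
      intro g
      have : g ∈ centralizer ({x} : Set H) := by rw [h]; trivial
      exact mem_centralizer_singleton_iff.1 this
    have h4 : (centralizer ({x} : Set H)).index ≠ 0 := Subgroup.index_ne_zero_of_finite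
    have h5 : (centralizer ({x} : Set H)).index = 2 := by omega
    have h6 := (centralizer ({x} : Set H)).card_mul_index
    rw [h5, hH] at h6
    omega
  -- two elements which do not commute
  obtain ⟨x, y, hxy⟩ : ∃ x y : H, x * y ≠ y * x := by
    by_contra hcon
    push Not at hcon
    have : commutator H = ⊥ := by
      rw [_root_.commutator_def, Subgroup.commutator_eq_bot_iff_le_centralizer]
      intro a _
      rw [mem_centralizer_iff]
      intro b _
      exact hcon b a
    rw [this, Subgroup.card_bot] at h2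
    omega
  have hxZ : x ∉ center H := fun h => hxy ((mem_center_iff.1 h y).symm)
  have hyZ : y ∉ center H := fun h => hxy (mem_center_iff.1 h x)
  let Cx := centralizer ({x} : Set H)
  let Cy := centralizer ({y} : Set H)
  have hCx : Nat.card Cx = 8 := hcen x hxZ
  have hCy : Nat.card Cy = 8 := hcen y hyZ
  have hCxi : Cx.index = 2 := by
    have := Cx.card_mul_index
    rw [hCx, hH] at this; omega
  have hCyi : Cy.index = 2 := by
    have := Cy.card_mul_index
    rw [hCy, hH] at this; omega
  let W := Cx ⊓ Cy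
  have hxCx : x ∈ Cx := mem_centralizer_singleton_iff.2 rfl
  have hxCy : x ∉ Cy := fun h => hxy (mem_centralizer_singleton_iff.1 h)
  have hyCx : y ∉ Cx := fun h => hxy ((mem_centralizer_singleton_iff.1 h).symm)
  -- subgroups strictly between
  have hstrict : ∀ A B : Subgroup H, A < B → Nat.card B = 8 → Nat.card A ≤ 4 := by
    intro A B hAB hB
    have h1 : Nat.card A ∣ 8 := hB ▸ Subgroup.card_dvd_of_le hAB.le
    have h3 : Nat.card A ≠ 8 := by
      intro h
      exact hAB.ne (Subgroup.eq_of_le_of_card_ge hAB.le (by rw [h, hB]))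
    have h4 := Nat.le_of_dvd (by norm_num) h1
    have h5 : ¬ (Nat.card A = 5) := by intro h; rw [h] at h1; omega
    have h6 : ¬ (Nat.card A = 6) := by intro h; rw [h] at h1; omega
    have h7 : ¬ (Nat.card A = 7) := by intro h; rw [h] at h1; omega
    omega
  have hWle : Nat.card W ≤ 4 := by
    refine hstrict W Cx (lt_of_le_of_ne inf_le_left fun h => ?_) hCx
    have : x ∈ W := by rw [h]; exact hxCx
    exact hxCy this.2
  have hWge : 4 ≤ Nat.card W := by
    have h1 : W.index ≤ 4 := by
      have := Subgroup.index_inf_le (H := Cx) (K := Cy)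
      rw [hCxi, hCyi] at this
      exact this
    have h3 := W.card_mul_index
    rw [hH] at h3
    by_contra hlt
    push Not at hlt
    have : Nat.card W * W.index ≤ 3 * 4 := Nat.mul_le_mul (by omega) h1
    omega
  have hW : Nat.card W = 4 := le_antisymm hWle hWge
  have hWab : ∀ a ∈ W, ∀ b ∈ W, a * b = b * a := by
    have : IsMulCommutative W := IsPGroup.isMulCommutative_of_card_eq_prime_sq (p := 2) (by rw [hW]; norm_num)
    intro a ha b hb
    exact congrArg Subtype.val (this.is_comm.comm ⟨a, ha⟩ ⟨b, hb⟩)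
  have hWZ : W ≤ center H := by
    intro w hw
    by_contra hwZ
    let Cw := centralizer ({w} : Set H)
    have hCw : Nat.card Cw = 8 := hcen w hwZ
    have hxw : x ∈ Cw := mem_centralizer_singleton_iff.2 (mem_centralizer_singleton_iff.1 hw.1).symm
    have hyw : y ∈ Cw := mem_centralizer_singleton_iff.2 (mem_centralizer_singleton_iff.1 hw.2).symm
    have hWCw : W ≤ Cw := fun a ha => mem_centralizer_singleton_iff.2 (hWab a ha w hw)
    have h1 : W < Cw ⊓ Cx := by
      refine lt_of_le_of_ne (le_inf hWCw inf_le_left) fun h => ?_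
      have : x ∈ W := by rw [h]; exact ⟨hxw, hxCx⟩
      exact hxCy this.2
    have h3 : Cw ⊓ Cx = Cx := by
      by_contra hne
      have h4 := hstrict (Cw ⊓ Cx) Cx (lt_of_le_of_ne inf_le_right hne) hCx
      have h5 : Nat.card W < Nat.card (Cw ⊓ Cx : Subgroup H) :=
        lt_of_le_of_ne (Nat.le_of_dvd Nat.card_pos (Subgroup.card_dvd_of_le h1.le))
          fun h => h1.ne (Subgroup.eq_of_le_of_card_ge h1.le (by rw [h]))
      omega
    have h4 : Cx ≤ Cw := inf_eq_right.1 h3
    have h5 : Cx = Cw := Subgroup.eq_of_le_of_card_ge h4 (by rw [hCx, hCw])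
    exact hyCx (h5 ▸ hyw)
  have hZW : center H ≤ W := by
    intro z hz
    exact ⟨mem_centralizer_singleton_iff.2 (mem_center_iff.1 hz x).symm,
      mem_centralizer_singleton_iff.2 (mem_center_iff.1 hz y).symm⟩
  have hZ : center H = W := le_antisymm hZW hWZ
  have h1 := (center H).card_mul_index
  rw [hZ, hW, hH] at h1
  rw [hZ]
  omega

/-- **The maximal subgroups `M` with `|M : M'| = 4` of a 2-group with `|G : G'| > 4`.** -/
theorem two_dvd_card_index_four {m : ℕ} (hm : Nat.card G = 2 ^ m) (hm4 : 4 ≤ m)
    (hnc : ¬ IsCyclic G) (h4 : (commutator G).index ≠ 4) :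
    2 ∣ Nat.card {M : {M : Subgroup G // M.index = 2} // (commutator M.1).index = 4} := by
  have hG : IsPGroup 2 G := IsPGroup.of_card hm
  by_cases hex : ∃ M : Subgroup G, M.index = 2 ∧ (commutator M).index = 4
  swap
  · have : IsEmpty {M : {M : Subgroup G // M.index = 2} // (commutator M.1).index = 4} :=
      ⟨fun M => hex ⟨M.1.1, M.1.2, M.2⟩⟩
    rw [Nat.card_of_isEmpty]
    exact dvd_zero 2
  obtain ⟨M₀, hM₀, hM₀c⟩ := hex
  obtain ⟨j, hj⟩ : ∃ j, m = j + 4 := ⟨m - 4, by omega⟩
  subst hj
  have hcard2 : ∀ M : Subgroup G, M.index = 2 → Nat.card M = 2 ^ (j + 3) := fun M hM =>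
    card_of_index_two hm M hM
  have hmapcard : ∀ M : Subgroup G,
      Nat.card ((commutator M).map M.subtype) = Nat.card (commutator M) := fun M =>
    Subgroup.card_map_of_injective M.subtype_injective (K := commutator M)
  have hmaple : ∀ M : Subgroup G, (commutator M).map M.subtype ≤ commutator G := by
    intro M
    rw [_root_.commutator_def, _root_.commutator_def, Subgroup.map_commutator]
    exact Subgroup.commutator_mono le_top le_top
  -- the order of `G'`
  have hfour := four_dvd_index_commutator hG hnc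
  have hG'le : Nat.card (commutator G) ∣ 2 ^ (j + 1) := by
    have h5 := (commutator G).card_mul_index
    obtain ⟨i, hi⟩ := IsPGroup.iff_card.1 (hG.to_subgroup (commutator G))
    obtain ⟨l, hl, hl'⟩ := (Nat.dvd_prime_pow Nat.prime_two).1
      ((hm ▸ (commutator G).index_dvd_card : (commutator G).index ∣ 2 ^ (j + 4)))
    rw [hm, hi, hl', ← pow_add] at h5
    have h6 : i + l = j + 4 := Nat.pow_right_injective le_rfl h5
    have h7 : 2 ≤ l := by
      rw [hl'] at hfour
      have : (2 : ℕ) ^ 2 ∣ 2 ^ l := by norm_num; exact hfour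
      exact (Nat.pow_dvd_pow_iff_le_right (by norm_num)).1 this
    have h9 : l ≠ 2 := by
      rintro rfl
      exact h4 hl'
    rw [hi]
    exact pow_dvd_pow 2 (by omega)
  have hM₀card : Nat.card (commutator M₀) = 2 ^ (j + 1) := by
    have h1 := (commutator M₀).card_mul_index
    rw [hM₀c, hcard2 M₀ hM₀] at h1
    have : (2 : ℕ) ^ (j + 3) = 2 ^ (j + 1) * 4 := by ring
    omega
  have hG' : commutator G = (commutator M₀).map M₀.subtype := by
    refine (Subgroup.eq_of_le_of_card_ge (hmaple M₀) ?_).symm
    rw [hmapcard, hM₀card]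
    exact Nat.le_of_dvd (by positivity) hG'le
  have hG'card : Nat.card (commutator G) = 2 ^ (j + 1) := by rw [hG', hmapcard, hM₀card]
  -- `G'` is cyclic
  have hcyc : IsCyclic (commutator G) := by
    obtain ⟨C, hC, hCi⟩ := Cfsg.Agent.Transfer.TausskyTwoGroup.exists_isCyclic_index_two (X := M₀)
      (j + 3) (hcard2 M₀ hM₀) hM₀c
    have h1 : commutator M₀ ≤ C := commutator_le_of_index_two C hCi
    have h3 : IsCyclic (commutator M₀) := by
      have := Subgroup.isCyclic_of_le h1
      exact this
    rw [hG']
    exact isCyclic_of_surjective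
      ((commutator M₀).equivMapOfInjective M₀.subtype M₀.subtype_injective).toMonoidHom
      ((commutator M₀).equivMapOfInjective M₀.subtype M₀.subtype_injective).surjective
  obtain ⟨⟨g, hg⟩, hgen⟩ := hcyc.exists_generator
  have hgen' : ∀ x ∈ commutator G, ∃ i : ℤ, g ^ i = x := by
    intro x hx
    obtain ⟨i, hi⟩ := Subgroup.mem_zpowers_iff.1 (hgen ⟨x, hx⟩)
    exact ⟨i, by simpa using congrArg Subtype.val hi⟩
  have hgord : orderOf g = 2 ^ (j + 1) := by
    have := orderOf_eq_card_of_forall_mem_zpowers hgen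
    rw [Subgroup.orderOf_mk, hG'card] at this
    exact this
  let L : Subgroup G := zpowers (g ^ 2)
  have hLcard : Nat.card L = 2 ^ j := by
    rw [Nat.card_zpowers, orderOf_pow' g (by norm_num), hgord, pow_succ]
    have : Nat.gcd (2 ^ j * 2) 2 = 2 := Nat.gcd_eq_right (dvd_mul_left 2 _)
    rw [this, Nat.mul_div_cancel _ (by norm_num)]
  have hLG' : L ≤ commutator G := by
    rw [zpowers_le]
    exact pow_mem hg 2
  have hLn : L.Normal := by
    refine ⟨?_⟩
    rintro n hn h
    obtain ⟨i, rfl⟩ := mem_zpowers_iff.1 hn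
    obtain ⟨k, hk⟩ := hgen' (h * g * h⁻¹) ((inferInstance : (commutator G).Normal).conj_mem g hg h)
    rw [← conj_zpow, ← conj_pow, ← hk, ← zpow_natCast, ← zpow_mul, ← zpow_mul]
    refine mem_zpowers_iff.2 ⟨k * i, ?_⟩
    rw [← zpow_natCast, ← zpow_mul]
    congr 1
    push_cast
    ring
  have hodd : ∀ x ∈ commutator G, x ∉ L → orderOf x = 2 ^ (j + 1) := by
    intro x hx hxL
    obtain ⟨i, rfl⟩ := hgen' x hx
    have hi : ¬ (2 : ℤ) ∣ i := by
      rintro ⟨k, rfl⟩
      apply hxL
      refine mem_zpowers_iff.2 ⟨k, ?_⟩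
      rw [← zpow_natCast, ← zpow_mul]
      push_cast
      ring_nf
    have h1 : zpowers (g ^ i) = zpowers g := by
      refine le_antisymm (by rw [zpowers_le]; exact zpow_mem (mem_zpowers g) i) ?_
      rw [zpowers_le]
      have hcop : IsCoprime ((2 : ℤ) ^ (j + 1)) i :=
        IsCoprime.pow_left ((Int.prime_two.coprime_iff_not_dvd).2 hi)
      obtain ⟨a, b, hab⟩ := hcop
      refine mem_zpowers_iff.2 ⟨b, ?_⟩
      have h3 : g ^ ((2 : ℤ) ^ (j + 1)) = 1 := by
        have := pow_orderOf_eq_one g
        rw [hgord] at this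
        rw [← this, ← zpow_natCast]
        push_cast
        rfl
      calc (g ^ i) ^ b = (g ^ ((2 : ℤ) ^ (j + 1))) ^ a * (g ^ i) ^ b := by rw [h3]; simp
        _ = g ^ (a * 2 ^ (j + 1) + b * i) := by
          rw [← zpow_mul, ← zpow_mul, ← zpow_add]
          ring_nf
        _ = g := by rw [hab, zpow_one]
    rw [← Nat.card_zpowers, h1, Nat.card_zpowers, hgord]
  -- the quotient
  let H := G ⧸ L
  have hHcard : Nat.card H = 16 := by
    have h1 := L.card_mul_index
    rw [hLcard, hm] at h1
    have h3 : (2 : ℕ) ^ (j + 4) = 2 ^ j * 16 := by ring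
    rw [h3] at h1
    exact Nat.eq_of_mul_eq_mul_left (by positivity) h1
  have hH'card : Nat.card (commutator H) = 2 := by
    have h1 : (commutator H).index = (commutator G).index :=
      Cfsg.Agent.Transfer.TausskyTwoGroup.index_commutator_quotient L hLG'
    have h3 := (commutator G).card_mul_index
    rw [hG'card, hm] at h3
    have h5 : (2 : ℕ) ^ (j + 4) = 2 ^ (j + 1) * 8 := by ring
    rw [h5] at h3
    have h6 : (commutator G).index = 8 := Nat.eq_of_mul_eq_mul_left (by positivity) h3
    have h7 := (commutator H).card_mul_index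
    rw [h1, h6, hHcard] at h7
    omega
  have hZi := center_index_of_card_sixteen hHcard hH'card
  let π : G →* H := QuotientGroup.mk' L
  let W : Subgroup G := (center H).comap π
  have hWn : W.Normal := inferInstance
  have hWi : W.index = 4 := by
    rw [Subgroup.index_comap_of_surjective _ (QuotientGroup.mk'_surjective L)]
    exact hZi
  have hWt : W ≠ ⊤ := by
    intro h
    rw [h, Subgroup.index_top] at hWi
    omega
  have hWmem : ∀ w ∈ W, ∀ x : G, π x * π w = π w * π x := fun w hw x => mem_center_iff.1 hw (π x)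
  have hiff : ∀ M : {M : Subgroup G // M.index = 2},
      (commutator M.1).index = 4 ↔ ¬ (W ≤ M.1) := by
    intro M
    have hMcard := hcard2 M.1 M.2
    constructor
    · intro h hWM
      -- `M / L` is commutative
      have h1 : W.relIndex M.1 = 2 := by
        have h3 := Subgroup.relIndex_mul_index hWM
        rw [M.2, hWi] at h3
        omega
      have hab : ∀ a ∈ M.1, ∀ b ∈ M.1, π a * π b = π b * π a := by
        intro a ha b hb
        by_cases haW : a ∈ W
        · exact (hWmem a haW b).symm
        · by_cases hbW : b ∈ W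
          · exact hWmem b hbW a
          · have h3 : a⁻¹ * b ∈ W := by
              have h5 := (Subgroup.mul_mem_iff_of_index_two (H := W.subgroupOf M.1) h1
                (a := (⟨a⁻¹, inv_mem ha⟩ : M.1)) (b := ⟨b, hb⟩)).2
              have h6 : (⟨a⁻¹, inv_mem ha⟩ : M.1) * ⟨b, hb⟩ ∈ W.subgroupOf M.1 := by
                apply h5
                simp [Subgroup.mem_subgroupOf, haW, hbW]
              exact h6
            have h5 : b = a * (a⁻¹ * b) := by group
            rw [h5, map_mul, ← mul_assoc, mul_assoc (π a) _ (π a), ← hWmem _ h3 a, mul_assoc]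
      have h3 : (commutator M.1).map M.1.subtype ≤ L := by
        rw [_root_.commutator_def, Subgroup.map_commutator, Subgroup.commutator_le]
        rintro _ ⟨a, -, rfl⟩ _ ⟨b, -, rfl⟩
        have h5 : π ⁅M.1.subtype a, M.1.subtype b⁆ = 1 := by
          rw [map_commutatorElement, commutatorElement_eq_one_iff_mul_comm]
          exact hab _ a.2 _ b.2
        exact (QuotientGroup.eq_one_iff _).1 h5
      have h5 := Nat.le_of_dvd Nat.card_pos (Subgroup.card_dvd_of_le h3)
      rw [hmapcard, hLcard] at h5
      have h6 := (commutator M.1).card_mul_index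
      rw [h, hMcard] at h6
      have h7 : (2 : ℕ) ^ (j + 3) = 2 ^ j * 8 := by ring
      have h8 : 0 < 2 ^ j := by positivity
      omega
    · intro h
      obtain ⟨w, hw, hwM⟩ := SetLike.not_le_iff_exists.1 h
      -- there is a commutator outside `L`
      obtain ⟨a, ha, b, hb, hab⟩ : ∃ a ∈ M.1, ∃ b ∈ M.1, ⁅a, b⁆ ∉ L := by
        by_contra hcon
        push Not at hcon
        have hab : ∀ a ∈ M.1, ∀ b ∈ M.1, π a * π b = π b * π a := by
          intro a ha b hb
          rw [← commutatorElement_eq_one_iff_mul_comm, ← map_commutatorElement]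
          exact (QuotientGroup.eq_one_iff _).2 (hcon a ha b hb)
        -- every element commutes with every element
        have hdec : ∀ x : G, ∃ a ∈ M.1, ∃ u ∈ W, x = a * u := by
          intro x
          by_cases hx : x ∈ M.1
          · exact ⟨x, hx, 1, W.one_mem, by simp⟩
          · refine ⟨x * w⁻¹, ?_, w, hw, by group⟩
            refine (Subgroup.mul_mem_iff_of_index_two M.2).2 ?_
            simp [hx, hwM]
        have hall : ∀ x y : H, x * y = y * x := by
          intro x y
          obtain ⟨x, rfl⟩ := QuotientGroup.mk'_surjective L x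
          obtain ⟨y, rfl⟩ := QuotientGroup.mk'_surjective L y
          obtain ⟨a, ha, u, hu, rfl⟩ := hdec x
          obtain ⟨b, hb, v, hv, rfl⟩ := hdec y
          change π (a * u) * π (b * v) = π (b * v) * π (a * u)
          simp only [map_mul]
          have e1 : Commute (π a) (π b) := hab a ha b hb
          have e2 : Commute (π u) (π b) := (hWmem u hu b).symm
          have e3 : Commute (π a) (π v) := hWmem v hv a
          have e4 : Commute (π u) (π v) := (hWmem u hu v).symm
          exact ((e1.mul_right e3).mul_left (e2.mul_right e4))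
        have : commutator H = ⊥ := by
          rw [_root_.commutator_def, Subgroup.commutator_eq_bot_iff_le_centralizer]
          intro a _
          rw [mem_centralizer_iff]
          intro b _
          exact hall b a
        rw [this, Subgroup.card_bot] at hH'card
        omega
      have hmem : ⁅a, b⁆ ∈ (commutator M.1).map M.1.subtype :=
        ⟨⁅(⟨a, ha⟩ : M.1), ⟨b, hb⟩⁆, Subgroup.commutator_mem_commutator (mem_top _) (mem_top _),
          by simp⟩
      have hord := hodd _ (hmaple M.1 hmem) hab
      have h1 : 2 ^ (j + 1) ∣ Nat.card (commutator M.1) := by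
        rw [← hmapcard, ← hord]
        have := orderOf_dvd_natCard (⟨_, hmem⟩ : (commutator M.1).map M.1.subtype)
        rwa [Subgroup.orderOf_mk] at this
      have h3 : Nat.card (commutator M.1) ∣ 2 ^ (j + 1) := by
        rw [← hG'card, ← hmapcard]
        exact Subgroup.card_dvd_of_le (hmaple M.1)
      have h5 : Nat.card (commutator M.1) = 2 ^ (j + 1) := Nat.dvd_antisymm h3 h1
      have h6 := (commutator M.1).card_mul_index
      rw [h5, hMcard] at h6
      have h7 : (2 : ℕ) ^ (j + 3) = 2 ^ (j + 1) * 4 := by ring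
      rw [h7] at h6
      exact Nat.eq_of_mul_eq_mul_left (by positivity) h6
  have hsplit := card_split (fun M : {M : Subgroup G // M.index = 2} => W ≤ M.1)
  have h1 : Nat.card {M : {M : Subgroup G // M.index = 2} // W ≤ M.1} ≡ 1 [MOD 2] := by
    have := card_index_modEq_one hG W hWt
    have e : Nat.card {M : {M : Subgroup G // M.index = 2} // W ≤ M.1} =
        Nat.card {M : Subgroup G // M.index = 2 ∧ W ≤ M} :=
      Nat.card_congr (Equiv.subtypeSubtypeEquivSubtypeInter _ _)
    rw [e]
    exact this
  have h3 : Nat.card {M : {M : Subgroup G // M.index = 2} // ¬ W ≤ M.1} =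
      Nat.card {M : {M : Subgroup G // M.index = 2} // (commutator M.1).index = 4} :=
    Nat.card_congr (Equiv.subtypeEquivRight fun M => (hiff M).symm)
  have hnt : Nontrivial G := by
    by_contra h
    rw [not_nontrivial_iff_subsingleton] at h
    exact hnc inferInstance
  have h5 := card_index_modEq hG hnt
  rw [← hsplit, h3] at h5
  rw [← Nat.modEq_zero_iff_dvd]
  exact Nat.ModEq.add_left_cancel h1 h5

end two

end Cfsg.Agent.H530.Kul
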